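import Cfsg.Agent.L.Golay.Comp
/-!
Uniqueness of the biplane with 11 points.
-/
set_option autoImplicit false
namespace CfsgL.Biplane
open Finset CfsgL.Comp

/-- a biplane on 11 points and 11 blocks -/
structure IsBiplane {ι κ : Type*} [Fintype ι] [Fintype κ] (R : ι → κ → Prop)
    [∀ i k, Decidable (R i k)] : Prop where
  ci : Fintype.card ι = 11
  ck : Fintype.card κ = 11
  row : ∀ i, (univ.filter (fun k => R i k)).card = 5
  col : ∀ k, (univ.filter (fun i => R i k)).card = 5
  row2 : ∀ i j, i ≠ j → (univ.filter (fun k => R i k ∧ R j k)).card = 2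
  col2 : ∀ k l, k ≠ l → (univ.filter (fun i => R i k ∧ R i l)).card = 2

/-- edges through a vertex, as a mask -/
def inc (v : ℕ) : ℕ := [15, 113, 402, 676, 840].getD v 0

/-- the two classes of pentagons -/
def clA : List ℕ := [220, 358, 425, 570, 707, 789]
def clB : List ℕ := [234, 316, 453, 598, 665, 803]

/-- the action of the transposition (0 1) on the edges -/
def sg (j : ℕ) : ℕ := [0, 4, 5, 6, 1, 2, 3, 7, 8, 9].getD j 0

theorem pent_cases : ∀ x < 1024, popR 10 x = 5 → (∀ v < 5, popR 10 (x &&& inc v) = 2) →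
    x ∈ clA ∨ x ∈ clB := by decide +kernel

theorem clAB : ∀ x ∈ clA, ∀ y ∈ clB, popR 10 (x &&& y) ≠ 2 := by decide +kernel

theorem sw_clB : ∀ y ∈ clB, ∀ x < 1024, (∀ j < 10, x.testBit j = y.testBit (sg j)) → x ∈ clA := by
  decide +kernel

theorem edge_idx : ∀ s : Finset (Fin 5), s.card = 2 →
    ∃ j : Fin 10, ∀ v : Fin 5, v ∈ s ↔ (inc v.val).testBit j.val = true := by decide

theorem inc_sw : ∀ (v : Fin 5) (j : Fin 10), (inc (Equiv.swap (0 : Fin 5) 1 v).val).testBit j.val =
    (inc v.val).testBit (sg j.val) := by decide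

theorem sg_lt : ∀ j < 10, sg j < 10 := by decide
theorem sg_sg : ∀ j < 10, sg (sg j) = j := by decide

theorem inc_inj : ∀ j l : Fin 10, (∀ v : Fin 5, (inc v.val).testBit j.val = (inc v.val).testBit l.val) →
    j = l := by decide

theorem card_testBit (x : ℕ) : (univ.filter (fun j : Fin 10 => x.testBit j.val = true)).card =
    popR 10 x := by
  rw [popR_eq, Finset.sum_range, card_filter]
  apply sum_congr rfl
  intro j _
  cases x.testBit j.val <;> rfl

section
variable {ι κ : Type*} [Fintype ι] [Fintype κ] {R : ι → κ → Prop} [∀ i k, Decidable (R i k)]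

/-- the trace of a block on the labelled base block -/
noncomputable def tr (R : ι → κ → Prop) [∀ i k, Decidable (R i k)] (e0 : Fin 5 → ι) (k : κ) :
    Finset (Fin 5) := univ.filter (fun v => R (e0 v) k)

theorem card_tr (h : IsBiplane R) (k0 : κ) (e0 : Fin 5 ≃ {i // R i k0}) (k : κ) (hk : k ≠ k0) :
    (tr R (fun v => (e0 v).1) k).card = 2 := by
  classical
  rw [← h.col2 k0 k (Ne.symm hk)]
  rw [tr, ← card_map ((e0.toEmbedding.trans (Function.Embedding.subtype _)))]
  congr 1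
  ext i
  simp only [mem_map, mem_filter, mem_univ, true_and]
  constructor
  · rintro ⟨v, hv, rfl⟩
    exact ⟨(e0 v).2, hv⟩
  · rintro ⟨h1, h2⟩
    refine ⟨e0.symm ⟨i, h1⟩, ?_, ?_⟩
    · rw [Equiv.apply_symm_apply]; exact h2
    · change (e0 (e0.symm ⟨i, h1⟩)).1 = i
      rw [Equiv.apply_symm_apply]

theorem tr_inj (h : IsBiplane R) (k0 : κ) (e0 : Fin 5 ≃ {i // R i k0}) (k l : κ) (hk : k ≠ k0)
    (hl : l ≠ k0) (hkl : tr R (fun v => (e0 v).1) k = tr R (fun v => (e0 v).1) l) : k = l := by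
  classical
  by_contra hne
  have h2 := card_tr h k0 e0 k hk
  obtain ⟨a, b, hab, hs⟩ := card_eq_two.1 h2
  have hak : R (e0 a).1 k ∧ R (e0 b).1 k := by
    constructor
    · have : a ∈ tr R (fun v => (e0 v).1) k := by rw [hs]; simp
      exact (mem_filter.1 this).2
    · have : b ∈ tr R (fun v => (e0 v).1) k := by rw [hs]; simp
      exact (mem_filter.1 this).2
  have hal : R (e0 a).1 l ∧ R (e0 b).1 l := by
    rw [hkl] at hs
    constructor
    · have : a ∈ tr R (fun v => (e0 v).1) l := by rw [hs]; simp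
      exact (mem_filter.1 this).2
    · have : b ∈ tr R (fun v => (e0 v).1) l := by rw [hs]; simp
      exact (mem_filter.1 this).2
  have hne' : (e0 a).1 ≠ (e0 b).1 := fun h' => hab (e0.injective (Subtype.ext h'))
  have h3 := h.row2 _ _ hne'
  have h4 : ({k0, k, l} : Finset κ) ⊆ univ.filter (fun k => R (e0 a).1 k ∧ R (e0 b).1 k) := by
    intro x hx
    simp only [mem_insert, mem_singleton] at hx
    rw [mem_filter]
    refine ⟨mem_univ _, ?_⟩
    rcases hx with rfl | rfl | rfl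
    · exact ⟨(e0 a).2, (e0 b).2⟩
    · exact hak
    · exact hal
  have h5 := card_le_card h4
  rw [h3, card_insert_of_notMem, card_insert_of_notMem, card_singleton] at h5
  · omega
  · simpa using hne
  · simp only [mem_insert, mem_singleton, not_or]
    exact ⟨Ne.symm hk, Ne.symm hl⟩

/-- the index of the edge of a block -/
theorem exists_idx (h : IsBiplane R) (k0 : κ) (e0 : Fin 5 ≃ {i // R i k0}) :
    ∃ idx : κ → Fin 10, ∀ k, k ≠ k0 → ∀ v : Fin 5, R (e0 v).1 k ↔
      (inc v.val).testBit (idx k).val = true := by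
  classical
  have : ∀ k, ∃ j : Fin 10, k ≠ k0 → ∀ v : Fin 5, R (e0 v).1 k ↔ (inc v.val).testBit j.val = true := by
    intro k
    by_cases hk : k = k0
    · exact ⟨0, fun h => absurd hk h⟩
    · obtain ⟨j, hj⟩ := edge_idx _ (card_tr h k0 e0 k hk)
      refine ⟨j, fun _ v => ?_⟩
      rw [← hj v, tr, mem_filter]
      simp
  choose idx hidx using this
  exact ⟨idx, hidx⟩

variable (h : IsBiplane R) (k0 : κ) (e0 : Fin 5 ≃ {i // R i k0}) (idx : κ → Fin 10)
  (hidx : ∀ k, k ≠ k0 → ∀ v : Fin 5, R (e0 v).1 k ↔ (inc v.val).testBit (idx k).val = true)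
include h hidx

theorem idx_inj (k l : κ) (hk : k ≠ k0) (hl : l ≠ k0) (hkl : idx k = idx l) : k = l := by
  apply tr_inj h k0 e0 k l hk hl
  ext v
  simp only [tr, mem_filter, mem_univ, true_and]
  rw [hidx k hk, hidx l hl, hkl]

/-- the mask of a point -/
theorem exists_msk : ∃ m : ι → ℕ, (∀ p, m p < 1024) ∧ ∀ p, ∀ j : Fin 10,
    (m p).testBit j.val = true ↔ ∃ k, R p k ∧ k ≠ k0 ∧ idx k = j := by
  classical
  refine ⟨fun p => Nat.ofBits (fun j : Fin 10 => decide (∃ k, R p k ∧ k ≠ k0 ∧ idx k = j)), ?_, ?_⟩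
  · intro p
    exact Nat.ofBits_lt_two_pow _
  · intro p j
    rw [Nat.testBit_ofBits_lt _ _ j.isLt]
    simp

theorem msk_pent (m : ι → ℕ) (hm : ∀ p, m p < 1024) (hm' : ∀ p, ∀ j : Fin 10,
    (m p).testBit j.val = true ↔ ∃ k, R p k ∧ k ≠ k0 ∧ idx k = j) (p : ι) (hp : ¬ R p k0) :
    m p ∈ clA ∨ m p ∈ clB := by
  classical
  have hne : ∀ k, R p k → k ≠ k0 := by rintro k hk rfl; exact hp hk
  apply pent_cases _ (hm p)
  · rw [← card_testBit, ← h.row p, eq_comm]
    apply card_nbij idx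
    · intro k hk
      rw [mem_coe, mem_filter] at hk
      rw [mem_coe, mem_filter]
      exact ⟨mem_univ _, (hm' p _).2 ⟨k, hk.2, hne k hk.2, rfl⟩⟩
    · intro k hk l hl hkl
      rw [mem_coe, mem_filter] at hk hl
      exact idx_inj h k0 e0 idx hidx k l (hne k hk.2) (hne l hl.2) hkl
    · intro j hj
      rw [mem_coe, mem_filter] at hj
      obtain ⟨k, hk1, hk2, hk3⟩ := (hm' p j).1 hj.2
      exact ⟨k, by rw [mem_coe, mem_filter]; exact ⟨mem_univ _, hk1⟩, hk3⟩
  · intro v hv
    have hv' : p ≠ (e0 ⟨v, hv⟩).1 := by rintro rfl; exact hp (e0 _).2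
    rw [← card_testBit, ← h.row2 p _ hv', eq_comm]
    apply card_nbij idx
    · intro k hk
      rw [mem_coe, mem_filter] at hk
      rw [mem_coe, mem_filter, Nat.testBit_and, Bool.and_eq_true]
      exact ⟨mem_univ _, (hm' p _).2 ⟨k, hk.2.1, hne k hk.2.1, rfl⟩,
        (hidx k (hne k hk.2.1) ⟨v, hv⟩).1 hk.2.2⟩
    · intro k hk l hl hkl
      rw [mem_coe, mem_filter] at hk hl
      exact idx_inj h k0 e0 idx hidx k l (hne k hk.2.1) (hne l hl.2.1) hkl
    · intro j hj
      rw [mem_coe, mem_filter, Nat.testBit_and, Bool.and_eq_true] at hj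
      obtain ⟨k, hk1, hk2, hk3⟩ := (hm' p j).1 hj.2.1
      refine ⟨k, ?_, hk3⟩
      rw [mem_coe, mem_filter]
      refine ⟨mem_univ _, hk1, (hidx k hk2 ⟨v, hv⟩).2 ?_⟩
      rw [hk3]; exact hj.2.2

theorem msk_inter (m : ι → ℕ) (hm' : ∀ p, ∀ j : Fin 10,
    (m p).testBit j.val = true ↔ ∃ k, R p k ∧ k ≠ k0 ∧ idx k = j) (p q : ι) (hp : ¬ R p k0)
    (hq : ¬ R q k0) (hpq : p ≠ q) : popR 10 (m p &&& m q) = 2 := by
  classical
  have hnep : ∀ k, R p k → k ≠ k0 := by rintro k hk rfl; exact hp hk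
  have hneq : ∀ k, R q k → k ≠ k0 := by rintro k hk rfl; exact hq hk
  rw [← card_testBit, ← h.row2 p q hpq, eq_comm]
  apply card_nbij idx
  · intro k hk
    rw [mem_coe, mem_filter] at hk
    rw [mem_coe, mem_filter, Nat.testBit_and, Bool.and_eq_true]
    exact ⟨mem_univ _, (hm' p _).2 ⟨k, hk.2.1, hnep k hk.2.1, rfl⟩,
      (hm' q _).2 ⟨k, hk.2.2, hneq k hk.2.2, rfl⟩⟩
  · intro k hk l hl hkl
    rw [mem_coe, mem_filter] at hk hl
    exact idx_inj h k0 e0 idx hidx k l (hnep k hk.2.1) (hnep l hl.2.1) hkl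
  · intro j hj
    rw [mem_coe, mem_filter, Nat.testBit_and, Bool.and_eq_true] at hj
    obtain ⟨k, hk1, hk2, hk3⟩ := (hm' p j).1 hj.2.1
    obtain ⟨l, hl1, hl2, hl3⟩ := (hm' q j).1 hj.2.2
    have hkl := idx_inj h k0 e0 idx hidx k l hk2 hl2 (hk3.trans hl3.symm)
    subst hkl
    refine ⟨k, ?_, hk3⟩
    rw [mem_coe, mem_filter]
    exact ⟨mem_univ _, hk1, hl1⟩

omit h hidx in
/-- canonical incidence -/
def Rc : (Fin 5 ⊕ Fin 6) → Option (Fin 10) → Prop
  | Sum.inl _, none => True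
  | Sum.inr _, none => False
  | Sum.inl v, some j => (inc v.val).testBit j.val = true
  | Sum.inr t, some j => (clA.getD t.val 0).testBit j.val = true

/-- canonical form, given a labelling with masks in the first class -/
theorem canon_of (m : ι → ℕ) (hm' : ∀ p, ∀ j : Fin 10,
    (m p).testBit j.val = true ↔ ∃ k, R p k ∧ k ≠ k0 ∧ idx k = j)
    (hA : ∀ p, ¬ R p k0 → m p ∈ clA) :
    ∃ (e : ι ≃ Fin 5 ⊕ Fin 6) (f : κ ≃ Option (Fin 10)), ∀ i k, R i k ↔ Rc (e i) (f k) := by
  classical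
  have hpos : ∀ x ∈ clA, ∃ t : Fin 6, clA.getD t.val 0 = x := by decide
  have hpop : ∀ x ∈ clA, popR 10 (x &&& x) ≠ 2 := by decide
  have ht : ∀ p, ∃ t : Fin 6, ¬ R p k0 → clA.getD t.val 0 = m p := by
    intro p
    by_cases hp : R p k0
    · exact ⟨0, fun h => absurd hp h⟩
    · obtain ⟨t, ht⟩ := hpos _ (hA p hp)
      exact ⟨t, fun _ => ht⟩
  choose t ht using ht
  -- points
  let fe : ι → Fin 5 ⊕ Fin 6 := fun i =>
    if hi : R i k0 then Sum.inl (e0.symm ⟨i, hi⟩) else Sum.inr (t i)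
  have fe_inj : Function.Injective fe := by
    intro i j hij
    by_cases hi : R i k0 <;> by_cases hj : R j k0
    · simp only [fe, hi, hj, dif_pos, Sum.inl.injEq, EmbeddingLike.apply_eq_iff_eq,
        Subtype.mk.injEq] at hij
      exact hij
    · simp only [fe, hi, hj, dif_pos, not_false_eq_true, dif_neg, reduceCtorEq] at hij
    · simp only [fe, hi, hj, dif_pos, not_false_eq_true, dif_neg, reduceCtorEq] at hij
    · simp only [fe, hi, hj, not_false_eq_true, dif_neg, Sum.inr.injEq] at hij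
      by_contra hne
      have h1 := msk_inter h k0 e0 idx hidx m hm' i j hi hj hne
      rw [← ht i hi, ← ht j hj, hij] at h1
      exact hpop _ (by rw [ht j hj]; exact hA j hj) h1
  have hce : Fintype.card ι = Fintype.card (Fin 5 ⊕ Fin 6) := by
    rw [h.ci, Fintype.card_sum, Fintype.card_fin, Fintype.card_fin]
  have fe_bij : Function.Bijective fe := (Fintype.bijective_iff_injective_and_card fe).2 ⟨fe_inj, hce⟩
  -- blocks
  let ff : κ → Option (Fin 10) := fun k => if k = k0 then none else some (idx k)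
  have ff_inj : Function.Injective ff := by
    intro k l hkl
    by_cases hk : k = k0 <;> by_cases hl : l = k0
    · rw [hk, hl]
    · simp only [ff, hk, hl, if_true, if_false, reduceCtorEq] at hkl
    · simp only [ff, hk, hl, if_true, if_false, reduceCtorEq] at hkl
    · simp only [ff, hk, hl, if_false, Option.some.injEq] at hkl
      exact idx_inj h k0 e0 idx hidx k l hk hl hkl
  have hcf : Fintype.card κ = Fintype.card (Option (Fin 10)) := by
    rw [h.ck, Fintype.card_option, Fintype.card_fin]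
  have ff_bij : Function.Bijective ff := (Fintype.bijective_iff_injective_and_card ff).2 ⟨ff_inj, hcf⟩
  refine ⟨Equiv.ofBijective fe fe_bij, Equiv.ofBijective ff ff_bij, ?_⟩
  intro i k
  rw [Equiv.ofBijective_apply, Equiv.ofBijective_apply]
  by_cases hi : R i k0 <;> by_cases hk : k = k0
  · simp only [fe, ff, hi, hk, dif_pos, if_true, Rc]
  · simp only [fe, ff, hi, hk, dif_pos, if_false, Rc]
    rw [← hidx k hk]
    simp only [Equiv.apply_symm_apply]
  · simp only [fe, ff, hi, hk, not_false_eq_true, dif_neg, if_true, Rc]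
  · simp only [fe, ff, hi, hk, not_false_eq_true, dif_neg, if_false, Rc]
    rw [ht i hi, hm']
    constructor
    · intro hik; exact ⟨k, hik, hk, rfl⟩
    · rintro ⟨l, hl, hl0, hlk⟩
      rw [← idx_inj h k0 e0 idx hidx l k hl0 hk hlk]
      exact hl

end

theorem canon {ι κ : Type*} [Fintype ι] [Fintype κ] {R : ι → κ → Prop} [∀ i k, Decidable (R i k)]
    (h : IsBiplane R) :
    ∃ (e : ι ≃ Fin 5 ⊕ Fin 6) (f : κ ≃ Option (Fin 10)), ∀ i k, R i k ↔ Rc (e i) (f k) := by
  classical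
  have hk0 : Nonempty κ := Fintype.card_pos_iff.1 (by rw [h.ck]; norm_num)
  obtain ⟨k0⟩ := hk0
  have hc0 : Fintype.card (Fin 5) = Fintype.card {i // R i k0} := by
    rw [Fintype.card_fin, Fintype.card_subtype, h.col k0]
  let e0 : Fin 5 ≃ {i // R i k0} := Fintype.equivOfCardEq hc0
  -- some point outside
  have hp0 : ∃ p, ¬ R p k0 := by
    by_contra hne
    push Not at hne
    have := h.col k0
    rw [filter_true_of_mem (fun i _ => hne i), card_univ, h.ci] at this
    omega
  obtain ⟨p0, hp0⟩ := hp0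
  obtain ⟨idx, hidx⟩ := exists_idx h k0 e0
  obtain ⟨m, hm, hm'⟩ := exists_msk h k0 e0 idx hidx
  rcases msk_pent h k0 e0 idx hidx m hm hm' p0 hp0 with hA | hB
  · apply canon_of h k0 e0 idx hidx m hm'
    intro p hp
    by_cases hpp : p = p0
    · rw [hpp]; exact hA
    · rcases msk_pent h k0 e0 idx hidx m hm hm' p hp with h1 | h1
      · exact h1
      · exact absurd (msk_inter h k0 e0 idx hidx m hm' p0 p hp0 hp (Ne.symm hpp)) (clAB _ hA _ h1)
  · have hB' : ∀ p, ¬ R p k0 → m p ∈ clB := by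
      intro p hp
      by_cases hpp : p = p0
      · rw [hpp]; exact hB
      · rcases msk_pent h k0 e0 idx hidx m hm hm' p hp with h1 | h1
        · exact absurd (msk_inter h k0 e0 idx hidx m hm' p p0 hp hp0 hpp) (clAB _ h1 _ hB)
        · exact h1
    -- relabel
    let e1 : Fin 5 ≃ {i // R i k0} := (Equiv.swap (0 : Fin 5) 1).trans e0
    let idx1 : κ → Fin 10 := fun k => ⟨sg (idx k).val, sg_lt _ (idx k).isLt⟩
    have hidx1 : ∀ k, k ≠ k0 → ∀ v : Fin 5, R (e1 v).1 k ↔
        (inc v.val).testBit (idx1 k).val = true := by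
      intro k hk v
      change R (e0 (Equiv.swap (0 : Fin 5) 1 v)).1 k ↔ _
      rw [hidx k hk, inc_sw]
    obtain ⟨m1, hm1, hm1'⟩ := exists_msk h k0 e1 idx1 hidx1
    apply canon_of h k0 e1 idx1 hidx1 m1 hm1'
    intro p hp
    apply sw_clB _ (hB' p hp) _ (hm1 p)
    intro j hj
    rw [Bool.eq_iff_iff]
    have e1' := hm1' p ⟨j, hj⟩
    have e2' := hm' p ⟨sg j, sg_lt j hj⟩
    simp only at e1' e2'
    rw [e1', e2']
    constructor
    · rintro ⟨k, h1, h2, h3⟩
      refine ⟨k, h1, h2, ?_⟩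
      have h4 := congrArg Fin.val h3
      simp only [idx1] at h4
      apply Fin.ext
      simp only
      rw [← h4, sg_sg _ (idx k).isLt]
    · rintro ⟨k, h1, h2, h3⟩
      refine ⟨k, h1, h2, ?_⟩
      apply Fin.ext
      simp only [idx1]
      rw [h3]
      exact sg_sg j hj

/-- the biplane on 11 points is unique -/
theorem unique {ι κ ι' κ' : Type*} [Fintype ι] [Fintype κ] [Fintype ι'] [Fintype κ']
    {R : ι → κ → Prop} {R' : ι' → κ' → Prop} [∀ i k, Decidable (R i k)] [∀ i k, Decidable (R' i k)]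
    (h : IsBiplane R) (h' : IsBiplane R') :
    ∃ (e : ι ≃ ι') (f : κ ≃ κ'), ∀ i k, R i k ↔ R' (e i) (f k) := by
  classical
  obtain ⟨e, f, h1⟩ := canon h
  obtain ⟨e', f', h2⟩ := canon h'
  refine ⟨e.trans e'.symm, f.trans f'.symm, fun i k => ?_⟩
  rw [h1, h2]
  simp only [Equiv.trans_apply, Equiv.apply_symm_apply]

end CfsgL.Biplane
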