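import Mathlib
/-!
Simplicity criteria for finite groups.
-/
set_option autoImplicit false
namespace CfsgL
open MulAction Subgroup

/-- Simplicity from a self-centralising Sylow subgroup `⟨x⟩` of prime order `p = 2r+1`, `x` not
conjugate to its inverse, and generation by elements of exponent prime to `r`. -/
theorem simple_of_sylow {G : Type*} [Group G] [Finite G] (p r k : ℕ) [hp : Fact p.Prime]
    (hpr : p = 2 * r + 1) (hkr : Nat.Coprime k r) (x : G) (hx : orderOf x = p)
    (hcard : ¬ p ^ 2 ∣ Nat.card G)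
    (hcent : ∀ g : G, g * x = x * g → g ∈ Subgroup.zpowers x)
    (hinv : ∀ g : G, g * x * g⁻¹ ≠ x⁻¹)
    (hgen : Subgroup.closure {u : G | u ^ k = 1} = ⊤)
    (hN : ∀ N : Subgroup G, N.Normal → N ≠ ⊥ → p ∣ Nat.card N) : IsSimpleGroup G := by
  have hx1 : x ≠ 1 := by
    rintro rfl
    rw [orderOf_one] at hx
    exact hp.out.one_lt.ne hx
  haveI : Nontrivial G := ⟨x, 1, hx1⟩
  refine ⟨fun N hNn => ?_⟩
  by_cases hbot : N = ⊥
  · exact Or.inl hbot
  right
  have hdvd := hN N hNn hbot
  -- a Sylow subgroup containing x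
  have hpx : IsPGroup p (Subgroup.zpowers x) := by
    refine IsPGroup.of_card (n := 1) ?_
    rw [Nat.card_zpowers, hx, pow_one]
  obtain ⟨P, hP⟩ := hpx.exists_le_sylow
  have hPcard : Nat.card P = p := by
    obtain ⟨n, hn⟩ := IsPGroup.iff_card.1 P.isPGroup'
    have h1 : p ^ n ∣ Nat.card G := by rw [← hn]; exact Subgroup.card_subgroup_dvd_card _
    have h2 : n < 2 := by
      by_contra h
      exact hcard (dvd_trans (pow_dvd_pow p (by omega)) h1)
    have h3 : p ∣ Nat.card P := by
      have := Subgroup.card_dvd_of_le hP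
      rwa [Nat.card_zpowers, hx] at this
    have h4 : n ≠ 0 := by
      rintro rfl
      rw [pow_zero] at hn
      rw [hn] at h3
      exact hp.out.one_lt.ne' (Nat.dvd_one.1 h3)
    have : n = 1 := by omega
    rw [hn, this, pow_one]
  have hPx : (P : Subgroup G) = Subgroup.zpowers x := by
    symm
    apply Subgroup.eq_of_le_of_card_ge hP
    rw [hPcard, Nat.card_zpowers, hx]
  -- P ≤ N
  have hPN : (P : Subgroup G) ≤ N := by
    obtain ⟨y, hy⟩ := exists_prime_orderOf_dvd_card' p hdvd
    have hy' : orderOf (y : G) = p := by rw [← hy]; exact Subgroup.orderOf_coe y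
    have hpy : IsPGroup p (Subgroup.zpowers (y : G)) := by
      refine IsPGroup.of_card (n := 1) ?_
      rw [Nat.card_zpowers, hy', pow_one]
    obtain ⟨Q, hQ⟩ := hpy.exists_le_sylow
    obtain ⟨g, hg⟩ := MulAction.exists_smul_eq G Q P
    have hQcard : Nat.card Q = p := by
      exact (Nat.card_congr (Sylow.equiv Q P).toEquiv).trans hPcard
    have hQy : (Q : Subgroup G) = Subgroup.zpowers (y : G) := by
      symm
      apply Subgroup.eq_of_le_of_card_ge hQ
      rw [hQcard, Nat.card_zpowers, hy']
    have hQN : (Q : Subgroup G) ≤ N := by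
      rw [hQy, Subgroup.zpowers_le]; exact y.2
    rw [← hg]
    intro z hz
    rw [Sylow.coe_subgroup_smul, Subgroup.mem_pointwise_smul_iff_inv_smul_mem] at hz
    have h1 := hQN hz
    have h2 := hNn.conj_mem _ h1 g
    have h3 : g * ((MulAut.conj g)⁻¹ • z) * g⁻¹ = z := by
      rw [← map_inv, MulAut.smul_def, MulAut.conj_apply]; group
    rwa [h3] at h2
  have hfrat := Sylow.normalizer_sup_eq_top' P hPN
  -- every element of G/N has order dividing r
  have hpow : ∀ g : G, g ∈ Subgroup.normalizer (P : Set G) → g ^ r ∈ N := by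
    intro g hg
    apply hPN
    rw [hPx]
    apply hcent
    have h1 : g * x * g⁻¹ ∈ Subgroup.zpowers x := by
      rw [← hPx]
      have hxP : x ∈ (P : Subgroup G) := by rw [hPx]; exact Subgroup.mem_zpowers x
      exact (Subgroup.mem_normalizer_iff.1 hg x).1 hxP
    rw [← mem_powers_iff_mem_zpowers, Submonoid.mem_powers_iff] at h1
    obtain ⟨a, ha⟩ := h1
    have h2 : ∀ n : ℕ, g ^ n * x * (g ^ n)⁻¹ = x ^ (a ^ n) := by
      intro n
      induction n with
      | zero => simp
      | succ n ih =>
        have : g ^ (n + 1) * x * (g ^ (n + 1))⁻¹ = g * (g ^ n * x * (g ^ n)⁻¹) * g⁻¹ := by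
          rw [pow_succ']; group
        rw [this, ih]
        have h3 : g * x ^ (a ^ n) * g⁻¹ = (g * x * g⁻¹) ^ (a ^ n) := (conj_pow).symm
        rw [h3, ← ha, ← pow_mul, pow_succ, mul_comm]
    have ha0 : (a : ZMod p) ≠ 0 := by
      intro h
      rw [ZMod.natCast_eq_zero_iff] at h
      obtain ⟨b, rfl⟩ := h
      have : x ^ (p * b) = 1 := by rw [pow_mul, ← hx, pow_orderOf_eq_one, one_pow]
      rw [this] at ha
      apply hx1
      have h4 : x = g⁻¹ * (g * x * g⁻¹) * g := by group
      rw [h4, ← ha]; group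
    have hsq : ((a : ZMod p) ^ r - 1) * ((a : ZMod p) ^ r + 1) = 0 := by
      have h5 := ZMod.pow_card_sub_one_eq_one ha0
      have h6 : p - 1 = r * 2 := by omega
      rw [h6, pow_mul] at h5
      ring_nf
      ring_nf at h5
      rw [h5]; ring
    rcases mul_eq_zero.1 hsq with h | h
    · have h7 : ((a ^ r : ℕ) : ZMod p) = ((1 : ℕ) : ZMod p) := by
        push_cast; exact sub_eq_zero.1 h
      rw [ZMod.natCast_eq_natCast_iff] at h7
      have h8 : x ^ (a ^ r) = x ^ 1 := by
        rw [pow_eq_pow_iff_modEq, hx]; exact h7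
      have h9 := h2 r
      rw [h8, pow_one] at h9
      rw [mul_inv_eq_iff_eq_mul] at h9
      exact h9
    · exfalso
      have h7 : ((a ^ r + 1 : ℕ) : ZMod p) = 0 := by push_cast; exact h
      rw [ZMod.natCast_eq_zero_iff] at h7
      have h8 : x ^ (a ^ r + 1) = 1 := by
        rw [← hx] at h7; exact orderOf_dvd_iff_pow_eq_one.1 h7
      rw [pow_succ] at h8
      have h9 := h2 r
      rw [eq_inv_of_mul_eq_one_left h8] at h9
      exact hinv _ h9
  have hall : ∀ g : G, g ^ r ∈ N := by
    intro g
    have hg : g ∈ Subgroup.normalizer (P : Set G) ⊔ N := by rw [hfrat]; trivial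
    rw [Subgroup.mem_sup_of_normal_right] at hg
    obtain ⟨y, hy, n, hn, rfl⟩ := hg
    rw [← QuotientGroup.eq_one_iff, QuotientGroup.mk_pow, QuotientGroup.mk_mul,
      (QuotientGroup.eq_one_iff n).2 hn, mul_one, ← QuotientGroup.mk_pow, QuotientGroup.eq_one_iff]
    exact hpow y hy
  rw [eq_top_iff, ← hgen, Subgroup.closure_le]
  intro u hu
  rw [Set.mem_ofPred_eq] at hu
  rw [SetLike.mem_coe, ← QuotientGroup.eq_one_iff]
  have h1 : ((u : G ⧸ N)) ^ r = 1 := by
    rw [← QuotientGroup.mk_pow, QuotientGroup.eq_one_iff]; exact hall u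
  have h2 : ((u : G ⧸ N)) ^ k = 1 := by
    rw [← QuotientGroup.mk_pow, hu, QuotientGroup.mk_one]
  have h3 : orderOf (u : G ⧸ N) ∣ Nat.gcd k r :=
    Nat.dvd_gcd (orderOf_dvd_of_pow_eq_one h2) (orderOf_dvd_of_pow_eq_one h1)
  rw [hkr, Nat.dvd_one, orderOf_eq_one_iff] at h3
  exact h3

/-- A 2-transitive group of degree not a prime power with simple point stabilisers is simple. -/
theorem simple_of_two_transitive {G α : Type*} [Group G] [Finite G] [MulAction G α] [Finite α]
    [FaithfulSMul G α] [h2 : IsMultiplyPretransitive G α 2] (a : α)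
    (hs : IsSimpleGroup (stabilizer G a)) (q s : ℕ) (hq : q.Prime) (hsp : s.Prime) (hqs : q ≠ s)
    (hqd : q ∣ Nat.card α) (hsd : s ∣ Nat.card α) : IsSimpleGroup G := by
  haveI hprim : IsPreprimitive G α := isPreprimitive_of_is_two_pretransitive h2
  haveI : IsPretransitive G α := inferInstance
  haveI : Nontrivial (stabilizer G a) := hs.toNontrivial
  haveI : Nontrivial G := (Subgroup.subtype_injective (stabilizer G a)).nontrivial
  refine ⟨fun N hN => ?_⟩
  by_cases hbot : N = ⊥
  · exact Or.inl hbot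
  right
  have hfix : fixedPoints N α ≠ Set.univ := by
    intro h
    apply hbot
    rw [eq_bot_iff]
    intro n hn
    rw [Subgroup.mem_bot]
    apply FaithfulSMul.eq_of_smul_eq_smul (α := α)
    intro b
    have : b ∈ fixedPoints N α := by rw [h]; trivial
    rw [one_smul]
    exact this ⟨n, hn⟩
  haveI htr : IsPretransitive N α := IsQuasiPreprimitive.isPretransitive_of_normal hfix
  have hcases := hs.eq_bot_or_eq_top_of_normal (N.subgroupOf (stabilizer G a)) inferInstance
  rcases hcases with h | h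
  · -- N is regular
    exfalso
    have hreg : ∀ n ∈ N, n • a = a → n = 1 := by
      intro n hn hna
      have h1 : (⟨n, hna⟩ : stabilizer G a) ∈ N.subgroupOf (stabilizer G a) := by
        rw [Subgroup.mem_subgroupOf]; exact hn
      rw [h, Subgroup.mem_bot] at h1
      exact congrArg Subtype.val h1
    have hbij : Function.Bijective (fun n : N => (n : G) • a) := by
      constructor
      · intro m n hmn
        simp only at hmn
        have h1 : ((n : G)⁻¹ * (m : G)) • a = a := by
          rw [mul_smul, hmn, inv_smul_smul]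
        have h2 := hreg _ (N.mul_mem (N.inv_mem n.2) m.2) h1
        exact Subtype.ext (inv_mul_eq_one.1 h2).symm
      · intro b
        obtain ⟨n, hn⟩ := htr.exists_smul_eq a b
        exact ⟨n, hn⟩
    have hcardN : Nat.card N = Nat.card α := Nat.card_congr (Equiv.ofBijective _ hbij)
    haveI : Fact q.Prime := ⟨hq⟩
    haveI : Fact s.Prime := ⟨hsp⟩
    obtain ⟨y, hy⟩ := exists_prime_orderOf_dvd_card' (G := N) q (by rw [hcardN]; exact hqd)
    obtain ⟨z, hz⟩ := exists_prime_orderOf_dvd_card' (G := N) s (by rw [hcardN]; exact hsd)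
    have hy1 : (y : G) • a ≠ a := by
      intro h'
      have := hreg _ y.2 h'
      have h1 : y = 1 := Subtype.ext this
      rw [h1, orderOf_one] at hy
      exact hq.one_lt.ne hy
    have hz1 : (z : G) • a ≠ a := by
      intro h'
      have := hreg _ z.2 h'
      have h1 : z = 1 := Subtype.ext this
      rw [h1, orderOf_one] at hz
      exact hsp.one_lt.ne hz
    obtain ⟨g, hg1, hg2⟩ := (is_two_pretransitive_iff.1 h2) (Ne.symm hy1) (Ne.symm hz1)
    have hconj : g * (y : G) * g⁻¹ = z := by
      have hm : g * (y : G) * g⁻¹ ∈ N := hN.conj_mem _ y.2 g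
      have h1 : (g * (y : G) * g⁻¹) • a = (z : G) • a := by
        rw [mul_smul, mul_smul]
        have : g⁻¹ • a = a := by rw [inv_smul_eq_iff]; exact hg1.symm
        rw [this, hg2]
      have h2 := hbij.1 (a₁ := ⟨_, hm⟩) (a₂ := z) h1
      exact congrArg Subtype.val h2
    have ho : orderOf (z : G) = orderOf (y : G) := by
      rw [← hconj]
      exact (SemiconjBy.orderOf_eq g (show g * (y : G) = (g * y * g⁻¹) * g by group)).symm
    rw [Subgroup.orderOf_coe, Subgroup.orderOf_coe, hy, hz] at ho
    exact hqs ho.symm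
  · -- stabiliser contained in N
    rw [Subgroup.subgroupOf_eq_top] at h
    rw [eq_top_iff]
    intro g _
    obtain ⟨n, hn⟩ := htr.exists_smul_eq a (g • a)
    have h1 : (n : G)⁻¹ * g ∈ stabilizer G a := by
      rw [mem_stabilizer_iff, mul_smul, ← hn]
      change (n : G)⁻¹ • (n : G) • a = a
      rw [inv_smul_smul]
    have h2 := N.mul_mem n.2 (h h1)
    rwa [mul_inv_cancel_left] at h2

end CfsgL
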