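import Cfsg.Agent.L.Biplane
import Cfsg.Agent.L.Golay.Weights
/-!
Uniqueness of the extended binary Golay code (as a family of subsets of a 24-set).
-/
set_option autoImplicit false
namespace CfsgL.GU
open Finset

section basics
variable {α : Type*} [Fintype α] [DecidableEq α]

theorem card_sd (s t : Finset α) : (symmDiff s t).card + 2 * (s ∩ t).card = s.card + t.card :=
  CfsgL.Golay.card_symmDiff_add s t

theorem sign_symm (s t : Finset α) : (-1 : ℤ) ^ (symmDiff s t).card = (-1) ^ s.card * (-1) ^ t.card := by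
  rw [← pow_add, ← card_sd, pow_add, pow_mul]
  simp

theorem inter_symm (s t u : Finset α) : (symmDiff s t) ∩ u = symmDiff (s ∩ u) (t ∩ u) := by
  ext x
  simp only [Finset.mem_inter, Finset.mem_symmDiff]
  tauto

theorem symm_symm (s t : Finset α) : symmDiff (symmDiff s t) t = s := by
  ext x
  simp only [Finset.mem_symmDiff]
  tauto

theorem dual_count (C : Finset (Finset α)) (hs : ∀ s ∈ C, ∀ t ∈ C, symmDiff s t ∈ C) (h0 : ∅ ∈ C) :
    (univ.filter (fun u : Finset α => ∀ s ∈ C, Even (s ∩ u).card)).card * C.card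
      = 2 ^ Fintype.card α := by
  classical
  have k1 : ∀ u : Finset α, ∑ s ∈ C, (-1 : ℤ) ^ (s ∩ u).card =
      if (∀ s ∈ C, Even (s ∩ u).card) then (C.card : ℤ) else 0 := by
    intro u
    split_ifs with h
    · rw [Finset.sum_congr rfl (fun s hs => (h s hs).neg_one_pow)]
      simp
    · push Not at h
      obtain ⟨s0, hs0, h1⟩ := h
      have h1' : (-1 : ℤ) ^ (s0 ∩ u).card = -1 := Odd.neg_one_pow (Nat.not_even_iff_odd.1 h1)
      refine Finset.sum_involution (fun s _ => symmDiff s s0) ?_ ?_ (fun s h => hs s h s0 hs0) ?_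
      · intro s _
        rw [inter_symm, sign_symm, h1']
        ring
      · intro s _ _ h
        have h3 : s0 = ∅ := by
          have := congrArg (fun x => symmDiff s x) h
          simp only [symmDiff_symmDiff_cancel_left, symmDiff_self] at this
          exact this
        rw [h3] at h1
        simp at h1
      · intro s _
        exact symm_symm s s0
  have k2 : ∀ s : Finset α, s ≠ ∅ → ∑ u : Finset α, (-1 : ℤ) ^ (s ∩ u).card = 0 := by
    intro s hs'
    obtain ⟨p, hp⟩ := Finset.nonempty_iff_ne_empty.2 hs'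
    refine Finset.sum_involution (fun u _ => symmDiff u {p}) ?_ ?_ (fun _ _ => mem_univ _) ?_
    · intro u _
      rw [Finset.inter_comm s (symmDiff u {p}), inter_symm, sign_symm, Finset.inter_comm u s]
      rw [Finset.singleton_inter_of_mem hp, Finset.card_singleton]
      ring
    · intro u _ _ h
      have := congrArg (fun x => symmDiff u x) h
      simp only [symmDiff_symmDiff_cancel_left, symmDiff_self] at this
      exact Finset.singleton_ne_empty p this
    · intro u _
      exact symm_symm u {p}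
  have k3 : ∑ u : Finset α, ∑ s ∈ C, (-1 : ℤ) ^ (s ∩ u).card = 2 ^ Fintype.card α := by
    rw [Finset.sum_comm, Finset.sum_eq_single_of_mem ∅ h0 (fun s _ h => k2 s h)]
    simp
  have k4 : ∑ u : Finset α, ∑ s ∈ C, (-1 : ℤ) ^ (s ∩ u).card =
      ((univ.filter (fun u : Finset α => ∀ s ∈ C, Even (s ∩ u).card)).card * C.card : ℤ) := by
    rw [Finset.sum_congr rfl (fun u _ => k1 u), ← Finset.sum_filter, Finset.sum_const]
    simp
  have := k4.symm.trans k3
  exact_mod_cast this

theorem packing {T : Finset (Finset α)} {k t : ℕ} (hk : ∀ s ∈ T, s.card = k)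
    (h : ∀ s ∈ T, ∀ s' ∈ T, s ≠ s' → (s ∩ s').card < t) :
    T.card * k.choose t ≤ (Fintype.card α).choose t := by
  have h1 : (T.biUnion (fun s => Finset.powersetCard t s)).card = T.card * k.choose t := by
    rw [Finset.card_biUnion, Finset.sum_congr rfl (fun s hs => by
      rw [Finset.card_powersetCard, hk s hs]), Finset.sum_const, smul_eq_mul]
    intro s hs s' hs' hne
    rw [Function.onFun, Finset.disjoint_left]
    intro u hu hu'
    rw [Finset.mem_powersetCard] at hu hu'
    have := Finset.card_le_card (Finset.subset_inter hu.1 hu'.1)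
    have := h s hs s' hs' hne
    omega
  rw [← h1, ← Finset.card_univ, ← Finset.card_powersetCard]
  refine Finset.card_le_card ?_
  intro u hu
  rw [Finset.mem_biUnion] at hu
  obtain ⟨s, _, hu⟩ := hu
  rw [Finset.mem_powersetCard] at hu ⊢
  exact ⟨Finset.subset_univ _, hu.2⟩

/-- abstract Golay code -/
structure IsGolay (C : Finset (Finset α)) : Prop where
  pts : Fintype.card α = 24
  symm : ∀ s ∈ C, ∀ t ∈ C, symmDiff s t ∈ C
  size : C.card = 4096
  four : ∀ s ∈ C, 4 ∣ s.card
  ne4 : ∀ s ∈ C, s.card ≠ 4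

variable {C : Finset (Finset α)}

namespace IsGolay

theorem empty_mem (h : IsGolay C) : ∅ ∈ C := by
  have : C.Nonempty := by
    rw [← Finset.card_pos, h.size]
    norm_num
  obtain ⟨s, hs⟩ := this
  have := h.symm s hs s hs
  rwa [symmDiff_self] at this

theorem even_inter (h : IsGolay C) {s t : Finset α} (hs : s ∈ C) (ht : t ∈ C) :
    Even (s ∩ t).card := by
  have h1 := card_sd s t
  have h2 := h.four _ (h.symm s hs t ht)
  have h3 := h.four s hs
  have h4 := h.four t ht
  rw [Nat.even_iff]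
  omega

theorem mem_of_even (h : IsGolay C) {t : Finset α} (ht : ∀ s ∈ C, Even (s ∩ t).card) : t ∈ C := by
  have h1 := dual_count C h.symm h.empty_mem
  rw [h.size, h.pts] at h1
  have h2 : (univ.filter (fun u : Finset α => ∀ s ∈ C, Even (s ∩ u).card)).card = 4096 := by
    have : (2 : ℕ) ^ 24 = 4096 * 4096 := by norm_num
    rw [this] at h1
    exact Nat.eq_of_mul_eq_mul_right (by norm_num) h1
  have h3 : C = univ.filter (fun u : Finset α => ∀ s ∈ C, Even (s ∩ u).card) := by
    apply Finset.eq_of_subset_of_card_le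
    · intro u hu
      rw [Finset.mem_filter]
      exact ⟨mem_univ _, fun s hs => h.even_inter hs hu⟩
    · rw [h2, h.size]
  rw [h3, Finset.mem_filter]
  exact ⟨mem_univ _, ht⟩

theorem univ_mem (h : IsGolay C) : univ ∈ C := by
  apply h.mem_of_even
  intro s hs
  rw [Finset.inter_univ]
  have := h.four s hs
  rw [Nat.even_iff]
  omega

theorem compl_eq (s : Finset α) : sᶜ = symmDiff univ s := by
  ext x
  simp [Finset.mem_symmDiff]

theorem compl_mem (h : IsGolay C) {s : Finset α} (hs : s ∈ C) : sᶜ ∈ C := by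
  rw [compl_eq]
  exact h.symm _ h.univ_mem s hs

theorem card_compl (h : IsGolay C) (s : Finset α) : sᶜ.card = 24 - s.card := by
  rw [Finset.card_compl, h.pts]

theorem card_le (h : IsGolay C) (s : Finset α) : s.card ≤ 24 := by
  rw [← h.pts]
  exact Finset.card_le_univ s

theorem card_cases (h : IsGolay C) {s : Finset α} (hs : s ∈ C) :
    s.card = 0 ∨ s.card = 8 ∨ s.card = 12 ∨ s.card = 16 ∨ s.card = 24 := by
  have h1 := h.four s hs
  have h2 := h.ne4 s hs
  have h3 := h.ne4 _ (h.compl_mem hs)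
  rw [h.card_compl] at h3
  have h4 := h.card_le s
  omega

theorem eight_le (h : IsGolay C) {s t : Finset α} (hs : s ∈ C) (ht : t ∈ C) (hne : s ≠ t) :
    8 ≤ (symmDiff s t).card := by
  have h1 := h.card_cases (h.symm s hs t ht)
  have h2 : (symmDiff s t).card ≠ 0 := by
    intro h3
    rw [Finset.card_eq_zero] at h3
    have := symm_symm s t
    rw [h3] at this
    apply hne
    rw [← this]
    ext x
    simp [Finset.mem_symmDiff]
  omega

theorem exists_dodecad (h : IsGolay C) : ∃ D ∈ C, D.card = 12 := by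
  by_contra hc
  push Not at hc
  have h8 : (C.filter (fun s => s.card = 8)).card ≤ 759 := by
    have := packing (T := C.filter (fun s => s.card = 8)) (k := 8) (t := 5)
      (fun s hs => (Finset.mem_filter.1 hs).2) (by
        intro s hs s' hs' hne
        rw [Finset.mem_filter] at hs hs'
        have h1 := h.eight_le hs.1 hs'.1 hne
        have h2 := card_sd s s'
        omega)
    rw [h.pts] at this
    have e1 : Nat.choose 8 5 = 56 := by decide
    have e2 : Nat.choose 24 5 = 42504 := by decide +kernel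
    rw [e1, e2] at this
    omega
  have h3 : C ⊆ (({∅} ∪ {univ}) ∪ C.filter (fun s => s.card = 8)) ∪
      (C.filter (fun s => s.card = 8)).image (fun s => sᶜ) := by
    intro s hs
    simp only [Finset.mem_union, Finset.mem_singleton, Finset.mem_filter, Finset.mem_image]
    rcases h.card_cases hs with h1 | h1 | h1 | h1 | h1
    · exact Or.inl (Or.inl (Or.inl (Finset.card_eq_zero.1 h1)))
    · exact Or.inl (Or.inr ⟨hs, h1⟩)
    · exact absurd h1 (hc s hs)
    · right
      refine ⟨sᶜ, ⟨h.compl_mem hs, ?_⟩, compl_compl s⟩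
      rw [h.card_compl, h1]
    · left; left; right
      rw [← Finset.card_eq_iff_eq_univ, h1, h.pts]
  have h4 := Finset.card_le_card h3
  have h5 := Finset.card_union_le (({∅} ∪ {univ}) ∪ C.filter (fun s => s.card = 8))
      ((C.filter (fun s => s.card = 8)).image (fun s => sᶜ))
  have h6 := Finset.card_union_le ({∅} ∪ {univ}) (C.filter (fun s => s.card = 8))
  have h7 := Finset.card_union_le ({∅} : Finset (Finset α)) {univ}
  have h9 : ((C.filter (fun s => s.card = 8)).image (fun s => sᶜ)).card ≤ _ := Finset.card_image_le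
  rw [h.size] at h4
  simp only [Finset.card_singleton] at h7
  omega

end IsGolay

variable {D : Finset α}

theorem card_inter_add_sdiff (s D : Finset α) : (s ∩ D).card + (s \ D).card = s.card :=
  Finset.card_inter_add_card_sdiff s D

theorem ker_eq (h : IsGolay C) (hD : D ∈ C) (hD12 : D.card = 12) {s : Finset α} (hs : s ∈ C)
    (he : s ∩ D = ∅) : s = ∅ ∨ s = Dᶜ := by
  have hsub : s ⊆ Dᶜ := by
    intro x hx
    rw [Finset.mem_compl]
    intro hxD
    have : x ∈ s ∩ D := Finset.mem_inter.2 ⟨hx, hxD⟩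
    rw [he] at this
    exact absurd this (Finset.notMem_empty x)
  have hc := h.card_compl D
  have h1 := Finset.card_le_card hsub
  have h2 := card_sd s D
  have h3 := h.card_cases (h.symm s hs D hD)
  have h4 := h.card_cases hs
  rw [he, Finset.card_empty] at h2
  rcases h4 with h4 | h4
  · exact Or.inl (Finset.card_eq_zero.1 h4)
  · right
    apply Finset.eq_of_subset_of_card_le hsub
    omega

theorem card_evens (hD12 : D.card = 12) {a : α} (ha : a ∈ D) :
    (D.powerset.filter (fun t => Even t.card)).card ≤ 2048 := by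
  have h1 : ((D.erase a).powerset).card = 2048 := by
    rw [Finset.card_powerset, Finset.card_erase_of_mem ha, hD12]
    norm_num
  rw [← h1]
  refine Finset.card_le_card_of_injOn (fun t => t.erase a) ?_ ?_
  · intro t ht
    simp only [Finset.coe_filter, Finset.mem_powerset, Set.mem_ofPred_eq] at ht
    simp only [Finset.coe_powerset, Set.mem_preimage, Set.mem_powerset_iff, Finset.coe_subset]
    exact Finset.erase_subset_erase a ht.1
  · intro t ht t' ht' he
    simp only [Finset.coe_filter, Finset.mem_powerset, Set.mem_ofPred_eq] at ht ht'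
    simp only at he
    by_cases hat : a ∈ t
    · by_cases hat' : a ∈ t'
      · rw [← Finset.insert_erase hat, he, Finset.insert_erase hat']
      · exfalso
        have h2 := Finset.card_erase_of_mem hat
        have h3 : (t'.erase a).card = t'.card := by rw [Finset.erase_eq_of_notMem hat']
        rw [he] at h2
        have h4 : 0 < t.card := Finset.card_pos.2 ⟨a, hat⟩
        obtain ⟨x, hx⟩ := ht.2
        obtain ⟨y, hy⟩ := ht'.2
        omega
    · by_cases hat' : a ∈ t'
      · exfalso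
        have h2 := Finset.card_erase_of_mem hat'
        have h3 : (t.erase a).card = t.card := by rw [Finset.erase_eq_of_notMem hat]
        rw [← he] at h2
        have h4 : 0 < t'.card := Finset.card_pos.2 ⟨a, hat'⟩
        obtain ⟨x, hx⟩ := ht.2
        obtain ⟨y, hy⟩ := ht'.2
        omega
      · rwa [Finset.erase_eq_of_notMem hat, Finset.erase_eq_of_notMem hat'] at he

theorem exists_word (h : IsGolay C) (hD : D ∈ C) (hD12 : D.card = 12) {t : Finset α}
    (ht : t ⊆ D) (hte : Even t.card) : ∃ s ∈ C, s ∩ D = t := by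
  have hne : D.Nonempty := by
    rw [← Finset.card_pos, hD12]
    norm_num
  obtain ⟨a, ha⟩ := hne
  have h1 : C.card ≤ 2 * (C.image (fun s => s ∩ D)).card := by
    refine Finset.card_le_mul_card_image (s := C) (f := fun s => s ∩ D) 2 ?_
    intro u hu
    rw [Finset.mem_image] at hu
    obtain ⟨s0, hs0, rfl⟩ := hu
    refine le_trans (Finset.card_le_card (t := {s0, symmDiff Dᶜ s0}) ?_) Finset.card_le_two
    intro s hs
    rw [Finset.mem_filter] at hs
    have h2 : symmDiff s s0 ∩ D = ∅ := by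
      rw [inter_symm, hs.2, symmDiff_self]; rfl
    rw [Finset.mem_insert, Finset.mem_singleton]
    rcases ker_eq h hD hD12 (h.symm s hs.1 s0 hs0) h2 with h3 | h3
    · left
      rw [← symm_symm s s0, h3]
      ext x
      simp [Finset.mem_symmDiff]
    · right
      rw [← h3, symm_symm]
  have h2 := card_evens hD12 ha
  have h3 : C.image (fun s => s ∩ D) ⊆ D.powerset.filter (fun t => Even t.card) := by
    intro u hu
    rw [Finset.mem_image] at hu
    obtain ⟨s0, hs0, rfl⟩ := hu
    rw [Finset.mem_filter, Finset.mem_powerset]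
    exact ⟨Finset.inter_subset_right, h.even_inter hs0 hD⟩
  have h4 : C.image (fun s => s ∩ D) = D.powerset.filter (fun t => Even t.card) := by
    apply Finset.eq_of_subset_of_card_le h3
    rw [h.size] at h1
    omega
  have h5 : t ∈ C.image (fun s => s ∩ D) := by
    rw [h4, Finset.mem_filter, Finset.mem_powerset]
    exact ⟨ht, hte⟩
  rw [Finset.mem_image] at h5
  exact h5

theorem exists_word' (h : IsGolay C) (hD : D ∈ C) (hD12 : D.card = 12) {b : α} (hb : b ∉ D)
    {t : Finset α} (ht : t ⊆ D) (hte : Even t.card) : ∃ s ∈ C, s ∩ D = t ∧ b ∉ s := by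
  obtain ⟨s, hs, hst⟩ := exists_word h hD hD12 ht hte
  by_cases hbs : b ∈ s
  · refine ⟨symmDiff s Dᶜ, h.symm _ hs _ (h.compl_mem hD), ?_, ?_⟩
    · rw [inter_symm, hst]
      have : Dᶜ ∩ D = ∅ := by
        ext x; simp
      rw [this]
      ext x
      simp [Finset.mem_symmDiff]
    · rw [Finset.mem_symmDiff, Finset.mem_compl]
      tauto
  · exact ⟨s, hs, hst, hbs⟩

theorem card_off (h : IsGolay C) (hD12 : D.card = 12) {b : α} (hb : b ∉ D) :
    (Dᶜ.erase b).card = 11 := by
  rw [Finset.card_erase_of_mem (Finset.mem_compl.2 hb), h.card_compl, hD12]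

theorem six (h : IsGolay C) (hD : D ∈ C) (hD12 : D.card = 12) {b : α} (hb : b ∉ D)
    {s : Finset α} (hs : s ∈ C) (h2 : (s ∩ D).card = 2) (hbs : b ∉ s) : (s \ D).card = 6 := by
  have h1 := card_inter_add_sdiff s D
  have h3 : s \ D ⊆ Dᶜ.erase b := by
    intro x hx
    rw [Finset.mem_sdiff] at hx
    rw [Finset.mem_erase, Finset.mem_compl]
    exact ⟨fun e => hbs (e ▸ hx.1), hx.2⟩
  have h4 := Finset.card_le_card h3
  rw [card_off h hD12 hb] at h4
  have h5 := h.card_cases hs
  have h6 := h.card_cases (h.symm s hs _ (h.compl_mem hD))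
  have h7 := card_sd s Dᶜ
  have h8 : s ∩ Dᶜ = s \ D := by
    ext x; simp
  rw [h8, h.card_compl, hD12] at h7
  omega

theorem five_off (h : IsGolay C) (hD : D ∈ C) (hD12 : D.card = 12) {b : α} (hb : b ∉ D)
    {s : Finset α} (hs : s ∈ C) (h2 : (s ∩ D).card = 2) (hbs : b ∉ s) :
    (univ.filter (fun k => (k ∉ D ∧ k ≠ b) ∧ k ∉ s)).card = 5 := by
  have h1 := six h hD hD12 hb hs h2 hbs
  have e1 : univ.filter (fun k => (k ∉ D ∧ k ≠ b) ∧ k ∉ s) = (Dᶜ.erase b) \ (s \ D) := by
    ext x
    simp only [Finset.mem_filter, Finset.mem_univ, true_and, Finset.mem_sdiff, Finset.mem_erase,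
      Finset.mem_compl]
    tauto
  have h3 : s \ D ⊆ Dᶜ.erase b := by
    intro x hx
    rw [Finset.mem_sdiff] at hx
    rw [Finset.mem_erase, Finset.mem_compl]
    exact ⟨fun e => hbs (e ▸ hx.1), hx.2⟩
  rw [e1, Finset.card_sdiff_of_subset h3, card_off h hD12 hb, h1]

theorem two_off (h : IsGolay C) (hD : D ∈ C) (hD12 : D.card = 12) {a b i j : α} (hb : b ∉ D)
    {s s' : Finset α} (hs : s ∈ C) (hs' : s' ∈ C) (hia : i ≠ a) (hja : j ≠ a)
    (h2 : s ∩ D = {a, i}) (h2' : s' ∩ D = {a, j}) (hij : i ≠ j) (hbs : b ∉ s) (hbs' : b ∉ s') :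
    (univ.filter (fun k => (k ∉ D ∧ k ≠ b) ∧ (k ∉ s ∧ k ∉ s'))).card = 2 := by
  have c1 : (s ∩ D).card = 2 := by rw [h2]; exact Finset.card_pair (Ne.symm hia)
  have c2 : (s' ∩ D).card = 2 := by rw [h2']; exact Finset.card_pair (Ne.symm hja)
  have c3 : (symmDiff s s' ∩ D).card = 2 := by
    rw [inter_symm, h2, h2']
    have : symmDiff ({a, i} : Finset α) {a, j} = {i, j} := by
      ext x
      simp only [Finset.mem_symmDiff, Finset.mem_insert, Finset.mem_singleton]
      constructor
      · tauto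
      · rintro (rfl | rfl)
        · left; tauto
        · right
          refine ⟨Or.inr rfl, ?_⟩
          tauto
    rw [this]
    exact Finset.card_pair hij
  have h1 := six h hD hD12 hb hs c1 hbs
  have h1' := six h hD hD12 hb hs' c2 hbs'
  have hbss : b ∉ symmDiff s s' := by
    rw [Finset.mem_symmDiff]; tauto
  have h1'' := six h hD hD12 hb (h.symm s hs s' hs') c3 hbss
  have e2 : symmDiff s s' \ D = symmDiff (s \ D) (s' \ D) := by
    ext x
    simp only [Finset.mem_symmDiff, Finset.mem_sdiff]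
    tauto
  rw [e2] at h1''
  have h3 := card_sd (s \ D) (s' \ D)
  have h4 := Finset.card_union_add_card_inter (s \ D) (s' \ D)
  have e1 : univ.filter (fun k => (k ∉ D ∧ k ≠ b) ∧ (k ∉ s ∧ k ∉ s')) =
      (Dᶜ.erase b) \ ((s \ D) ∪ (s' \ D)) := by
    ext x
    simp only [Finset.mem_filter, Finset.mem_univ, true_and, Finset.mem_sdiff, Finset.mem_erase,
      Finset.mem_compl, Finset.mem_union]
    tauto
  have h5 : (s \ D) ∪ (s' \ D) ⊆ Dᶜ.erase b := by
    intro x hx
    rw [Finset.mem_union, Finset.mem_sdiff, Finset.mem_sdiff] at hx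
    rw [Finset.mem_erase, Finset.mem_compl]
    rcases hx with hx | hx
    · exact ⟨fun e => hbs (e ▸ hx.1), hx.2⟩
    · exact ⟨fun e => hbs' (e ▸ hx.1), hx.2⟩
  rw [e1, Finset.card_sdiff_of_subset h5, card_off h hD12 hb]
  omega

theorem card_sub {p : α → Prop} [DecidablePred p] (q : α → Prop) [DecidablePred q]
    [DecidablePred fun k : {x // p x} => q k] :
    (univ.filter (fun k : {x // p x} => q k)).card = (univ.filter (fun k => p k ∧ q k)).card := by
  rw [← Finset.card_map (Function.Embedding.subtype p)]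
  congr 1
  ext x
  simp only [Finset.mem_map, Finset.mem_filter, Finset.mem_univ, true_and,
    Function.Embedding.coe_subtype, Subtype.exists, exists_and_right, exists_eq_right]
  constructor
  · rintro ⟨h, h'⟩
    exact ⟨h, h'⟩
  · rintro ⟨h, h'⟩
    exact ⟨h, h'⟩

/-- the incidence attached to a dodecad and two base points -/
theorem biplane (h : IsGolay C) (hD : D ∈ C) (hD12 : D.card = 12) {a b : α} (ha : a ∈ D)
    (hb : b ∉ D) (c : {j // j ∈ D ∧ j ≠ a} → Finset α) (hc : ∀ j, c j ∈ C)
    (hc1 : ∀ j, c j ∩ D = {a, j.1}) (hc2 : ∀ j, b ∉ c j)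
    [∀ (j : {j // j ∈ D ∧ j ≠ a}) (k : {k // k ∉ D ∧ k ≠ b}), Decidable (k.1 ∉ c j)] :
    CfsgL.Biplane.IsBiplane (fun (j : {j // j ∈ D ∧ j ≠ a}) (k : {k // k ∉ D ∧ k ≠ b}) =>
      k.1 ∉ c j) := by
  have hDc : Dᶜ ∈ C := h.compl_mem hD
  have hDc12 : Dᶜ.card = 12 := by rw [h.card_compl, hD12]
  have ha' : a ∉ Dᶜ := by rw [Finset.mem_compl]; exact not_not.2 ha
  have hb' : b ∈ Dᶜ := Finset.mem_compl.2 hb
  have hd : ∀ k : {k // k ∉ D ∧ k ≠ b}, ∃ s ∈ C, s ∩ Dᶜ = {b, k.1} ∧ a ∉ s := by
    intro k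
    refine exists_word' h hDc hDc12 ha' ?_ ?_
    · intro x hx
      rw [Finset.mem_insert, Finset.mem_singleton] at hx
      rcases hx with rfl | rfl
      · exact hb'
      · exact Finset.mem_compl.2 k.2.1
    · rw [Finset.card_pair (Ne.symm k.2.2)]
      exact even_two
  choose d hd0 hd1 hd2 using hd
  have key : ∀ j k, j.1 ∈ d k ↔ k.1 ∈ c j := by
    intro j k
    have h1 := h.even_inter (hc j) (hd0 k)
    have e1 : c j ∩ d k = (c j ∩ d k ∩ D) ∪ (c j ∩ d k ∩ Dᶜ) := by
      ext x
      simp only [Finset.mem_inter, Finset.mem_union, Finset.mem_compl]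
      tauto
    have e2 : Disjoint (c j ∩ d k ∩ D) (c j ∩ d k ∩ Dᶜ) := by
      rw [Finset.disjoint_left]
      intro x hx hx'
      simp only [Finset.mem_inter, Finset.mem_compl] at hx hx'
      tauto
    have m1 : ∀ x, x ∈ c j ∧ x ∈ D ↔ x = a ∨ x = j.1 := by
      intro x
      have := Finset.ext_iff.1 (hc1 j) x
      simpa using this
    have m2 : ∀ x, x ∈ d k ∧ x ∉ D ↔ x = b ∨ x = k.1 := by
      intro x
      have := Finset.ext_iff.1 (hd1 k) x
      simpa using this
    have e3 : c j ∩ d k ∩ D = if j.1 ∈ d k then {j.1} else ∅ := by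
      ext x
      simp only [Finset.mem_inter]
      split_ifs with hj
      · rw [Finset.mem_singleton]
        constructor
        · rintro ⟨⟨h3, h4⟩, h5⟩
          rcases (m1 x).1 ⟨h3, h5⟩ with rfl | h6
          · exact absurd h4 (hd2 k)
          · exact h6
        · rintro rfl
          have := (m1 j.1).2 (Or.inr rfl)
          exact ⟨⟨this.1, hj⟩, this.2⟩
      · simp only [Finset.notMem_empty, iff_false]
        rintro ⟨⟨h3, h4⟩, h5⟩
        rcases (m1 x).1 ⟨h3, h5⟩ with rfl | rfl
        · exact hd2 k h4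
        · exact hj h4
    have e4 : c j ∩ d k ∩ Dᶜ = if k.1 ∈ c j then {k.1} else ∅ := by
      ext x
      simp only [Finset.mem_inter, Finset.mem_compl]
      split_ifs with hk
      · rw [Finset.mem_singleton]
        constructor
        · rintro ⟨⟨h3, h4⟩, h5⟩
          rcases (m2 x).1 ⟨h4, h5⟩ with rfl | h6
          · exact absurd h3 (hc2 j)
          · exact h6
        · rintro rfl
          have := (m2 k.1).2 (Or.inr rfl)
          exact ⟨⟨hk, this.1⟩, this.2⟩
      · simp only [Finset.notMem_empty, iff_false]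
        rintro ⟨⟨h3, h4⟩, h5⟩
        rcases (m2 x).1 ⟨h4, h5⟩ with rfl | rfl
        · exact hc2 j h3
        · exact hk h3
    rw [e1, Finset.card_union_of_disjoint e2, e3, e4] at h1
    by_cases hj : j.1 ∈ d k <;> by_cases hk : k.1 ∈ c j <;> simp_all
  have hccard : ∀ j, (c j ∩ D).card = 2 := fun j => by
    rw [hc1]; exact Finset.card_pair (Ne.symm j.2.2)
  have hdcard : ∀ k, (d k ∩ Dᶜ).card = 2 := fun k => by
    rw [hd1]; exact Finset.card_pair (Ne.symm k.2.2)
  refine ⟨?_, ?_, ?_, ?_, ?_, ?_⟩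
  · rw [Fintype.card_subtype]
    have : univ.filter (fun x => x ∈ D ∧ x ≠ a) = D.erase a := by
      ext x; simp [and_comm]
    rw [this, Finset.card_erase_of_mem ha, hD12]
  · rw [Fintype.card_subtype]
    have : univ.filter (fun x => x ∉ D ∧ x ≠ b) = Dᶜ.erase b := by
      ext x; simp [and_comm]
    rw [this, card_off h hD12 hb]
  · intro j
    have := card_sub (p := fun k => k ∉ D ∧ k ≠ b) (fun k => k ∉ c j)
    rw [← five_off h hD hD12 hb (hc j) (hccard j) (hc2 j), ← this]
  · intro k
    have := card_sub (p := fun j => j ∈ D ∧ j ≠ a) (fun j => j ∉ d k)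
    have h5 := five_off h hDc hDc12 ha' (hd0 k) (hdcard k) (hd2 k)
    have h6 : univ.filter (fun i => (i ∈ D ∧ i ≠ a) ∧ i ∉ d k) =
      univ.filter (fun k_1 => (k_1 ∉ Dᶜ ∧ k_1 ≠ a) ∧ k_1 ∉ d k) := by
      ext x; simp
    rw [h6, h5] at this
    rw [← this]
    congr 1
    ext j
    simp only [Finset.mem_filter, Finset.mem_univ, true_and]
    rw [key]
  · intro i j hij
    have := card_sub (p := fun k => k ∉ D ∧ k ≠ b) (fun k => k ∉ c i ∧ k ∉ c j)
    have hij' : i.1 ≠ j.1 := fun e => hij (Subtype.ext e)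
    rw [← two_off h hD hD12 hb (hc i) (hc j) i.2.2 j.2.2 (hc1 i) (hc1 j) hij' (hc2 i) (hc2 j),
      ← this]
  · intro k l hkl
    have := card_sub (p := fun j => j ∈ D ∧ j ≠ a) (fun j => j ∉ d k ∧ j ∉ d l)
    have hkl' : k.1 ≠ l.1 := fun e => hkl (Subtype.ext e)
    have h5 := two_off h hDc hDc12 ha' (hd0 k) (hd0 l) k.2.2 l.2.2 (hd1 k) (hd1 l) hkl' (hd2 k) (hd2 l)
    have h6 : univ.filter (fun i => (i ∈ D ∧ i ≠ a) ∧ (i ∉ d k ∧ i ∉ d l)) =
      univ.filter (fun k_1 => (k_1 ∉ Dᶜ ∧ k_1 ≠ a) ∧ (k_1 ∉ d k ∧ k_1 ∉ d l)) := by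
      ext x; simp
    rw [h6, h5] at this
    rw [← this]
    congr 1
    ext j
    simp only [Finset.mem_filter, Finset.mem_univ, true_and]
    rw [key, key]

/-- two Golay codes sharing a dodecad and the words through a base point coincide -/
theorem frame_sub {C' : Finset (Finset α)} (h : IsGolay C) (h' : IsGolay C') (hD : D ∈ C)
    (hD' : D ∈ C') (hD12 : D.card = 12) {a : α}
    (hw : ∀ j ∈ D, j ≠ a → ∃ s, s ∈ C ∧ s ∈ C' ∧ s ∩ D = {a, j}) : C ⊆ C' := by
  have key : ∀ n : ℕ, ∀ s ∈ C, ((s ∩ D).erase a).card = n → s ∈ C' := by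
    intro n
    induction n using Nat.strong_induction_on with
    | _ n ih =>
      intro s hs hn
      by_cases h0 : s ∩ D = ∅
      · rcases ker_eq h hD hD12 hs h0 with rfl | rfl
        · exact h'.empty_mem
        · exact h'.compl_mem hD'
      · have h1 := h.even_inter hs hD
        have h2 : ∃ j ∈ s ∩ D, j ≠ a := by
          by_contra hc
          push Not at hc
          have : s ∩ D = {a} := by
            apply Finset.eq_singleton_iff_nonempty_unique_mem.2
            exact ⟨Finset.nonempty_iff_ne_empty.2 h0, hc⟩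
          rw [this] at h1
          simp at h1
        obtain ⟨j, hj, hja⟩ := h2
        rw [Finset.mem_inter] at hj
        obtain ⟨t, ht, ht', htD⟩ := hw j hj.2 hja
        have h3 : symmDiff s t ∈ C' := by
          refine ih (((symmDiff s t ∩ D).erase a).card) ?_ _ (h.symm s hs t ht) rfl
          have e : (symmDiff s t ∩ D).erase a = ((s ∩ D).erase a).erase j := by
            rw [inter_symm, htD]
            ext x
            simp only [Finset.mem_erase, Finset.mem_symmDiff, Finset.mem_insert,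
              Finset.mem_singleton, Finset.mem_inter]
            constructor
            · rintro ⟨h3, h4 | h4⟩
              · exact ⟨fun e => h4.2 (Or.inr e), h3, h4.1⟩
              · rcases h4.1 with e | e
                · exact absurd e h3
                · rw [e] at h4
                  exact absurd hj h4.2
            · rintro ⟨h3, h4, h5⟩
              refine ⟨h4, Or.inl ⟨h5, ?_⟩⟩
              rintro (e | e)
              · exact h4 e
              · exact h3 e
          rw [e, Finset.card_erase_of_mem, ← hn]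
          · have : 0 < ((s ∩ D).erase a).card :=
              Finset.card_pos.2 ⟨j, by rw [Finset.mem_erase, Finset.mem_inter]; exact ⟨hja, hj⟩⟩
            omega
          · rw [Finset.mem_erase, Finset.mem_inter]
            exact ⟨hja, hj⟩
        have h4 := h'.symm _ h3 t ht'
        rwa [symm_symm] at h4
  intro s hs
  exact key _ s hs rfl

end basics

section uniq
variable {α β : Type*} [Fintype α] [DecidableEq α] [Fintype β] [DecidableEq β]

/-- gluing map -/
noncomputable def glue (D : Finset α) (a : α) (b : α) (D' : Finset β) (a' b' : β)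
    (e : {j // j ∈ D ∧ j ≠ a} ≃ {j // j ∈ D' ∧ j ≠ a'})
    (f : {k // k ∉ D ∧ k ≠ b} ≃ {k // k ∉ D' ∧ k ≠ b'}) (x : α) : β :=
  if h : x ∈ D ∧ x ≠ a then (e ⟨x, h⟩).1 else if h' : x ∉ D ∧ x ≠ b then (f ⟨x, h'⟩).1 else
    if x = a then a' else b'

theorem glue_D {D : Finset α} {a b : α} {D' : Finset β} {a' b' : β}
    (e : {j // j ∈ D ∧ j ≠ a} ≃ {j // j ∈ D' ∧ j ≠ a'})
    (f : {k // k ∉ D ∧ k ≠ b} ≃ {k // k ∉ D' ∧ k ≠ b'}) (x : {j // j ∈ D ∧ j ≠ a}) :
    glue D a b D' a' b' e f x.1 = (e x).1 := by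
  simp only [glue, dif_pos x.2]

theorem glue_C {D : Finset α} {a b : α} {D' : Finset β} {a' b' : β}
    (e : {j // j ∈ D ∧ j ≠ a} ≃ {j // j ∈ D' ∧ j ≠ a'})
    (f : {k // k ∉ D ∧ k ≠ b} ≃ {k // k ∉ D' ∧ k ≠ b'}) (x : {k // k ∉ D ∧ k ≠ b}) :
    glue D a b D' a' b' e f x.1 = (f x).1 := by
  have h : ¬ (x.1 ∈ D ∧ x.1 ≠ a) := fun h => x.2.1 h.1
  simp only [glue, dif_neg h, dif_pos x.2]

theorem glue_a {D : Finset α} {a b : α} {D' : Finset β} {a' b' : β}
    (e : {j // j ∈ D ∧ j ≠ a} ≃ {j // j ∈ D' ∧ j ≠ a'})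
    (f : {k // k ∉ D ∧ k ≠ b} ≃ {k // k ∉ D' ∧ k ≠ b'}) (ha : a ∈ D) :
    glue D a b D' a' b' e f a = a' := by
  have h : ¬ (a ∈ D ∧ a ≠ a) := fun h => h.2 rfl
  have h' : ¬ (a ∉ D ∧ a ≠ b) := fun h => h.1 ha
  simp only [glue, dif_neg h, dif_neg h', if_true]

theorem glue_b {D : Finset α} {a b : α} {D' : Finset β} {a' b' : β}
    (e : {j // j ∈ D ∧ j ≠ a} ≃ {j // j ∈ D' ∧ j ≠ a'})
    (f : {k // k ∉ D ∧ k ≠ b} ≃ {k // k ∉ D' ∧ k ≠ b'}) (ha : a ∈ D) (hb : b ∉ D) :
    glue D a b D' a' b' e f b = b' := by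
  have h : ¬ (b ∈ D ∧ b ≠ a) := fun h => hb h.1
  have h' : ¬ (b ∉ D ∧ b ≠ b) := fun h => h.2 rfl
  have h'' : b ≠ a := fun e => hb (e ▸ ha)
  simp only [glue, dif_neg h, dif_neg h', if_neg h'']

theorem four_cases (D : Finset α) (a b x : α) :
    (∃ h : x ∈ D ∧ x ≠ a, True) ∨ (∃ h : x ∉ D ∧ x ≠ b, True) ∨ (x = a ∧ x ∈ D) ∨ (x = b ∧ x ∉ D) := by
  by_cases h1 : x ∈ D <;> by_cases h2 : x = a <;> by_cases h3 : x = b <;> simp [h1, h2, h3]
  all_goals tauto

/-- the glued bijection -/
theorem exists_glue {D : Finset α} {a b : α} {D' : Finset β} {a' b' : β} (ha : a ∈ D) (hb : b ∉ D)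
    (ha' : a' ∈ D') (hb' : b' ∉ D') (hcard : Fintype.card α = Fintype.card β)
    (e : {j // j ∈ D ∧ j ≠ a} ≃ {j // j ∈ D' ∧ j ≠ a'})
    (f : {k // k ∉ D ∧ k ≠ b} ≃ {k // k ∉ D' ∧ k ≠ b'}) :
    ∃ E : α ≃ β, E a = a' ∧ E b = b' ∧ (∀ x : {j // j ∈ D ∧ j ≠ a}, E x.1 = (e x).1) ∧
      (∀ x : {k // k ∉ D ∧ k ≠ b}, E x.1 = (f x).1) := by
  have hsurj : Function.Surjective (glue D a b D' a' b' e f) := by
    intro y
    by_cases h1 : y ∈ D' ∧ y ≠ a'
    · refine ⟨(e.symm ⟨y, h1⟩).1, ?_⟩
      rw [glue_D, Equiv.apply_symm_apply]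
    · by_cases h2 : y ∉ D' ∧ y ≠ b'
      · refine ⟨(f.symm ⟨y, h2⟩).1, ?_⟩
        rw [glue_C, Equiv.apply_symm_apply]
      · by_cases h3 : y = a'
        · exact ⟨a, by rw [glue_a e f ha, h3]⟩
        · have h4 : y = b' := by
            by_contra h5
            have h6 : y ∉ D' := fun h => h1 ⟨h, h3⟩
            exact h2 ⟨h6, h5⟩
          exact ⟨b, by rw [glue_b e f ha hb, h4]⟩
  have hbij : Function.Bijective (glue D a b D' a' b' e f) := by
    rw [Fintype.bijective_iff_surjective_and_card]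
    exact ⟨hsurj, hcard⟩
  refine ⟨Equiv.ofBijective _ hbij, ?_, ?_, ?_, ?_⟩
  · exact glue_a e f ha
  · exact glue_b e f ha hb
  · exact fun x => glue_D e f x
  · exact fun x => glue_C e f x

/-- transport of a code -/
theorem IsGolay.map {C : Finset (Finset α)} (h : IsGolay C) (E : α ≃ β) :
    IsGolay (C.image (fun s => s.map E.toEmbedding)) := by
  have hinj : Function.Injective (fun s : Finset α => s.map E.toEmbedding) :=
    Finset.map_injective _
  refine ⟨?_, ?_, ?_, ?_, ?_⟩
  · rw [← h.pts]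
    exact (Fintype.card_congr E).symm
  · intro s hs t ht
    rw [Finset.mem_image] at hs ht ⊢
    obtain ⟨s, hs, rfl⟩ := hs
    obtain ⟨t, ht, rfl⟩ := ht
    refine ⟨symmDiff s t, h.symm s hs t ht, ?_⟩
    ext x
    simp only [Finset.mem_map_equiv, Finset.mem_symmDiff]
  · rw [Finset.card_image_of_injective _ hinj, h.size]
  · intro s hs
    rw [Finset.mem_image] at hs
    obtain ⟨s, hs, rfl⟩ := hs
    rw [Finset.card_map]
    exact h.four s hs
  · intro s hs
    rw [Finset.mem_image] at hs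
    obtain ⟨s, hs, rfl⟩ := hs
    rw [Finset.card_map]
    exact h.ne4 s hs

/-- uniqueness of the Golay code, with dodecads and base points prescribed -/
theorem IsGolay.unique' {C : Finset (Finset α)} {C' : Finset (Finset β)} (h : IsGolay C)
    (h' : IsGolay C') {D : Finset α} (hD : D ∈ C) (hD12 : D.card = 12) {D' : Finset β}
    (hD' : D' ∈ C') (hD12' : D'.card = 12) {a b : α} {a' b' : β} (ha : a ∈ D) (hb : b ∉ D)
    (ha' : a' ∈ D') (hb' : b' ∉ D') :
    ∃ E : α ≃ β, (∀ s, s ∈ C ↔ s.map E.toEmbedding ∈ C') ∧ D.map E.toEmbedding = D' ∧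
      E a = a' ∧ E b = b' := by
  classical
  have hw : ∀ j : {j // j ∈ D ∧ j ≠ a}, ∃ s ∈ C, s ∩ D = {a, j.1} ∧ b ∉ s := by
    intro j
    refine exists_word' h hD hD12 hb ?_ ?_
    · intro x hx
      rw [Finset.mem_insert, Finset.mem_singleton] at hx
      rcases hx with rfl | rfl
      · exact ha
      · exact j.2.1
    · rw [Finset.card_pair (Ne.symm j.2.2)]; exact even_two
  have hw' : ∀ j : {j // j ∈ D' ∧ j ≠ a'}, ∃ s ∈ C', s ∩ D' = {a', j.1} ∧ b' ∉ s := by
    intro j
    refine exists_word' h' hD' hD12' hb' ?_ ?_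
    · intro x hx
      rw [Finset.mem_insert, Finset.mem_singleton] at hx
      rcases hx with rfl | rfl
      · exact ha'
      · exact j.2.1
    · rw [Finset.card_pair (Ne.symm j.2.2)]; exact even_two
  choose c c0 c1 c2 using hw
  choose d d0 d1 d2 using hw'
  obtain ⟨e, f, hef⟩ := CfsgL.Biplane.unique (biplane h hD hD12 ha hb c c0 c1 c2)
    (biplane h' hD' hD12' ha' hb' d d0 d1 d2)
  obtain ⟨E, Ea, Eb, EeE, EfE⟩ := exists_glue ha hb ha' hb' (h.pts.trans h'.pts.symm) e f
  have hED : D.map E.toEmbedding = D' := by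
    symm
    apply Finset.eq_of_subset_of_card_le
    · intro y hy
      rw [Finset.mem_map_equiv]
      by_cases hya : y = a'
      · rw [hya, ← Ea, Equiv.symm_apply_apply]
        exact ha
      · have := EeE (e.symm ⟨y, hy, hya⟩)
        rw [Equiv.apply_symm_apply] at this
        simp only at this
        rw [← this, Equiv.symm_apply_apply]
        exact (e.symm ⟨y, hy, hya⟩).2.1
    · rw [Finset.card_map, hD12, hD12']
  have memE : ∀ x, E x ∈ D' ↔ x ∈ D := by
    intro x
    rw [← hED, Finset.mem_map_equiv, Equiv.symm_apply_apply]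
  have hcE : ∀ j, (c j).map E.toEmbedding = d (e j) := by
    intro j
    ext y
    obtain ⟨x, rfl⟩ := E.surjective y
    rw [Finset.mem_map_equiv, Equiv.symm_apply_apply]
    have m1 : ∀ x, x ∈ c j ∧ x ∈ D ↔ x = a ∨ x = j.1 := by
      intro x
      have := Finset.ext_iff.1 (c1 j) x
      simpa using this
    have m2 : ∀ x, x ∈ d (e j) ∧ x ∈ D' ↔ x = a' ∨ x = (e j).1 := by
      intro x
      have := Finset.ext_iff.1 (d1 (e j)) x
      simpa using this
    by_cases hx : x ∈ D
    · have h1 : x ∈ c j ↔ x = a ∨ x = j.1 := by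
        rw [← m1]; tauto
      have h2 : E x ∈ d (e j) ↔ E x = a' ∨ E x = (e j).1 := by
        rw [← m2]; have := (memE x).2 hx; tauto
      have h5 : E x = a' ↔ x = a := by rw [← Ea]; exact E.apply_eq_iff_eq
      have h6 : E x = (e j).1 ↔ x = j.1 := by rw [← EeE j]; exact E.apply_eq_iff_eq
      rw [h1, h2, h5, h6]
    · by_cases hxb : x = b
      · rw [hxb, Eb]
        exact ⟨fun h => absurd h (c2 j), fun h => absurd h (d2 (e j))⟩
      · have h3 := hef j ⟨x, hx, hxb⟩
        have h4 := EfE ⟨x, hx, hxb⟩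
        simp only at h3 h4
        rw [h4]
        tauto
  refine ⟨E, ?_, hED, Ea, Eb⟩
  have hmap := h.map E
  have hDm : D' ∈ C.image (fun s => s.map E.toEmbedding) := by
    rw [Finset.mem_image]
    exact ⟨D, hD, hED⟩
  have hsub : C.image (fun s => s.map E.toEmbedding) ⊆ C' := by
    refine frame_sub hmap h' hDm hD' hD12' (a := a') ?_
    intro j hj hja
    refine ⟨d ⟨j, hj, hja⟩, ?_, d0 _, d1 _⟩
    rw [Finset.mem_image]
    refine ⟨c (e.symm ⟨j, hj, hja⟩), c0 _, ?_⟩
    rw [hcE, Equiv.apply_symm_apply]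
  have heq : C.image (fun s => s.map E.toEmbedding) = C' := by
    apply Finset.eq_of_subset_of_card_le hsub
    rw [hmap.size, h'.size]
  intro s
  rw [← heq, Finset.mem_image]
  constructor
  · intro hs
    exact ⟨s, hs, rfl⟩
  · rintro ⟨t, ht, hts⟩
    have := Finset.map_injective _ hts
    rwa [← this]

theorem IsGolay.unique {C : Finset (Finset α)} {C' : Finset (Finset β)} (h : IsGolay C)
    (h' : IsGolay C') : ∃ E : α ≃ β, ∀ s, s ∈ C ↔ s.map E.toEmbedding ∈ C' := by
  obtain ⟨D, hD, hD12⟩ := h.exists_dodecad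
  obtain ⟨D', hD', hD12'⟩ := h'.exists_dodecad
  have h1 : D.Nonempty := by rw [← Finset.card_pos, hD12]; norm_num
  have h1' : D'.Nonempty := by rw [← Finset.card_pos, hD12']; norm_num
  have h2 : Dᶜ.Nonempty := by rw [← Finset.card_pos, h.card_compl, hD12]; norm_num
  have h2' : D'ᶜ.Nonempty := by rw [← Finset.card_pos, h'.card_compl, hD12']; norm_num
  obtain ⟨a, ha⟩ := h1
  obtain ⟨a', ha'⟩ := h1'
  obtain ⟨b, hb⟩ := h2
  obtain ⟨b', hb'⟩ := h2'
  obtain ⟨E, hE, _⟩ := IsGolay.unique' h h' hD hD12 hD' hD12' ha (Finset.mem_compl.1 hb) ha'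
    (Finset.mem_compl.1 hb')
  exact ⟨E, hE⟩

end uniq

open Cfsg CfsgL.Golay CfsgL.Comp in
/-- the standard Golay code as a finset of finsets -/
noncomputable def G0 : Finset (Finset GolayPt) :=
  (Set.toFinite (supports (golayCode : Set (GolayPt → ZMod 2)))).toFinset

open Cfsg CfsgL.Golay CfsgL.Comp in
theorem mem_G0 {s : Finset GolayPt} : s ∈ G0 ↔ s ∈ supports (golayCode : Set (GolayPt → ZMod 2)) := by
  unfold G0
  rw [Set.Finite.mem_toFinset]

open Cfsg CfsgL.Golay CfsgL.Comp in
theorem G0_golay : IsGolay G0 := by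
  refine ⟨?_, ?_, ?_, ?_, ?_⟩
  · rw [Fintype.card_congr ptEquiv, Fintype.card_fin]
  · intro s hs t ht
    rw [mem_G0] at *
    exact symmDiff_mem_supports hs ht
  · have h1 := ncard_supports_filter (fun _ => true)
      (supports (golayCode : Set (GolayPt → ZMod 2))) (by
        intro s
        simp only [mem_supports]
        constructor
        · rintro ⟨x, hx, rfl⟩
          exact ⟨x, hx, trivial, rfl⟩
        · rintro ⟨x, hx, _, h⟩
          exact ⟨x, hx, h⟩)
    have h2 : cntD (fun _ => true) 12 0 = 4096 := by decide +kernel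
    rw [h2] at h1
    rw [← h1, Set.ncard_eq_toFinset_card]
    rfl
  · intro s hs
    rw [mem_G0] at hs
    rcases card_of_mem_supports hs with h | h | h | h | h <;> omega
  · intro s hs
    rw [mem_G0] at hs
    rcases card_of_mem_supports hs with h | h | h | h | h <;> omega

end CfsgL.GU
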