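import Cfsg.Prelude.Def_Sporadic_a
/-!
Elementary counting in Steiner systems.
-/
set_option autoImplicit false
namespace CfsgL.Steiner
open Cfsg Finset

variable {α : Type*} [Fintype α] [DecidableEq α]

/-- blocks as a finset -/
noncomputable def bl (B : Set (Finset α)) : Finset (Finset α) := B.toFinite.toFinset

omit [DecidableEq α] in
@[simp] theorem mem_bl {B : Set (Finset α)} {b : Finset α} : b ∈ bl B ↔ b ∈ B := by
  simp [bl]

omit [DecidableEq α] in
theorem ncard_eq (B : Set (Finset α)) : B.ncard = (bl B).card := by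
  rw [Set.ncard_eq_toFinset_card B (Set.toFinite B)]; rfl

/-- number of `t`-sets between `s` and `b` -/
theorem card_between (s b : Finset α) (h : s ⊆ b) (t : ℕ) (hst : s.card ≤ t) :
    ((powersetCard t b).filter (fun T => s ⊆ T)).card = (b.card - s.card).choose (t - s.card) := by
  have : ((powersetCard t b).filter (fun T => s ⊆ T)) =
      (powersetCard (t - s.card) (b \ s)).image (fun U => U ∪ s) := by
    ext T
    rw [mem_filter, mem_powersetCard, mem_image]
    constructor
    · rintro ⟨⟨h1, h2⟩, h3⟩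
      refine ⟨T \ s, ?_, ?_⟩
      · rw [mem_powersetCard]
        refine ⟨sdiff_subset_sdiff h1 (Subset.refl _), ?_⟩
        rw [card_sdiff_of_subset h3, h2]
      · rw [sdiff_union_of_subset h3]
    · rintro ⟨U, hU, rfl⟩
      rw [mem_powersetCard] at hU
      have hdis : Disjoint U s := disjoint_of_subset_left hU.1 sdiff_disjoint
      refine ⟨⟨union_subset (hU.1.trans sdiff_subset) h, ?_⟩, subset_union_right⟩
      rw [card_union_of_disjoint hdis, hU.2]; omega
  rw [this, card_image_of_injOn, card_powersetCard, card_sdiff_of_subset h]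
  intro U hU V hV hUV
  rw [mem_coe, mem_powersetCard] at hU hV
  have hdU : Disjoint U s := disjoint_of_subset_left hU.1 sdiff_disjoint
  have hdV : Disjoint V s := disjoint_of_subset_left hV.1 sdiff_disjoint
  have h1 : (U ∪ s) \ s = (V ∪ s) \ s := by
    change U ∪ s = V ∪ s at hUV
    rw [hUV]
  rwa [union_sdiff_cancel_right hdU, union_sdiff_cancel_right hdV] at h1

/-- blocks through a set of at most `t` points -/
noncomputable def thr (B : Set (Finset α)) (s : Finset α) : Finset (Finset α) :=
  (bl B).filter (fun b => s ⊆ b)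

theorem mem_thr {B : Set (Finset α)} {s b : Finset α} : b ∈ thr B s ↔ b ∈ B ∧ s ⊆ b := by
  simp [thr]

theorem card_thr_mul {t k : ℕ} {B : Set (Finset α)} (hB : IsSteinerSystem t k B) (s : Finset α)
    (hs : s.card ≤ t) :
    (thr B s).card * (k - s.card).choose (t - s.card) =
      (Fintype.card α - s.card).choose (t - s.card) := by
  rw [← card_univ, ← card_between s univ (subset_univ s) t hs]
  have h1 : ∑ b ∈ thr B s, ((powersetCard t univ).filter (fun T => s ⊆ T ∧ T ⊆ b)).card =
      (thr B s).card * (k - s.card).choose (t - s.card) := by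
    rw [card_eq_sum_ones, sum_mul]
    apply sum_congr rfl
    intro b hb
    rw [mem_thr] at hb
    have := card_between s b hb.2 t hs
    rw [hB.1 b hb.1] at this
    rw [one_mul, ← this]
    congr 1
    ext T
    simp only [mem_filter, mem_powersetCard, subset_univ, true_and]
    tauto
  have h2 : ∑ T ∈ (powersetCard t univ).filter (fun T => s ⊆ T),
      ((thr B s).filter (fun b => T ⊆ b)).card = ((powersetCard t univ).filter (fun T => s ⊆ T)).card := by
    rw [card_eq_sum_ones ((powersetCard t univ).filter (fun T => s ⊆ T))]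
    apply sum_congr rfl
    intro T hT
    rw [mem_filter, mem_powersetCard] at hT
    obtain ⟨b, hb, hu⟩ := hB.2 T hT.1.2
    rw [card_eq_one]
    refine ⟨b, ?_⟩
    ext c
    rw [mem_filter, mem_thr, mem_singleton]
    constructor
    · rintro ⟨⟨h1, _⟩, h2⟩; exact hu c ⟨h1, h2⟩
    · rintro rfl; exact ⟨⟨hb.1, hT.2.trans hb.2⟩, hb.2⟩
  rw [← h1, ← h2]
  have h3 : ∀ b ∈ thr B s, ((powersetCard t univ).filter (fun T => s ⊆ T ∧ T ⊆ b)).card =
      (bipartiteBelow (fun (T : Finset α) (b : Finset α) => T ⊆ b)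
        ((powersetCard t univ).filter (fun T => s ⊆ T)) b).card := by
    intro b _
    congr 1
    ext T
    simp only [mem_filter, bipartiteBelow]
    tauto
  rw [sum_congr rfl h3]
  exact (sum_card_bipartiteAbove_eq_sum_card_bipartiteBelow (fun (T : Finset α) (b : Finset α) => T ⊆ b)).symm

theorem card_blocks_mul {t k : ℕ} {B : Set (Finset α)} (hB : IsSteinerSystem t k B) :
    (bl B).card * k.choose t = (Fintype.card α).choose t := by
  have h := card_thr_mul hB ∅ (by simp)
  have h2 : thr B ∅ = bl B := by ext b; simp [thr]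
  rw [h2] at h
  simpa using h

/-- double counting with a fixed set `b` -/
theorem sum_choose_inter (S : Finset (Finset α)) (b : Finset α) (j : ℕ) :
    ∑ c ∈ S, (b ∩ c).card.choose j = ∑ s ∈ powersetCard j b, (S.filter (fun c => s ⊆ c)).card := by
  have h1 : ∀ c ∈ S, (b ∩ c).card.choose j =
      (bipartiteBelow (fun (s : Finset α) (c : Finset α) => s ⊆ c) (powersetCard j b) c).card := by
    intro c _
    rw [← card_powersetCard]
    congr 1
    ext s
    simp only [mem_powersetCard, bipartiteBelow, mem_filter, subset_inter_iff]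
    tauto
  rw [sum_congr rfl h1]
  exact (sum_card_bipartiteAbove_eq_sum_card_bipartiteBelow (fun (T : Finset α) (b : Finset α) => T ⊆ b)).symm

/-- blocks other than `b` meeting `b` in exactly `i` points -/
noncomputable def xi (B : Set (Finset α)) (b : Finset α) (i : ℕ) : ℕ :=
  (((bl B).erase b).filter (fun c => (b ∩ c).card = i)).card

/-- two distinct blocks meet in fewer than `t` points -/
theorem inter_lt {t k : ℕ} {B : Set (Finset α)} (hB : IsSteinerSystem t k B) {b c : Finset α}
    (hb : b ∈ B) (hc : c ∈ B) (hbc : b ≠ c) : (b ∩ c).card < t := by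
  by_contra h
  push Not at h
  obtain ⟨T, hT, hTc⟩ := exists_subset_card_eq h
  obtain ⟨d, _, hu⟩ := hB.2 T hTc
  exact hbc ((hu b ⟨hb, hT.trans inter_subset_left⟩).trans
    (hu c ⟨hc, hT.trans inter_subset_right⟩).symm)

/-- the intersection equations -/
theorem sum_xi {t k : ℕ} {B : Set (Finset α)} (hB : IsSteinerSystem t k B) {b : Finset α}
    (hb : b ∈ B) (j l : ℕ) (hj : j < t)
    (hl : ∀ s : Finset α, s.card = j → (thr B s).card = l) :
    ∑ i ∈ range t, xi B b i * i.choose j = k.choose j * (l - 1) := by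
  have h1 := sum_choose_inter ((bl B).erase b) b j
  have h2 : ∑ s ∈ powersetCard j b, (((bl B).erase b).filter (fun c => s ⊆ c)).card =
      k.choose j * (l - 1) := by
    have : ∀ s ∈ powersetCard j b, (((bl B).erase b).filter (fun c => s ⊆ c)).card = l - 1 := by
      intro s hs
      rw [mem_powersetCard] at hs
      have : ((bl B).erase b).filter (fun c => s ⊆ c) = (thr B s).erase b := by
        ext c; simp only [mem_filter, mem_erase, mem_thr, mem_bl]; tauto
      rw [this, card_erase_of_mem (mem_thr.2 ⟨hb, hs.1⟩), hl s hs.2]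
    rw [sum_congr rfl this, sum_const, card_powersetCard, hB.1 b hb, smul_eq_mul]
  rw [← h2, ← h1]
  have h3 : ∀ c ∈ (bl B).erase b, (b ∩ c).card ∈ range t := by
    intro c hc
    rw [mem_erase, mem_bl] at hc
    exact mem_range.2 (inter_lt hB hb hc.2 (Ne.symm hc.1))
  rw [← sum_fiberwise_of_maps_to h3]
  apply sum_congr rfl
  intro i _
  have : ∀ c ∈ ((bl B).erase b).filter (fun c => (b ∩ c).card = i),
      (b ∩ c).card.choose j = i.choose j := by
    intro c hc
    rw [mem_filter] at hc
    rw [hc.2]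
  rw [sum_congr rfl this, sum_const, smul_eq_mul]; rfl

theorem xi_zero {B : Set (Finset α)} {b : Finset α} {i : ℕ} (h : xi B b i = 0) {c : Finset α}
    (hc : c ∈ B) (hbc : b ≠ c) : (b ∩ c).card ≠ i := by
  unfold xi at h
  rw [card_eq_zero] at h
  intro h1
  have : c ∈ ((bl B).erase b).filter (fun c => (b ∩ c).card = i) := by
    rw [mem_filter, mem_erase, mem_bl]
    exact ⟨⟨Ne.symm hbc, hc⟩, h1⟩
  rw [h] at this
  simp at this

theorem thr_of_choose {t k : ℕ} {B : Set (Finset α)} (hB : IsSteinerSystem t k B) {v j l : ℕ}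
    (hv : Fintype.card α = v) (hj : j ≤ t) (h : l * (k - j).choose (t - j) = (v - j).choose (t - j))
    (h0 : 0 < (k - j).choose (t - j)) (s : Finset α) (hs : s.card = j) : (thr B s).card = l := by
  have h1 := card_thr_mul hB s (by omega)
  rw [hs, hv, ← h] at h1
  exact Nat.eq_of_mul_eq_mul_right h0 h1

omit [Fintype α] in
/-- the derived design at a point -/
theorem derived {t k : ℕ} {B : Set (Finset α)} (hB : IsSteinerSystem (t + 1) (k + 1) B) (p : α) :
    IsSteinerSystem t k {b' : Finset {a : α // a ≠ p} |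
      ∃ b ∈ B, p ∈ b ∧ b' = Finset.subtype (fun a => a ≠ p) b} := by
  have hsub : ∀ b : Finset α, p ∈ b →
      (Finset.subtype (fun a => a ≠ p) b).map (Function.Embedding.subtype _) = b.erase p := by
    intro b _
    rw [subtype_map]
    ext x; simp only [mem_filter, mem_erase]; tauto
  constructor
  · rintro _ ⟨b, hb, hp, rfl⟩
    rw [← card_map (Function.Embedding.subtype _), hsub b hp, card_erase_of_mem hp, hB.1 b hb]
    rfl
  · intro s hs
    set s' : Finset α := insert p (s.map (Function.Embedding.subtype _)) with hs'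
    have hps : p ∉ s.map (Function.Embedding.subtype _) := by
      intro h
      rw [mem_map] at h
      obtain ⟨⟨a, ha⟩, _, h2⟩ := h
      exact ha h2
    have hcard : s'.card = t + 1 := by
      rw [hs', card_insert_of_notMem hps, card_map, hs]
    have hiff : ∀ b : Finset α, p ∈ b → (s ⊆ Finset.subtype (fun a => a ≠ p) b ↔ s' ⊆ b) := by
      intro b hpb
      constructor
      · intro h x hx
        rw [hs', mem_insert, mem_map] at hx
        rcases hx with rfl | ⟨y, hy, rfl⟩
        · exact hpb
        · exact mem_subtype.1 (h hy)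
      · intro h x hx
        rw [mem_subtype]
        apply h
        rw [hs', mem_insert, mem_map]
        exact Or.inr ⟨x, hx, rfl⟩
    obtain ⟨b, ⟨hb, hsb⟩, hu⟩ := hB.2 s' hcard
    have hpb : p ∈ b := hsb (mem_insert_self _ _)
    refine ⟨Finset.subtype (fun a => a ≠ p) b, ⟨⟨b, hb, hpb, rfl⟩, (hiff b hpb).2 hsb⟩, ?_⟩
    rintro _ ⟨⟨c, hc, hpc, rfl⟩, hsc⟩
    rw [hu c ⟨hc, (hiff c hpc).1 hsc⟩]

section S24
variable {B : Set (Finset α)} (hα : Fintype.card α = 24) (hB : IsSteinerSystem 5 8 B)
include hα hB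

theorem l24_0 (s : Finset α) (hs : s.card = 0) : (thr B s).card = 759 :=
  thr_of_choose hB hα (by norm_num) (by decide +kernel) (by decide +kernel) s hs
theorem l24_1 (s : Finset α) (hs : s.card = 1) : (thr B s).card = 253 :=
  thr_of_choose hB hα (by norm_num) (by decide +kernel) (by decide +kernel) s hs
theorem l24_2 (s : Finset α) (hs : s.card = 2) : (thr B s).card = 77 :=
  thr_of_choose hB hα (by norm_num) (by decide +kernel) (by decide +kernel) s hs
theorem l24_3 (s : Finset α) (hs : s.card = 3) : (thr B s).card = 21 :=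
  thr_of_choose hB hα (by norm_num) (by decide +kernel) (by decide +kernel) s hs
theorem l24_4 (s : Finset α) (hs : s.card = 4) : (thr B s).card = 5 :=
  thr_of_choose hB hα (by norm_num) (by decide +kernel) (by decide +kernel) s hs

theorem xi24 {b : Finset α} (hb : b ∈ B) :
    xi B b 0 = 30 ∧ xi B b 1 = 0 ∧ xi B b 2 = 448 ∧ xi B b 3 = 0 ∧ xi B b 4 = 280 := by
  have e0 := sum_xi hB hb 0 759 (by norm_num) (l24_0 hα hB)
  have e1 := sum_xi hB hb 1 253 (by norm_num) (l24_1 hα hB)
  have e2 := sum_xi hB hb 2 77 (by norm_num) (l24_2 hα hB)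
  have e3 := sum_xi hB hb 3 21 (by norm_num) (l24_3 hα hB)
  have e4 := sum_xi hB hb 4 5 (by norm_num) (l24_4 hα hB)
  simp only [sum_range_succ, sum_range_zero] at e0 e1 e2 e3 e4
  norm_num [Nat.choose] at e0 e1 e2 e3 e4
  omega

theorem inter24 {b c : Finset α} (hb : b ∈ B) (hc : c ∈ B) (hbc : b ≠ c) :
    (b ∩ c).card = 0 ∨ (b ∩ c).card = 2 ∨ (b ∩ c).card = 4 := by
  obtain ⟨_, h1, _, h3, _⟩ := xi24 hα hB hb
  have := xi_zero h1 hc hbc
  have := xi_zero h3 hc hbc
  have := inter_lt hB hb hc hbc
  omega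

theorem inter24_even {b c : Finset α} (hb : b ∈ B) (hc : c ∈ B) : Even (b ∩ c).card := by
  by_cases hbc : b = c
  · rw [hbc, inter_self, hB.1 c hc]; decide
  · rcases inter24 hα hB hb hc hbc with h | h | h <;> rw [h] <;> decide

theorem disjoint24 {b : Finset α} (hb : b ∈ B) : {c : Finset α | c ∈ B ∧ Disjoint b c}.ncard = 30 := by
  rw [← (xi24 hα hB hb).1]
  unfold xi
  rw [← Set.ncard_coe_finset]
  congr 1
  ext c
  simp only [Set.mem_ofPred_eq, coe_filter, mem_erase, mem_bl, card_eq_zero,
    disjoint_iff_inter_eq_empty]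
  constructor
  · rintro ⟨h1, h2⟩
    refine ⟨⟨?_, h1⟩, h2⟩
    rintro rfl
    rw [inter_self] at h2
    have := hB.1 c hb
    rw [h2] at this; simp at this
  · rintro ⟨⟨_, h1⟩, h2⟩
    exact ⟨h1, h2⟩

/-- no nonempty set of size at most 4 meets all blocks evenly -/
theorem even_small24 {s : Finset α} (hs : s.card ≤ 4) (h : ∀ b ∈ B, Even (b ∩ s).card) : s = ∅ := by
  by_contra hne
  have hpos : 0 < s.card := card_pos.2 (nonempty_iff_ne_empty.2 hne)
  -- choose a subset r of s with one element fewer, of odd... use counting of blocks through r not s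
  obtain ⟨p, hp⟩ := nonempty_iff_ne_empty.2 hne
  -- blocks through `s.erase p` but not through `p`, and blocks through `s`
  by_cases hodd : Even s.card
  · -- take blocks meeting s exactly in s.erase p
    have h1 : (thr B s).card < (thr B (s.erase p)).card := by
      have hc : (s.erase p).card = s.card - 1 := card_erase_of_mem hp
      have : s.card = 2 ∨ s.card = 4 := by
        rcases hodd with ⟨m, hm⟩; omega
      rcases this with h | h
      · rw [l24_2 hα hB s h, l24_1 hα hB _ (by omega)]; norm_num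
      · rw [l24_4 hα hB s h, l24_3 hα hB _ (by omega)]; norm_num
    obtain ⟨b, hb1, hb2⟩ := exists_mem_notMem_of_card_lt_card h1
    rw [mem_thr] at hb1 hb2
    have hpb : p ∉ b := by
      intro hpb
      apply hb2
      refine ⟨hb1.1, fun q hq => ?_⟩
      by_cases hqp : q = p
      · rw [hqp]; exact hpb
      · exact hb1.2 (mem_erase.2 ⟨hqp, hq⟩)
    have : b ∩ s = s.erase p := by
      ext q
      rw [mem_inter, mem_erase]
      constructor
      · rintro ⟨h1, h2⟩; exact ⟨fun h' => hpb (h' ▸ h1), h2⟩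
      · rintro ⟨h1, h2⟩; exact ⟨hb1.2 (mem_erase.2 ⟨h1, h2⟩), h2⟩
    have h2 := h b hb1.1
    rw [this, card_erase_of_mem hp] at h2
    rcases hodd with ⟨m, hm⟩
    rcases h2 with ⟨n, hn⟩
    omega
  · -- s is odd: a block containing s
    have h1 : 0 < (thr B s).card := by
      rw [Nat.not_even_iff_odd] at hodd
      have : s.card = 1 ∨ s.card = 3 := by
        rcases hodd with ⟨m, hm⟩; omega
      rcases this with h | h
      · rw [l24_1 hα hB s h]; norm_num
      · rw [l24_3 hα hB s h]; norm_num
    obtain ⟨b, hb⟩ := card_pos.1 h1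
    rw [mem_thr] at hb
    have h2 := h b hb.1
    rw [inter_eq_right.2 hb.2] at h2
    exact hodd h2

theorem card_symmDiff' (s t : Finset α) : (symmDiff s t).card + 2 * (s ∩ t).card = s.card + t.card := by
  have h1 : symmDiff s t = (s \ t) ∪ (t \ s) := rfl
  have h2 : Disjoint (s \ t) (t \ s) := disjoint_sdiff_sdiff
  have h3 := card_sdiff_add_card_inter s t
  have h4 := card_sdiff_add_card_inter t s
  rw [inter_comm t s] at h4
  rw [h1, card_union_of_disjoint h2]
  omega

theorem even_symmDiff {s t b : Finset α} (h1 : Even (b ∩ s).card) (h2 : Even (b ∩ t).card) :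
    Even (b ∩ symmDiff s t).card := by
  have h3 := card_symmDiff' hα hB (b ∩ s) (b ∩ t)
  have h4 : b ∩ symmDiff s t = symmDiff (b ∩ s) (b ∩ t) := by
    ext x; simp only [mem_inter, mem_symmDiff]; tauto
  rw [h4]
  rcases h1 with ⟨m, hm⟩
  rcases h2 with ⟨n, hn⟩
  exact ⟨m + n - (b ∩ s ∩ (b ∩ t)).card, by omega⟩

theorem symmDiff24 {b c : Finset α} (hb : b ∈ B) (hc : c ∈ B) (h4 : (b ∩ c).card = 4) :
    symmDiff b c ∈ B := by
  have hb8 := hB.1 b hb
  have hc8 := hB.1 c hc
  -- T1 = b \ c, x ∈ c \ b
  have hT1 : (b \ c).card = 4 := by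
    have := card_sdiff_add_card_inter b c; omega
  have hT2 : (c \ b).card = 4 := by
    have := card_sdiff_add_card_inter c b
    rw [inter_comm c b] at this; omega
  obtain ⟨x, hx⟩ := card_pos.1 (show 0 < (c \ b).card by omega)
  rw [mem_sdiff] at hx
  obtain ⟨d, ⟨hd, hsub⟩, _⟩ := hB.2 (insert x (b \ c)) (by
    rw [card_insert_of_notMem, hT1]
    rw [mem_sdiff]; tauto)
  have hd8 := hB.1 d hd
  have hxd : x ∈ d := hsub (mem_insert_self _ _)
  have hdT : b \ c ⊆ d := (subset_insert _ _).trans hsub
  have hbd : b ≠ d := by rintro rfl; exact hx.2 hxd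
  have h1 : (b ∩ d).card = 4 := by
    have h2 : (b \ c) ⊆ b ∩ d := subset_inter sdiff_subset hdT
    have h3 := card_le_card h2
    rcases inter24 hα hB hb hd hbd with h | h | h <;> omega
  have h2 : b ∩ d = b \ c := (eq_of_subset_of_card_le (subset_inter sdiff_subset hdT) (by omega)).symm
  have hcd : c ≠ d := by
    rintro rfl
    have : b ∩ c = b \ c := h2
    have h3 : (b \ c).Nonempty := card_pos.1 (by omega)
    obtain ⟨y, hy⟩ := h3
    have := this ▸ hy
    rw [mem_inter] at this
    exact (mem_sdiff.1 hy).2 this.2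
  have h3 : 0 < (c ∩ d).card := card_pos.2 ⟨x, mem_inter.2 ⟨hx.1, hxd⟩⟩
  have h5 : symmDiff (symmDiff b c) d = ∅ := by
    apply even_small24 hα hB
    · have e1 := card_symmDiff' hα hB b c
      have e2 := card_symmDiff' hα hB (symmDiff b c) d
      have e3 : (symmDiff b c ∩ d).card = (b \ c).card + (c ∩ d).card := by
        have : symmDiff b c ∩ d = (b \ c) ∪ (c ∩ d) := by
          ext y
          have hy : y ∈ b ∩ d ↔ y ∈ b \ c := by rw [h2]
          simp only [mem_inter, mem_sdiff, mem_symmDiff, mem_union] at hy ⊢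
          tauto
        rw [this, card_union_of_disjoint]
        rw [Finset.disjoint_left]
        intro y hy hy'
        exact (mem_sdiff.1 hy).2 (mem_inter.1 hy').1
      rcases inter24 hα hB hc hd hcd with h | h | h <;> omega
    · intro e he
      exact even_symmDiff hα hB (even_symmDiff hα hB (inter24_even hα hB he hb)
        (inter24_even hα hB he hc)) (inter24_even hα hB he hd)
  have h6 : symmDiff b c = d := symmDiff_eq_bot.1 h5
  rw [h6]; exact hd

end S24

section S23
variable {B : Set (Finset α)} (hα : Fintype.card α = 23) (hB : IsSteinerSystem 4 7 B)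
include hα hB

theorem l23_0 (s : Finset α) (hs : s.card = 0) : (thr B s).card = 253 :=
  thr_of_choose hB hα (by norm_num) (by decide +kernel) (by decide +kernel) s hs
theorem l23_1 (s : Finset α) (hs : s.card = 1) : (thr B s).card = 77 :=
  thr_of_choose hB hα (by norm_num) (by decide +kernel) (by decide +kernel) s hs
theorem l23_2 (s : Finset α) (hs : s.card = 2) : (thr B s).card = 21 :=
  thr_of_choose hB hα (by norm_num) (by decide +kernel) (by decide +kernel) s hs
theorem l23_3 (s : Finset α) (hs : s.card = 3) : (thr B s).card = 5 :=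
  thr_of_choose hB hα (by norm_num) (by decide +kernel) (by decide +kernel) s hs

theorem xi23 {b : Finset α} (hb : b ∈ B) :
    xi B b 0 = 0 ∧ xi B b 1 = 112 ∧ xi B b 2 = 0 ∧ xi B b 3 = 140 := by
  have e0 := sum_xi hB hb 0 253 (by norm_num) (l23_0 hα hB)
  have e1 := sum_xi hB hb 1 77 (by norm_num) (l23_1 hα hB)
  have e2 := sum_xi hB hb 2 21 (by norm_num) (l23_2 hα hB)
  have e3 := sum_xi hB hb 3 5 (by norm_num) (l23_3 hα hB)
  simp only [sum_range_succ, sum_range_zero] at e0 e1 e2 e3
  norm_num [Nat.choose] at e0 e1 e2 e3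
  omega

theorem inter23 {b c : Finset α} (hb : b ∈ B) (hc : c ∈ B) (hbc : b ≠ c) :
    (b ∩ c).card = 1 ∨ (b ∩ c).card = 3 := by
  obtain ⟨h0, _, h2, _⟩ := xi23 hα hB hb
  have := xi_zero h0 hc hbc
  have := xi_zero h2 hc hbc
  have := inter_lt hB hb hc hbc
  omega

end S23

section S22
variable {B : Set (Finset α)} (hα : Fintype.card α = 22) (hB : IsSteinerSystem 3 6 B)
include hα hB

theorem l22_0 (s : Finset α) (hs : s.card = 0) : (thr B s).card = 77 :=
  thr_of_choose hB hα (by norm_num) (by decide +kernel) (by decide +kernel) s hs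
theorem l22_1 (s : Finset α) (hs : s.card = 1) : (thr B s).card = 21 :=
  thr_of_choose hB hα (by norm_num) (by decide +kernel) (by decide +kernel) s hs
theorem l22_2 (s : Finset α) (hs : s.card = 2) : (thr B s).card = 5 :=
  thr_of_choose hB hα (by norm_num) (by decide +kernel) (by decide +kernel) s hs

theorem xi22 {b : Finset α} (hb : b ∈ B) : xi B b 0 = 16 ∧ xi B b 1 = 0 ∧ xi B b 2 = 60 := by
  have e0 := sum_xi hB hb 0 77 (by norm_num) (l22_0 hα hB)
  have e1 := sum_xi hB hb 1 21 (by norm_num) (l22_1 hα hB)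
  have e2 := sum_xi hB hb 2 5 (by norm_num) (l22_2 hα hB)
  simp only [sum_range_succ, sum_range_zero] at e0 e1 e2
  norm_num [Nat.choose] at e0 e1 e2
  omega

theorem inter22 {b c : Finset α} (hb : b ∈ B) (hc : c ∈ B) (hbc : b ≠ c) :
    (b ∩ c).card = 0 ∨ (b ∩ c).card = 2 := by
  obtain ⟨_, h1, _⟩ := xi22 hα hB hb
  have := xi_zero h1 hc hbc
  have := inter_lt hB hb hc hbc
  omega

end S22

section S12
variable {B : Set (Finset α)} (hα : Fintype.card α = 12) (hB : IsSteinerSystem 5 6 B)
include hα hB

theorem l12_0 (s : Finset α) (hs : s.card = 0) : (thr B s).card = 132 :=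
  thr_of_choose hB hα (by norm_num) (by decide +kernel) (by decide +kernel) s hs
theorem l12_1 (s : Finset α) (hs : s.card = 1) : (thr B s).card = 66 :=
  thr_of_choose hB hα (by norm_num) (by decide +kernel) (by decide +kernel) s hs
theorem l12_2 (s : Finset α) (hs : s.card = 2) : (thr B s).card = 30 :=
  thr_of_choose hB hα (by norm_num) (by decide +kernel) (by decide +kernel) s hs
theorem l12_3 (s : Finset α) (hs : s.card = 3) : (thr B s).card = 12 :=
  thr_of_choose hB hα (by norm_num) (by decide +kernel) (by decide +kernel) s hs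
theorem l12_4 (s : Finset α) (hs : s.card = 4) : (thr B s).card = 4 :=
  thr_of_choose hB hα (by norm_num) (by decide +kernel) (by decide +kernel) s hs

theorem xi12 {b : Finset α} (hb : b ∈ B) :
    xi B b 0 = 1 ∧ xi B b 1 = 0 ∧ xi B b 2 = 45 ∧ xi B b 3 = 40 ∧ xi B b 4 = 45 := by
  have e0 := sum_xi hB hb 0 132 (by norm_num) (l12_0 hα hB)
  have e1 := sum_xi hB hb 1 66 (by norm_num) (l12_1 hα hB)
  have e2 := sum_xi hB hb 2 30 (by norm_num) (l12_2 hα hB)
  have e3 := sum_xi hB hb 3 12 (by norm_num) (l12_3 hα hB)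
  have e4 := sum_xi hB hb 4 4 (by norm_num) (l12_4 hα hB)
  simp only [sum_range_succ, sum_range_zero] at e0 e1 e2 e3 e4
  norm_num [Nat.choose] at e0 e1 e2 e3 e4
  omega

theorem compl12 {b : Finset α} (hb : b ∈ B) : bᶜ ∈ B := by
  have h := (xi12 hα hB hb).1
  unfold xi at h
  have h1 : 0 < (((bl B).erase b).filter (fun c => (b ∩ c).card = 0)).card := by omega
  obtain ⟨c, hc⟩ := card_pos.1 h1
  rw [mem_filter, mem_erase, mem_bl, card_eq_zero] at hc
  obtain ⟨⟨_, h2⟩, h3⟩ := hc
  have h4 : c = bᶜ := by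
    apply eq_of_subset_of_card_le
    · intro x hx
      rw [mem_compl]
      intro hxb
      have : x ∈ b ∩ c := mem_inter.2 ⟨hxb, hx⟩
      rw [h3] at this; simp at this
    · rw [card_compl, hα, hB.1 b hb, hB.1 c h2]
  rw [← h4]; exact h2

end S12

end CfsgL.Steiner
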