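import Cfsg.Agent.L.GolayUniq
import Cfsg.Agent.L.Steiner
import Cfsg.Agent.L.Golay.Order2
/-!
Golay codes from Steiner systems and from minimum weight.
-/
set_option autoImplicit false
namespace CfsgL.GU
open Finset Pointwise

variable {α β : Type*} [Fintype α] [DecidableEq α] [Fintype β] [DecidableEq β]

/-- leaders : sets with at most 3 elements, and 4-sets through `p` -/
def lead (p : α) : Finset (Finset α) :=
  univ.filter (fun s => s.card ≤ 3 ∨ (s.card = 4 ∧ p ∈ s))

theorem mem_lead {p : α} {s : Finset α} : s ∈ lead p ↔ s.card ≤ 3 ∨ (s.card = 4 ∧ p ∈ s) := by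
  simp [lead]

theorem card_lead (hα : Fintype.card α = 24) (p : α) : (lead p).card = 4096 := by
  have e1 : lead p = ((((powersetCard 0 univ) ∪ (powersetCard 1 univ)) ∪ (powersetCard 2 univ)) ∪
      (powersetCard 3 univ)) ∪ ((powersetCard 3 (univ.erase p)).image (fun s => insert p s)) := by
    ext s
    simp only [mem_lead, Finset.mem_union, Finset.mem_powersetCard, Finset.subset_univ, true_and,
      Finset.mem_image]
    constructor
    · rintro (h | ⟨h, hp⟩)
      · left; omega
      · right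
        refine ⟨s.erase p, ⟨Finset.erase_subset_erase p (Finset.subset_univ s), ?_⟩, ?_⟩
        · rw [Finset.card_erase_of_mem hp, h]
        · exact Finset.insert_erase hp
    · rintro (h | ⟨t, ⟨h1, h2⟩, rfl⟩)
      · left; omega
      · right
        have : p ∉ t := fun hp => (Finset.mem_erase.1 (h1 hp)).1 rfl
        rw [Finset.card_insert_of_notMem this, h2]
        exact ⟨rfl, Finset.mem_insert_self _ _⟩
  rw [e1]
  rw [Finset.card_union_of_disjoint, Finset.card_union_of_disjoint, Finset.card_union_of_disjoint,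
    Finset.card_union_of_disjoint, Finset.card_image_of_injOn]
  · simp only [Finset.card_powersetCard, Finset.card_erase_of_mem (Finset.mem_univ p),
      Finset.card_univ, hα]
    decide +kernel
  · intro s hs t ht h
    simp only [Finset.mem_coe, Finset.mem_powersetCard] at hs ht
    have h1 : p ∉ s := fun hp => (Finset.mem_erase.1 (hs.1 hp)).1 rfl
    have h2 : p ∉ t := fun hp => (Finset.mem_erase.1 (ht.1 hp)).1 rfl
    have := congrArg (fun x => x.erase p) h
    simpa [Finset.erase_insert h1, Finset.erase_insert h2] using this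
  all_goals
    rw [Finset.disjoint_left]
    intro s hs hs'
    simp only [Finset.mem_union, Finset.mem_powersetCard, Finset.subset_univ, true_and,
      Finset.mem_image] at hs hs'
  · omega
  · omega
  · omega
  · obtain ⟨t, ⟨h1, h2⟩, rfl⟩ := hs'
    have : p ∉ t := fun hp => (Finset.mem_erase.1 (h1 hp)).1 rfl
    rw [Finset.card_insert_of_notMem this, h2] at hs
    omega

theorem lead_inj {p : α} {s t : Finset α} (hs : s ∈ lead p) (ht : t ∈ lead p) :
    (symmDiff s t).card < 8 := by
  rw [mem_lead] at hs ht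
  have h1 := card_sd s t
  rcases hs with hs | hs <;> rcases ht with ht | ht
  · omega
  · omega
  · omega
  · have : 0 < (s ∩ t).card := Finset.card_pos.2 ⟨p, Finset.mem_inter.2 ⟨hs.2, ht.2⟩⟩
    omega

theorem symm_empty {s t : Finset α} (h : symmDiff s t = ∅) : s = t := by
  have := symm_symm s t
  rw [h] at this
  rw [← this]
  ext x
  simp [Finset.mem_symmDiff]

theorem lead_mul_inj {C : Finset (Finset α)} (hs : ∀ s ∈ C, ∀ t ∈ C, symmDiff s t ∈ C)
    (hmin : ∀ s ∈ C, s ≠ ∅ → 8 ≤ s.card) (p : α) :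
    Set.InjOn (fun x : Finset α × Finset α => symmDiff x.1 x.2) ((lead p ×ˢ C : Finset _) : Set _) := by
  rintro ⟨s, c⟩ h1 ⟨t, d⟩ h2 h
  simp only [Finset.coe_product, Set.mem_prod, Finset.mem_coe] at h1 h2
  simp only at h
  have h3 : symmDiff s t = symmDiff c d := by
    have e1 : symmDiff s t = symmDiff (symmDiff (symmDiff s c) c) (symmDiff (symmDiff t d) d) := by
      rw [symm_symm, symm_symm]
    rw [e1, h]
    ext x
    simp only [Finset.mem_symmDiff]
    tauto
  have h4 : symmDiff s t = ∅ := by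
    by_contra h5
    have h6 := hmin _ (h3 ▸ hs c h1.2 d h2.2) h5
    have h7 := lead_inj h1.1 h2.1
    omega
  rw [h4] at h3
  rw [symm_empty h4, symm_empty h3.symm]

theorem card_le_of_min (hα : Fintype.card α = 24) {C : Finset (Finset α)}
    (hs : ∀ s ∈ C, ∀ t ∈ C, symmDiff s t ∈ C) (hmin : ∀ s ∈ C, s ≠ ∅ → 8 ≤ s.card) :
    C.card ≤ 4096 := by
  have hne : Nonempty α := by
    rw [← Fintype.card_pos_iff, hα]; norm_num
  obtain ⟨p⟩ := hne
  have h1 := Finset.card_le_card_of_injOn (t := (univ : Finset (Finset α))) _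
    (fun _ _ => Finset.mem_coe.2 (mem_univ _)) (lead_mul_inj hs hmin p)
  rw [Finset.card_product, card_lead hα, Finset.card_univ, Fintype.card_finset, hα] at h1
  have : (2 : ℕ) ^ 24 = 4096 * 4096 := by norm_num
  rw [this] at h1
  exact Nat.le_of_mul_le_mul_left h1 (by norm_num)

/-- every set is a leader plus a word -/
theorem cover (hα : Fintype.card α = 24) {C : Finset (Finset α)}
    (hs : ∀ s ∈ C, ∀ t ∈ C, symmDiff s t ∈ C) (hmin : ∀ s ∈ C, s ≠ ∅ → 8 ≤ s.card)
    (hsize : C.card = 4096) (p : α) (u : Finset α) : ∃ s ∈ lead p, symmDiff s u ∈ C := by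
  have h1 : (lead p ×ˢ C).image (fun x => symmDiff x.1 x.2) = univ := by
    rw [← Finset.card_eq_iff_eq_univ, Finset.card_image_of_injOn (lead_mul_inj hs hmin p),
      Finset.card_product, card_lead hα, hsize, Fintype.card_finset, hα]
    norm_num
  have h2 : u ∈ (lead p ×ˢ C).image (fun x => symmDiff x.1 x.2) := by rw [h1]; exact mem_univ _
  rw [Finset.mem_image] at h2
  obtain ⟨⟨s, c⟩, h3, rfl⟩ := h2
  rw [Finset.mem_product] at h3
  refine ⟨s, h3.1, ?_⟩
  simp only [symmDiff_symmDiff_cancel_left]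
  exact h3.2

/-- octads of a `[24,12,8]`-family form a Steiner system -/
theorem steiner_of (hα : Fintype.card α = 24) {C : Finset (Finset α)}
    (hs : ∀ s ∈ C, ∀ t ∈ C, symmDiff s t ∈ C) (hmin : ∀ s ∈ C, s ≠ ∅ → 8 ≤ s.card)
    (hsize : C.card = 4096) : Cfsg.IsSteinerSystem 5 8 {s | s ∈ C ∧ s.card = 8} := by
  refine ⟨fun b hb => hb.2, fun F hF => ?_⟩
  have hne : F.Nonempty := by rw [← Finset.card_pos, hF]; norm_num
  obtain ⟨x, hx⟩ := hne
  obtain ⟨s, hsl, hsC⟩ := cover hα hs hmin hsize x (F.erase x)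
  have h1 : (F.erase x).card = 4 := by rw [Finset.card_erase_of_mem hx, hF]
  have h2 := card_sd s (F.erase x)
  have h3 : symmDiff s (F.erase x) ≠ ∅ := by
    intro h
    have h4 := symm_empty h
    rw [mem_lead] at hsl
    rcases hsl with h5 | h5
    · rw [h4] at h5; omega
    · rw [h4] at h5
      exact (Finset.mem_erase.1 h5.2).1 rfl
  have h4 := hmin _ hsC h3
  rw [mem_lead] at hsl
  have h5 : s.card = 4 ∧ x ∈ s := by
    rcases hsl with h5 | h5
    · omega
    · exact h5
  have h6 : (s ∩ F.erase x).card = 0 := by omega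
  rw [Finset.card_eq_zero] at h6
  refine ⟨symmDiff s (F.erase x), ⟨⟨hsC, by omega⟩, ?_⟩, ?_⟩
  · intro y hy
    rw [Finset.mem_symmDiff]
    by_cases hyx : y = x
    · left
      rw [hyx]
      exact ⟨h5.2, fun h => (Finset.mem_erase.1 h).1 rfl⟩
    · right
      refine ⟨Finset.mem_erase.2 ⟨hyx, hy⟩, fun h => ?_⟩
      have : y ∈ s ∩ F.erase x := Finset.mem_inter.2 ⟨h, Finset.mem_erase.2 ⟨hyx, hy⟩⟩
      rw [h6] at this
      exact absurd this (Finset.notMem_empty y)
  · rintro b ⟨⟨hbC, hb8⟩, hFb⟩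
    have hFo : F ⊆ symmDiff s (F.erase x) := by
      intro y hy
      rw [Finset.mem_symmDiff]
      by_cases hyx : y = x
      · left
        rw [hyx]
        exact ⟨h5.2, fun h => (Finset.mem_erase.1 h).1 rfl⟩
      · right
        refine ⟨Finset.mem_erase.2 ⟨hyx, hy⟩, fun h => ?_⟩
        have : y ∈ s ∩ F.erase x := Finset.mem_inter.2 ⟨h, Finset.mem_erase.2 ⟨hyx, hy⟩⟩
        rw [h6] at this
        exact absurd this (Finset.notMem_empty y)
    have h7 := Finset.card_le_card (Finset.subset_inter hFb hFo)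
    have h8 := card_sd b (symmDiff s (F.erase x))
    by_contra h9
    have h10 := hmin _ (hs _ hbC _ hsC) (fun h => h9 (symm_empty h))
    omega

/-- the dual family -/
noncomputable def dualF (B : Set (Finset α)) : Finset (Finset α) :=
  @Finset.filter _ (fun u => ∀ s ∈ B, Even (s ∩ u).card) (Classical.decPred _) univ

theorem mem_dualF {B : Set (Finset α)} {t : Finset α} :
    t ∈ dualF B ↔ ∀ s ∈ B, Even (s ∩ t).card := by
  simp only [dualF, Finset.mem_filter, Finset.mem_univ, true_and]

theorem even_symm {b s t : Finset α} (h1 : Even (b ∩ s).card) (h2 : Even (b ∩ t).card) :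
    Even (b ∩ symmDiff s t).card := by
  rw [Finset.inter_comm, inter_symm]
  have := card_sd (s ∩ b) (t ∩ b)
  rw [Finset.inter_comm] at h1 h2
  rw [Nat.even_iff] at *
  omega

theorem dualF_symm {B : Set (Finset α)} {s t : Finset α} (hs : s ∈ dualF B) (ht : t ∈ dualF B) :
    symmDiff s t ∈ dualF B := by
  rw [mem_dualF] at *
  intro b hb
  exact even_symm (hs b hb) (ht b hb)

theorem dual_count' (C : Finset (Finset α)) (hs : ∀ s ∈ C, ∀ t ∈ C, symmDiff s t ∈ C) (h0 : ∅ ∈ C) :
    (dualF (C : Set (Finset α))).card * C.card = 2 ^ Fintype.card α := by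
  classical
  rw [← dual_count C hs h0]
  congr 2
  ext t
  rw [mem_dualF, Finset.mem_filter]
  simp

theorem golay_of_blocks (hα : Fintype.card α = 24) {B : Set (Finset α)}
    (h4 : ∀ b ∈ B, 4 ∣ b.card) (hev : ∀ b ∈ B, ∀ b' ∈ B, Even (b ∩ b').card)
    (hmin : ∀ t : Finset α, t ≠ ∅ → (∀ b ∈ B, Even (b ∩ t).card) → 8 ≤ t.card) :
    IsGolay (dualF B) := by
  classical
  have e0 : ∅ ∈ dualF B := by
    rw [mem_dualF]
    intro b _
    simp
  have hB : ∀ b ∈ B, b ∈ dualF B := fun b hb => by
    rw [mem_dualF]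
    intro b' hb'
    exact hev b' hb' b hb
  have hle : (dualF B).card ≤ 4096 := by
    apply card_le_of_min hα (fun s hs t ht => dualF_symm hs ht)
    intro s hs hne
    exact hmin s hne (mem_dualF.1 hs)
  have hdd : ∀ C : Finset (Finset α), (∀ b ∈ B, b ∈ C) → dualF (C : Set (Finset α)) ⊆ dualF B := by
    intro C hC t ht
    rw [mem_dualF] at *
    intro b hb
    exact ht b (Finset.mem_coe.2 (hC b hb))
  have e24 : (2 : ℕ) ^ 24 = 4096 * 4096 := by norm_num
  have key : ∀ C : Finset (Finset α), (∀ b ∈ B, b ∈ C) → (∀ s ∈ C, ∀ t ∈ C, symmDiff s t ∈ C) →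
      ∅ ∈ C → C.card ≤ 4096 → C.card = 4096 ∧ (dualF (C : Set (Finset α))).card = 4096 := by
    intro C hC hs h0 hcard
    have h1 := dual_count' C hs h0
    have h2 := Finset.card_le_card (hdd C hC)
    rw [hα, e24] at h1
    have h3 : 4096 * 4096 ≤ 4096 * C.card := by
      rw [← h1]; exact Nat.mul_le_mul_right _ (le_trans h2 hle)
    have h4 : 4096 ≤ C.card := Nat.le_of_mul_le_mul_left h3 (by norm_num)
    have h5 : C.card = 4096 := le_antisymm hcard h4
    rw [h5] at h1
    exact ⟨h5, Nat.eq_of_mul_eq_mul_right (by norm_num) h1⟩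
  obtain ⟨k1, k2⟩ := key (dualF B) hB (fun s hs t ht => dualF_symm hs ht) e0 hle
  have hself : dualF (dualF B : Set (Finset α)) = dualF B := by
    apply Finset.eq_of_subset_of_card_le (hdd _ hB)
    rw [k1, k2]
  have hevD : ∀ s ∈ dualF B, ∀ t ∈ dualF B, Even (s ∩ t).card := by
    intro s hs t ht
    rw [← hself, mem_dualF] at ht
    exact ht s (Finset.mem_coe.2 hs)
  have hsub : (dualF B).filter (fun s => 4 ∣ s.card) = dualF B := by
    apply Finset.eq_of_subset_of_card_le (Finset.filter_subset _ _)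
    have := key ((dualF B).filter (fun s => 4 ∣ s.card)) (by
      intro b hb
      rw [Finset.mem_filter]
      exact ⟨hB b hb, h4 b hb⟩) (by
      intro s hs t ht
      rw [Finset.mem_filter] at *
      refine ⟨dualF_symm hs.1 ht.1, ?_⟩
      have h1 := card_sd s t
      have h2 := hevD s hs.1 t ht.1
      rw [Nat.even_iff] at h2
      obtain ⟨a, ha⟩ := hs.2
      obtain ⟨b, hb⟩ := ht.2
      omega) (by
      rw [Finset.mem_filter]
      exact ⟨e0, by simp⟩) (le_trans (Finset.card_le_card (Finset.filter_subset _ _)) hle)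
    rw [k1, this.1]
  refine ⟨hα, fun s hs t ht => dualF_symm hs ht, k1, ?_, ?_⟩
  · intro s hs
    rw [← hsub, Finset.mem_filter] at hs
    exact hs.2
  · intro s hs h
    have hne : s ≠ ∅ := by
      intro h'
      rw [h'] at h
      simp at h
    have := hmin s hne (mem_dualF.1 hs)
    omega

/-- the code of an `S(5,8,24)` -/
theorem golay_of_steiner (hα : Fintype.card α = 24) {B : Set (Finset α)}
    (hB : Cfsg.IsSteinerSystem 5 8 B) : IsGolay (dualF B) := by
  refine golay_of_blocks hα (fun b hb => by rw [hB.1 b hb]; norm_num)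
    (fun b hb b' hb' => CfsgL.Steiner.inter24_even hα hB hb hb') ?_
  intro t hne hev
  by_contra hlt
  push Not at hlt
  by_cases h4 : t.card ≤ 4
  · exact hne (CfsgL.Steiner.even_small24 hα hB h4 hev)
  · have h5 : 5 ≤ t.card := by omega
    obtain ⟨F, hF, hF5⟩ := Finset.exists_subset_card_eq h5
    obtain ⟨b, ⟨hb, hFb⟩, _⟩ := hB.2 F hF5
    have h6 := Finset.card_le_card (Finset.subset_inter hFb hF)
    have h7 := hev b hb
    have h8 := card_sd b t
    have h9 := Finset.card_le_card (Finset.inter_subset_right (s₁ := b) (s₂ := t))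
    have h10 := hB.1 b hb
    rw [Nat.even_iff] at h7
    have h11 : (symmDiff b t).card ≤ 4 := by omega
    have h12 := CfsgL.Steiner.even_small24 hα hB h11 (by
      intro c hc
      exact even_symm (CfsgL.Steiner.inter24_even hα hB hc hb) (hev c hc))
    rw [h12] at h8
    simp only [Finset.card_empty] at h8
    omega

/-- blocks are the octads of the code -/
theorem blocks_eq {C : Finset (Finset α)} (h : IsGolay C) {B : Set (Finset α)}
    (hB : Cfsg.IsSteinerSystem 5 8 B) (hBC : ∀ b ∈ B, b ∈ C) {s : Finset α} :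
    s ∈ B ↔ s ∈ C ∧ s.card = 8 := by
  constructor
  · intro hs
    exact ⟨hBC s hs, hB.1 s hs⟩
  · rintro ⟨hs, h8⟩
    obtain ⟨F, hF, hF5⟩ := Finset.exists_subset_card_eq (s := s) (n := 5) (by omega)
    obtain ⟨b, ⟨hb, hFb⟩, _⟩ := hB.2 F hF5
    have h6 := Finset.card_le_card (Finset.subset_inter hFb hF)
    have h8' := card_sd b s
    have h10 := hB.1 b hb
    have : b = s := by
      by_contra hne
      have := h.eight_le (hBC b hb) hs hne
      omega
    rwa [← this]

/-- uniqueness of the Golay code with five points prescribed -/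
theorem IsGolay.unique5 {C : Finset (Finset α)} {C' : Finset (Finset β)} (h : IsGolay C)
    (h' : IsGolay C') (x : Fin 5 ↪ α) (y : Fin 5 ↪ β) :
    ∃ E : α ≃ β, (∀ s, s ∈ C ↔ s.map E.toEmbedding ∈ C') ∧ ∀ i, E (x i) = y i := by
  obtain ⟨E1, h1⟩ := h.unique G0_golay
  obtain ⟨E2, h2⟩ := h'.unique G0_golay
  obtain ⟨g, hg, hgx⟩ := CfsgL.Golay.five_trans_emb (x.trans E1.toEmbedding) (y.trans E2.toEmbedding)
  refine ⟨(E1.trans g).trans E2.symm, ?_, ?_⟩
  · intro s
    rw [h1, h2, mem_G0, mem_G0, ← CfsgL.Golay.smul_mem_supports hg]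
    have : Finset.map E2.toEmbedding (Finset.map ((E1.trans g).trans E2.symm).toEmbedding s) =
        g • Finset.map E1.toEmbedding s := by
      ext p
      simp only [Finset.mem_map_equiv, Equiv.symm_trans_apply, Equiv.symm_symm,
        Equiv.symm_apply_apply, Equiv.apply_symm_apply]
      rw [← Finset.inv_smul_mem_iff, Finset.mem_map_equiv]
      rfl
    rw [this]
  · intro i
    have := hgx i
    simp only [Function.Embedding.trans_apply, Equiv.coe_toEmbedding] at this
    simp only [Equiv.trans_apply, this, Equiv.symm_apply_apply]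

theorem octads_eq {s : Finset Cfsg.GolayPt} : s ∈ Cfsg.octads ↔ s ∈ G0 ∧ s.card = 8 := by
  rw [CfsgL.Golay.mem_octads', mem_G0]

end CfsgL.GU
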