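import Cfsg.Agent.L.GolayUniq2
/-!
Golay codes as subspaces.
-/
set_option autoImplicit false
namespace CfsgL.GU
open Finset Pointwise Cfsg

variable {α β : Type*} [Fintype α] [DecidableEq α] [Fintype β] [DecidableEq β]

/-- indicator vector mod 2 -/
def ind2 (s : Finset α) : α → ZMod 2 := fun i => if i ∈ s then 1 else 0

theorem ind2_symm (s t : Finset α) : ind2 (symmDiff s t) = ind2 s + ind2 t := by
  funext i
  simp only [ind2, Finset.mem_symmDiff, Pi.add_apply]
  by_cases h1 : i ∈ s <;> by_cases h2 : i ∈ t <;> simp [h1, h2]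
  decide

theorem sup2_ind2 (s : Finset α) : support₂ (ind2 s) = s := by
  ext i
  simp only [support₂, Finset.mem_filter, Finset.mem_univ, true_and, ind2]
  by_cases h : i ∈ s <;> simp [h]

theorem ind2_sup2 (w : α → ZMod 2) : ind2 (support₂ w) = w := by
  funext i
  have h2 : ∀ x : ZMod 2, x ≠ 0 → x = 1 := by decide
  simp only [support₂, Finset.mem_filter, Finset.mem_univ, true_and, ind2]
  split_ifs with h
  · exact (h2 _ h).symm
  · push Not at h
    exact h.symm

theorem hamming_ind2 (s : Finset α) : hammingNorm (ind2 s) = s.card := by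
  conv_rhs => rw [← sup2_ind2 s]
  rfl

theorem hamming_eq (w : α → ZMod 2) : hammingNorm w = (support₂ w).card := rfl

/-- the family of supports -/
noncomputable def fam (C : Submodule (ZMod 2) (α → ZMod 2)) : Finset (Finset α) :=
  @Finset.filter _ (fun s => ind2 s ∈ C) (Classical.decPred _) univ

theorem mem_fam {C : Submodule (ZMod 2) (α → ZMod 2)} {s : Finset α} : s ∈ fam C ↔ ind2 s ∈ C := by
  simp only [fam, Finset.mem_filter, Finset.mem_univ, true_and]

theorem mem_fam' {C : Submodule (ZMod 2) (α → ZMod 2)} {w : α → ZMod 2} :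
    support₂ w ∈ fam C ↔ w ∈ C := by
  rw [mem_fam, ind2_sup2]

theorem fam_symm {C : Submodule (ZMod 2) (α → ZMod 2)} {s t : Finset α} (hs : s ∈ fam C)
    (ht : t ∈ fam C) : symmDiff s t ∈ fam C := by
  rw [mem_fam] at *
  rw [ind2_symm]
  exact C.add_mem hs ht

theorem card_fam {C : Submodule (ZMod 2) (α → ZMod 2)} (h : Module.finrank (ZMod 2) C = 12) :
    (fam C).card = 4096 := by
  classical
  have h1 : Nat.card C = 4096 := by
    rw [Nat.card_eq_fintype_card, Module.card_eq_pow_finrank (K := ZMod 2), h, ZMod.card]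
    norm_num
  have e : C ≃ fam C := {
    toFun := fun w => ⟨support₂ w.1, mem_fam'.2 w.2⟩
    invFun := fun s => ⟨ind2 s.1, mem_fam.1 s.2⟩
    left_inv := fun w => Subtype.ext (ind2_sup2 _)
    right_inv := fun s => Subtype.ext (sup2_ind2 _) }
  have h2 := Nat.card_congr e
  rw [h1, Nat.card_eq_fintype_card, Fintype.card_coe] at h2
  exact h2.symm

theorem dot_ind2 (s t : Finset α) : ∑ i, ind2 s i * ind2 t i = ((s ∩ t).card : ZMod 2) := by
  have : ∀ i, ind2 s i * ind2 t i = if i ∈ s ∩ t then 1 else 0 := by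
    intro i
    simp only [ind2, Finset.mem_inter]
    by_cases h1 : i ∈ s <;> by_cases h2 : i ∈ t <;> simp [h1, h2]
  rw [Finset.sum_congr rfl (fun i _ => this i), Finset.sum_boole]
  congr 2
  ext i
  simp

theorem fam_even {C : Submodule (ZMod 2) (α → ZMod 2)}
    (horth : ∀ v ∈ C, ∀ w ∈ C, ∑ i, v i * w i = 0) {s t : Finset α} (hs : s ∈ fam C)
    (ht : t ∈ fam C) : Even (s ∩ t).card := by
  rw [mem_fam] at *
  have := horth _ hs _ ht
  rw [dot_ind2] at this
  exact (ZMod.natCast_eq_zero_iff_even).1 this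

theorem fam_min {C : Submodule (ZMod 2) (α → ZMod 2)}
    (hmin : ∀ w ∈ C, w ≠ 0 → 8 ≤ hammingNorm w) : ∀ s ∈ fam C, s ≠ ∅ → 8 ≤ s.card := by
  intro s hs hne
  rw [mem_fam] at hs
  rw [← hamming_ind2 s]
  apply hmin _ hs
  intro h
  apply hne
  rw [← sup2_ind2 s, h]
  ext i
  simp [support₂]

/-- a self-dual family with minimum weight 8 is the dual of its octads -/
theorem golay_of_min (hα : Fintype.card α = 24) {C : Finset (Finset α)}
    (hs : ∀ s ∈ C, ∀ t ∈ C, symmDiff s t ∈ C) (hmin : ∀ s ∈ C, s ≠ ∅ → 8 ≤ s.card)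
    (hsize : C.card = 4096) (hev : ∀ s ∈ C, ∀ t ∈ C, Even (s ∩ t).card) :
    IsGolay C ∧ C = dualF {s | s ∈ C ∧ s.card = 8} := by
  have hst := steiner_of hα hs hmin hsize
  have h1 := golay_of_steiner hα hst
  have h2 : C = dualF {s | s ∈ C ∧ s.card = 8} := by
    apply Finset.eq_of_subset_of_card_le
    · intro t ht
      rw [mem_dualF]
      rintro s ⟨hs', _⟩
      exact hev s hs' t ht
    · rw [h1.size, hsize]
  refine ⟨?_, h2⟩
  rw [h2]
  exact h1

theorem fam_golay {C : Submodule (ZMod 2) (Fin 24 → ZMod 2)} (hdim : Module.finrank (ZMod 2) C = 12)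
    (horth : ∀ v ∈ C, ∀ w ∈ C, ∑ i, v i * w i = 0) (hmin : ∀ w ∈ C, w ≠ 0 → 8 ≤ hammingNorm w) :
    IsGolay (fam C) ∧ fam C = dualF {s | s ∈ fam C ∧ s.card = 8} :=
  golay_of_min (by simp) (fun _ hs _ ht => fam_symm hs ht) (fam_min hmin) (card_fam hdim)
    (fun _ hs _ ht => fam_even horth hs ht)

theorem wordsOfWeight_eq {C : Submodule (ZMod 2) (α → ZMod 2)} (n : ℕ) :
    wordsOfWeight (C : Set (α → ZMod 2)) n = {s | s ∈ fam C ∧ s.card = n} := by
  ext s
  unfold wordsOfWeight supports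
  simp only [Set.mem_ofPred_eq, Set.mem_image, SetLike.mem_coe]
  constructor
  · rintro ⟨⟨w, hw, rfl⟩, h⟩
    exact ⟨mem_fam'.2 hw, h⟩
  · rintro ⟨h, h'⟩
    exact ⟨⟨ind2 s, mem_fam.1 h, sup2_ind2 s⟩, h'⟩

theorem sup2_zero_card {w : α → ZMod 2} : (support₂ w).card = 0 ↔ w = 0 := by
  rw [← hamming_eq, hammingNorm_eq_zero]

theorem sup2_sub (u w : α → ZMod 2) : support₂ (u - w) = symmDiff (support₂ u) (support₂ w) := by
  have e : u - w = u + w := by
    funext i
    simp only [Pi.sub_apply, Pi.add_apply]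
    exact CharTwo.sub_eq_add _ _
  rw [e]
  have := ind2_symm (support₂ u) (support₂ w)
  rw [ind2_sup2, ind2_sup2] at this
  rw [← this, sup2_ind2]

/-- cosets of a Golay code -/
theorem coset_cases (hα : Fintype.card α = 24) {C : Finset (Finset α)}
    (hs : ∀ s ∈ C, ∀ t ∈ C, symmDiff s t ∈ C) (hmin : ∀ s ∈ C, s ≠ ∅ → 8 ≤ s.card)
    (hsize : C.card = 4096) (w : Finset α) :
    (∃ u, {u : Finset α | symmDiff u w ∈ C ∧ u.card ≤ 4} = {u} ∧ u.card ≤ 3) ∨
    ({u : Finset α | symmDiff u w ∈ C ∧ u.card ≤ 4}.ncard = 6 ∧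
      ∀ u ∈ {u : Finset α | symmDiff u w ∈ C ∧ u.card ≤ 4}, u.card = 4 ∧
        ∀ u' ∈ {u : Finset α | symmDiff u w ∈ C ∧ u.card ≤ 4}, u ≠ u' → Disjoint u u') := by
  classical
  have hne : Nonempty α := by rw [← Fintype.card_pos_iff, hα]; norm_num
  have hdiff : ∀ u u' : Finset α, symmDiff u w ∈ C → symmDiff u' w ∈ C → u ≠ u' →
      8 ≤ (symmDiff u u').card := by
    intro u u' h h' hne
    have h1 := hs _ h _ h'
    have e : symmDiff (symmDiff u w) (symmDiff u' w) = symmDiff u u' := by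
      ext x
      simp only [Finset.mem_symmDiff]
      tauto
    rw [e] at h1
    exact hmin _ h1 (fun h => hne (symm_empty h))
  by_cases hsmall : ∃ u : Finset α, symmDiff u w ∈ C ∧ u.card ≤ 3
  · left
    obtain ⟨u, hu, hu3⟩ := hsmall
    refine ⟨u, ?_, hu3⟩
    ext v
    simp only [Set.mem_ofPred_eq, Set.mem_singleton_iff]
    constructor
    · rintro ⟨h1, h2⟩
      by_contra h3
      have h4 := hdiff _ _ h1 hu h3
      have h5 := card_sd v u
      omega
    · rintro rfl
      exact ⟨hu, by omega⟩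
  · right
    push Not at hsmall
    have h4 : ∀ u ∈ {u : Finset α | symmDiff u w ∈ C ∧ u.card ≤ 4}, u.card = 4 := by
      rintro u ⟨h1, h2⟩
      have := hsmall u h1
      omega
    have hdis : ∀ u ∈ {u : Finset α | symmDiff u w ∈ C ∧ u.card ≤ 4},
        ∀ u' ∈ {u : Finset α | symmDiff u w ∈ C ∧ u.card ≤ 4}, u ≠ u' → Disjoint u u' := by
      intro u hu u' hu' hne
      have h5 := hdiff u u' hu.1 hu'.1 hne
      have h6 := card_sd u u'
      have h7 := h4 u hu
      have h8 := h4 u' hu'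
      rw [Finset.disjoint_iff_inter_eq_empty, ← Finset.card_eq_zero]
      omega
    refine ⟨?_, fun u hu => ⟨h4 u hu, hdis u hu⟩⟩
    have hfin : {u : Finset α | symmDiff u w ∈ C ∧ u.card ≤ 4}.Finite := Set.toFinite _
    rw [Set.ncard_eq_toFinset_card _ hfin]
    have hU : (hfin.toFinset.biUnion id) = univ := by
      ext p
      simp only [Finset.mem_biUnion, Set.Finite.mem_toFinset, id, Finset.mem_univ, iff_true]
      obtain ⟨s, hsl, hsC⟩ := cover hα hs hmin hsize p w
      rw [mem_lead] at hsl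
      rcases hsl with h5 | h5
      · exact absurd h5 (by have := hsmall s hsC; omega)
      · exact ⟨s, ⟨hsC, by omega⟩, h5.2⟩
    have hc : (hfin.toFinset.biUnion id).card = hfin.toFinset.card * 4 := by
      rw [Finset.card_biUnion, Finset.sum_congr rfl (g := fun _ => 4), Finset.sum_const, smul_eq_mul]
      · intro u hu
        exact h4 u (hfin.mem_toFinset.1 hu)
      · intro u hu u' hu' hne
        exact hdis u (hfin.mem_toFinset.1 hu) u' (hfin.mem_toFinset.1 hu') hne
    rw [hU, Finset.card_univ, hα] at hc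
    omega

end CfsgL.GU
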