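import Cfsg.Agent.L.S22
import Cfsg.Agent.L.Golay.Simple3
import Cfsg.Agent.L.Golay.Dodecads
/-!
The automorphism group of `S(3,6,22)`.
-/
set_option autoImplicit false
namespace CfsgL.M22b
open Cfsg Finset CfsgL.Steiner Pointwise CfsgL.Plane CfsgL.SS CfsgL.S22 CfsgL.Golay CfsgL.Comp

/-- the pair of base points -/
def pr : Finset GolayPt := {none, some 0}

/-- the 22 other points -/
abbrev P2 : Type := {x : GolayPt // x ≠ none ∧ x ≠ some 0}

/-- extension of a set by the two base points -/
def ex2 (b : Finset P2) : Finset GolayPt := insert none (insert (some 0) (b.map (Function.Embedding.subtype _)))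

theorem mem_ex2 {b : Finset P2} {x : GolayPt} : x ∈ ex2 b ↔ x = none ∨ x = some 0 ∨ ∃ h, (⟨x, h⟩ : P2) ∈ b := by
  simp only [ex2, mem_insert, mem_map, Function.Embedding.coe_subtype, Subtype.exists]
  constructor
  · rintro (h | h | ⟨y, h1, h2, rfl⟩)
    · exact Or.inl h
    · exact Or.inr (Or.inl h)
    · exact Or.inr (Or.inr ⟨h1, h2⟩)
  · rintro (h | h | ⟨h1, h2⟩)
    · exact Or.inl h
    · exact Or.inr (Or.inl h)
    · exact Or.inr (Or.inr ⟨x, h1, h2, rfl⟩)

theorem card_ex2 (b : Finset P2) : (ex2 b).card = b.card + 2 := by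
  unfold ex2
  rw [card_insert_of_notMem, card_insert_of_notMem, card_map]
  · simp
  · simp

theorem ex2_sub {b c : Finset P2} (h : b ⊆ c) : ex2 b ⊆ ex2 c := by
  intro x hx
  rw [mem_ex2] at *
  rcases hx with h1 | h1 | ⟨h1, h2⟩
  · exact Or.inl h1
  · exact Or.inr (Or.inl h1)
  · exact Or.inr (Or.inr ⟨h1, h h2⟩)

theorem sub_of_ex2 {b c : Finset P2} (h : ex2 b ⊆ ex2 c) : b ⊆ c := by
  intro x hx
  have h1 : x.1 ∈ ex2 b := mem_ex2.2 (Or.inr (Or.inr ⟨x.2, hx⟩))
  have h2 := mem_ex2.1 (h h1)
  rcases h2 with h3 | h3 | ⟨h3, h4⟩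
  · exact absurd h3 x.2.1
  · exact absurd h3 x.2.2
  · exact h4

theorem ex2_inj {b c : Finset P2} (h : ex2 b = ex2 c) : b = c :=
  Subset.antisymm (sub_of_ex2 h.subset) (sub_of_ex2 h.symm.subset)

theorem ex2_of {o : Finset GolayPt} (h : pr ⊆ o) : ex2 (Finset.subtype _ o) = o := by
  ext x
  rw [mem_ex2]
  constructor
  · rintro (rfl | rfl | ⟨h1, h2⟩)
    · exact h (by simp [pr])
    · exact h (by simp [pr])
    · rwa [mem_subtype] at h2
  · intro hx
    by_cases h1 : x = none
    · exact Or.inl h1
    · by_cases h2 : x = some 0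
      · exact Or.inr (Or.inl h2)
      · exact Or.inr (Or.inr ⟨⟨h1, h2⟩, by rw [mem_subtype]; exact hx⟩)

/-- standard `S(3,6,22)` -/
def B22 : Set (Finset P2) := {b | ex2 b ∈ octads}

theorem B22_steiner : IsSteinerSystem 3 6 B22 := by
  have hst := CfsgL.Golay.steiner
  refine ⟨?_, ?_⟩
  · intro b hb
    have := hst.1 _ hb
    rw [card_ex2] at this
    omega
  · intro F hF
    obtain ⟨o, ⟨ho, hFo⟩, hu⟩ := hst.2 (ex2 F) (by rw [card_ex2, hF])
    have hpr : pr ⊆ o := by
      intro x hx
      apply hFo
      rw [mem_ex2]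
      simp only [pr, mem_insert, mem_singleton] at hx
      tauto
    refine ⟨Finset.subtype _ o, ⟨?_, ?_⟩, ?_⟩
    · show ex2 _ ∈ octads
      rw [ex2_of hpr]; exact ho
    · apply sub_of_ex2
      rw [ex2_of hpr]; exact hFo
    · rintro c ⟨hc, hFc⟩
      apply ex2_inj
      rw [ex2_of hpr]
      exact hu _ ⟨hc, ex2_sub hFc⟩

theorem card_P2 : Fintype.card P2 = 22 := by decide +kernel

/-- the pair stabiliser preserves the other points -/
theorem pres {g : Equiv.Perm GolayPt} (hg : g ∈ st pr) (x : GolayPt) :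
    (x ≠ none ∧ x ≠ some 0) ↔ (g x ≠ none ∧ g x ≠ some 0) := by
  have h1 : x ∈ pr ↔ g x ∈ pr := by
    have := (mem_st.1 hg).2
    constructor
    · intro h
      rw [← this]
      exact smul_mem_smul_finset h
    · intro h
      rw [← this] at h
      rw [mem_smul_finset] at h
      obtain ⟨y, hy, hyx⟩ := h
      have : y = x := g.injective hyx
      rwa [← this]
  simp only [pr, mem_insert, mem_singleton] at h1
  tauto

/-- restriction of an element of the pair stabiliser -/
def res {g : Equiv.Perm GolayPt} (hg : g ∈ st pr) : Equiv.Perm P2 :=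
  Equiv.Perm.subtypePerm g (fun x => (pres hg x).symm)

theorem res_apply {g : Equiv.Perm GolayPt} (hg : g ∈ st pr) (x : P2) : (res hg x).1 = g x.1 := rfl

theorem ex2_res {g : Equiv.Perm GolayPt} (hg : g ∈ st pr) (b : Finset P2) :
    ex2 (res hg • b) = g • ex2 b := by
  have hpr := (mem_st.1 hg).2
  have e : ∀ c : Finset P2, ex2 c = pr ∪ c.map (Function.Embedding.subtype _) := by
    intro c
    ext x
    simp only [ex2, pr, mem_insert, mem_union, mem_singleton, or_assoc]
  rw [e, e, smul_finset_union, hpr]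
  congr 1
  rw [smul_eq_map, smul_eq_map, map_map, map_map]
  congr 1

theorem res_mem {g : Equiv.Perm GolayPt} (hg : g ∈ st pr) : res hg ∈ setSystemAut B22 := by
  rw [mem_aut]
  intro s
  show ex2 (res hg • s) ∈ octads ↔ ex2 s ∈ octads
  rw [ex2_res, smul_octad (mem_st.1 hg).1]

/-- restriction homomorphism -/
def rho : st pr →* setSystemAut B22 where
  toFun g := ⟨res g.2, res_mem g.2⟩
  map_one' := by apply Subtype.ext; ext x; rfl
  map_mul' g h := by apply Subtype.ext; ext x; rfl

/-- masks for rigidity -/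
theorem rho_inj : Function.Injective rho := by
  rw [injective_iff_map_eq_one]
  intro g hg
  have h1 : ∀ x : P2, g.1 x.1 = x.1 := by
    intro x
    have := congrArg (fun f => (f.1 x).1) hg
    exact this
  apply Subtype.ext
  refine eq_one_of_closure (mem_st.1 g.2).1 [(0x13e005, 0x13e005), (0xd4b004, 0xd4b004)]
    (F := 0x7ffffe) ?_ ?_
  · intro p hp
    have key : ∀ p ∈ mset 0x7ffffe, p ≠ none ∧ p ≠ some 0 := by decide +kernel
    exact h1 ⟨p, key p hp⟩
  · decide +kernel

theorem card_pr : Nat.card (st pr) = 887040 := by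
  have h1 := card_eq_orbit_mul (st pr) none
  have h2 : (MulAction.orbit (st pr) (none : GolayPt)) = {none, some 0} := by
    apply orbit_eq
    · intro g hg
      have h3 : g none ∈ pr := by
        rw [← (mem_st.1 hg).2]
        exact smul_mem_smul_finset (by simp [pr])
      simpa [pr] using h3
    · intro q hq
      simp only [Set.mem_insert_iff, Set.mem_singleton_iff] at hq
      rcases hq with rfl | rfl
      · exact ⟨1, one_mem _, rfl⟩
      · obtain ⟨g, hg, hgx⟩ := five_trans_emb
          ⟨![none, some 0, some 1, some 2, some 3], by decide⟩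
          ⟨![some 0, none, some 1, some 2, some 3], by decide⟩
        have g0 : g none = some 0 := hgx 0
        have g1 : g (some 0) = none := hgx 1
        refine ⟨g, mem_st.2 ⟨hg, ?_⟩, g0⟩
        rw [smul_eq_map]
        ext x
        simp only [pr, mem_map_equiv, mem_insert, mem_singleton, Equiv.symm_apply_eq, g0, g1]
        tauto
  have h3 : st pr ⊓ MulAction.stabilizer (Equiv.Perm GolayPt) (none : GolayPt) = fx [none, some 0] := by
    ext g
    rw [Subgroup.mem_inf, mem_st, MulAction.mem_stabilizer_iff, mem_fx]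
    constructor
    · rintro ⟨⟨h3, h4⟩, h5⟩
      have h5' : g none = none := h5
      refine ⟨h3, ?_⟩
      have h6 : g (some 0) ∈ pr := by
        rw [← h4]
        exact smul_mem_smul_finset (by simp [pr])
      have h7 : g (some 0) = some 0 := by
        simp only [pr, mem_insert, mem_singleton] at h6
        rcases h6 with h6 | h6
        · rw [← h5'] at h6
          have := g.injective h6
          simp at this
        · exact h6
      simp [h5', h7]
    · rintro ⟨h3, h4⟩
      have h5 : g none = none := h4 none (by simp)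
      have h6 : g (some 0) = some 0 := h4 (some 0) (by simp)
      refine ⟨⟨h3, ?_⟩, h5⟩
      rw [smul_eq_map]
      ext x
      simp only [pr, mem_map_equiv, mem_insert, mem_singleton, Equiv.symm_apply_eq, h5, h6]
  rw [h1, h2, h3, card_fx2 (by simp), Set.ncard_pair (by simp)]

/-- automorphisms fixing a labelled antiflag are trivial -/
theorem rigid {α : Type*} [Fintype α] [DecidableEq α] {B : Set (Finset α)}
    (hα : Fintype.card α = 22) (hB : IsSteinerSystem 3 6 B) {p : α} {h : Fin 6 → α}
    (hi : Function.Injective h) (hb : univ.image h ∈ B) (hp : p ∉ univ.image h)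
    {g : Equiv.Perm α} (hg : g ∈ setSystemAut B) (hgp : g p = p) (hgh : ∀ i, g (h i) = h i) :
    g = 1 := by
  have np : ∀ i, h i ≠ p := fun i e => hp (e ▸ mem_image_of_mem _ (mem_univ i))
  have e1 : univ.image (fun i => (⟨h i, np i⟩ : {a : α // a ≠ p})) =
      Finset.subtype (fun a => a ≠ p) (univ.image h) := by
    ext x
    simp only [mem_image, mem_univ, true_and, mem_subtype, Subtype.ext_iff]
  have H : LH (dl B p) (fun i => (⟨h i, np i⟩ : {a : α // a ≠ p})) :=
    ⟨card_ne hα p, derived hB p, fun i j hij => hi (congrArg Subtype.val hij), by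
      rw [e1]; exact (hyp_of_block hα hB hb hp).2⟩
  have hne : ∀ x, x ≠ p ↔ g x ≠ p := by
    intro x
    constructor
    · intro hx hgx
      rw [← hgp] at hgx
      exact hx (g.injective hgx)
    · rintro hx rfl
      exact hx hgp
  rw [mem_aut] at hg
  set g' : Equiv.Perm {a : α // a ≠ p} := g.subtypePerm (p := fun a => a ≠ p) (fun x => (hne x).symm)
    with hg'
  have h1 : g' ∈ setSystemAut (dl B p) := by
    rw [mem_aut]
    have hm : ∀ s : Finset α, g' • Finset.subtype (fun a => a ≠ p) s =
        Finset.subtype (fun a => a ≠ p) (g • s) := by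
      intro s
      ext y
      rw [← inv_smul_mem_iff, mem_subtype, mem_subtype, ← inv_smul_mem_iff]
      rfl
    have hps : ∀ s : Finset α, p ∈ g • s ↔ p ∈ s := by
      intro s
      constructor
      · intro h
        rw [mem_smul_finset] at h
        obtain ⟨y, hy, hyp⟩ := h
        have : y = p := g.injective (hyp.trans hgp.symm)
        rwa [← this]
      · intro h
        rw [mem_smul_finset]
        exact ⟨p, h, hgp⟩
    intro s
    constructor
    · rintro ⟨t, ht, hpt, he⟩
      refine ⟨g⁻¹ • t, ?_, ?_, ?_⟩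
      · rw [← hg, smul_inv_smul]; exact ht
      · rw [← hps, smul_inv_smul]; exact hpt
      · have : g' • s =
            g' • Finset.subtype (fun a => a ≠ p) (g⁻¹ • t) := by
          rw [hm, smul_inv_smul, he]
        exact smul_left_cancel _ this
    · rintro ⟨t, ht, hpt, rfl⟩
      rw [hm]
      exact ⟨g • t, (hg t).2 ht, (hps t).2 hpt, rfl⟩
  have h2 := H.rigid h1 (fun i => Subtype.ext (hgh i))
  ext1 x
  by_cases hx : x = p
  · rw [hx, hgp]; rfl
  · have := congrArg (fun f => (f ⟨x, hx⟩).1) h2
    exact this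

/-- labellings of a block -/
def labs {α : Type*} [Fintype α] [DecidableEq α] (b : Finset α) : Finset (Fin 6 → α) :=
  (univ : Finset (Fin 6 ≃ b)).image (fun e i => (e i).1)

theorem card_labs {α : Type*} [Fintype α] [DecidableEq α] {b : Finset α} (hb : b.card = 6) :
    (labs b).card ≤ 720 := by
  refine le_trans card_image_le ?_
  have e : Fin 6 ≃ b := (Fintype.equivFinOfCardEq (by rw [Fintype.card_coe, hb])).symm
  rw [card_univ, Fintype.card_equiv e, Fintype.card_fin]
  decide

theorem mem_labs {α : Type*} [Fintype α] [DecidableEq α] {f : Fin 6 → α} (hf : Function.Injective f) :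
    f ∈ labs (univ.image f) := by
  unfold labs
  rw [mem_image]
  refine ⟨Equiv.ofBijective (fun i => ⟨f i, mem_image_of_mem _ (mem_univ i)⟩) ⟨?_, ?_⟩, mem_univ _, rfl⟩
  · intro i j hij
    exact hf (congrArg Subtype.val hij)
  · rintro ⟨x, hx⟩
    rw [mem_image] at hx
    obtain ⟨i, _, rfl⟩ := hx
    exact ⟨i, rfl⟩

theorem card_aut_le {α : Type*} [Fintype α] [DecidableEq α] {B : Set (Finset α)}
    (hα : Fintype.card α = 22) (hB : IsSteinerSystem 3 6 B) :
    Nat.card (setSystemAut B) ≤ 887040 := by
  obtain ⟨p, h, hi, hb, hp⟩ := exists_flag hα hB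
  set F : Finset (α × (Fin 6 → α)) := (univ : Finset α).biUnion (fun q =>
    ((bl B).filter (fun b => q ∉ b)).biUnion (fun b => (labs b).image (fun f => (q, f)))) with hF
  have hFc : F.card ≤ 887040 := by
    have h1 : ∀ q : α, (((bl B).filter (fun b => q ∉ b)).biUnion
        (fun b => (labs b).image (fun f => (q, f)))).card ≤ 56 * 720 := by
      intro q
      refine le_trans card_biUnion_le ?_
      rw [← card_off hα hB q, ← smul_eq_mul]
      refine sum_le_card_nsmul _ _ _ ?_
      intro b hb
      rw [mem_filter, mem_bl] at hb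
      exact le_trans card_image_le (card_labs (hB.1 b hb.1))
    refine le_trans card_biUnion_le ?_
    refine le_trans (sum_le_card_nsmul _ _ _ (fun q _ => h1 q)) ?_
    rw [card_univ, hα, smul_eq_mul]
  have hmem : ∀ g : setSystemAut B, (g.1 p, fun i => g.1 (h i)) ∈ F := by
    intro g
    have hg := mem_aut.1 g.2
    rw [hF, mem_biUnion]
    refine ⟨g.1 p, mem_univ _, ?_⟩
    rw [mem_biUnion]
    have e : g.1 • (univ.image h) = univ.image (fun i => g.1 (h i)) := by
      ext x
      rw [mem_smul_finset]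
      simp only [mem_image, mem_univ, true_and]
      constructor
      · rintro ⟨_, ⟨i, rfl⟩, rfl⟩
        exact ⟨i, rfl⟩
      · rintro ⟨i, rfl⟩
        exact ⟨_, ⟨i, rfl⟩, rfl⟩
    refine ⟨g.1 • (univ.image h), ?_, ?_⟩
    · rw [mem_filter, mem_bl]
      refine ⟨(hg _).2 hb, ?_⟩
      intro hc
      apply hp
      have : g.1 p = g.1 • p := rfl
      rw [this, smul_mem_smul_finset_iff] at hc
      exact hc
    · rw [mem_image]
      refine ⟨_, ?_, rfl⟩
      rw [e]
      exact mem_labs (fun i j hij => hi (g.1.injective hij))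
  have hinj : Function.Injective (fun g : setSystemAut B => (⟨_, hmem g⟩ : F)) := by
    intro g g' hgg
    have h1 := congrArg Subtype.val hgg
    simp only [Prod.mk.injEq] at h1
    have h2 : g'.1⁻¹ * g.1 = 1 := by
      apply rigid hα hB hi hb hp (mul_mem (inv_mem g'.2) g.2)
      · rw [Equiv.Perm.mul_apply, Equiv.Perm.inv_eq_iff_eq, h1.1]
      · intro i
        rw [Equiv.Perm.mul_apply, Equiv.Perm.inv_eq_iff_eq]
        exact congrFun h1.2 i
    exact Subtype.ext (inv_mul_eq_one.1 h2).symm
  have := Nat.card_le_card_of_injective _ hinj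
  rw [Nat.card_eq_fintype_card (α := F), Fintype.card_coe] at this
  exact le_trans this hFc

theorem rho_bij : Function.Bijective rho := by
  have h1 := card_aut_le card_P2 B22_steiner
  refine (Nat.bijective_iff_injective_and_card rho).2 ⟨rho_inj, ?_⟩
  apply le_antisymm
  · exact Nat.card_le_card_of_injective _ rho_inj
  · rw [card_pr]; exact h1

/-- the automorphism group of the standard system -/
noncomputable def rhoE : st pr ≃* setSystemAut B22 := MulEquiv.ofBijective rho rho_bij

theorem three_trans : MulAction.IsMultiplyPretransitive (setSystemAut B22) P2 3 := by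
  refine ⟨fun x y => ?_⟩
  have hcons : ∀ x : Fin 3 ↪ P2, ∃ x' : Fin 5 ↪ GolayPt, x' 0 = none ∧ x' 1 = some 0 ∧
      ∀ i : Fin 3, x' i.succ.succ = (x i).1 := by
    intro x
    refine ⟨⟨Fin.cons none (Fin.cons (some 0) (fun i => (x i).1)), ?_⟩, rfl, rfl, fun i => rfl⟩
    have h1 : ∀ i, (x i).1 ≠ none := fun i => (x i).2.1
    have h2 : ∀ i, (x i).1 ≠ some 0 := fun i => (x i).2.2
    rw [Fin.cons_injective_iff, Fin.cons_injective_iff]
    refine ⟨?_, ?_, ?_⟩
    · rintro ⟨i, hi⟩
      refine Fin.cases ?_ (fun i => ?_) i hi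
      · intro h; simp at h
      · intro h; exact h1 i h
    · rintro ⟨i, hi⟩
      exact h2 i hi
    · intro i j hij
      exact x.injective (Subtype.ext hij)
  obtain ⟨x', hx0, hx1, hx⟩ := hcons x
  obtain ⟨y', hy0, hy1, hy⟩ := hcons y
  obtain ⟨g, hg, hgx⟩ := five_trans_emb x' y'
  have g0 : g none = none := by
    have := hgx 0
    rwa [hx0, hy0] at this
  have g1 : g (some 0) = some 0 := by
    have := hgx 1
    rwa [hx1, hy1] at this
  have hgst : g ∈ st pr := by
    rw [mem_st]
    refine ⟨hg, ?_⟩
    rw [smul_eq_map]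
    ext x
    simp only [pr, mem_map_equiv, mem_insert, mem_singleton, Equiv.symm_apply_eq, g0, g1]
  refine ⟨rho ⟨g, hgst⟩, ?_⟩
  ext1 i
  apply Subtype.ext
  have := hgx i.succ.succ
  rw [hx, hy] at this
  exact this

theorem fx_le_st : fx [none, some 0] ≤ st pr := by
  intro g hg
  have h5 : g none = none := hg.2 none (by simp)
  have h6 : g (some 0) = some 0 := hg.2 (some 0) (by simp)
  refine mem_st.2 ⟨hg.1, ?_⟩
  rw [smul_eq_map]
  ext x
  simp only [pr, mem_map_equiv, mem_insert, mem_singleton, Equiv.symm_apply_eq, h5, h6]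

end CfsgL.M22b
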