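import Cfsg.Agent.L.Steiner
import Cfsg.Prelude.Def_Sporadic
/-!
Isomorphisms and automorphism groups of set systems.
-/
set_option autoImplicit false
namespace CfsgL.SS
open Finset Pointwise Cfsg

variable {α β : Type*} [Fintype α] [DecidableEq α] [Fintype β] [DecidableEq β]

theorem iso_of {B : Set (Finset α)} {B' : Set (Finset β)} (E : α ≃ β)
    (h : ∀ s, s ∈ B ↔ s.map E.toEmbedding ∈ B') : SetSystemIso B B' := by
  refine ⟨E, ?_⟩
  ext t
  constructor
  · rintro ⟨s, hs, rfl⟩
    have := (h s).1 hs
    rwa [Finset.map_eq_image] at this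
  · intro ht
    refine ⟨t.map E.symm.toEmbedding, ?_, ?_⟩
    · rw [h]
      have : (t.map E.symm.toEmbedding).map E.toEmbedding = t := by
        ext x
        simp
      rwa [this]
    · ext x
      simp only [Finset.mem_image, Finset.mem_map_equiv, Equiv.symm_symm]
      constructor
      · rintro ⟨a, ha, rfl⟩
        exact ha
      · intro hx
        exact ⟨E.symm x, by rwa [Equiv.apply_symm_apply], Equiv.apply_symm_apply _ _⟩

theorem of_iso {B : Set (Finset α)} {B' : Set (Finset β)} (h : SetSystemIso B B') :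
    ∃ E : α ≃ β, ∀ s, s ∈ B ↔ s.map E.toEmbedding ∈ B' := by
  obtain ⟨E, hE⟩ := h
  refine ⟨E, fun s => ?_⟩
  rw [← hE]
  constructor
  · intro hs
    exact ⟨s, hs, by rw [Finset.map_eq_image]; rfl⟩
  · rintro ⟨t, ht, hts⟩
    simp only at hts
    have h1 : t.image E = s.image E := by
      rw [hts, Finset.map_eq_image]; rfl
    have := Finset.image_injective E.injective h1
    rwa [← this]

theorem mem_aut {B : Set (Finset α)} {g : Equiv.Perm α} :
    g ∈ setSystemAut B ↔ ∀ s, g • s ∈ B ↔ s ∈ B := by
  constructor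
  · intro h s
    have h1 : g • B = B := h
    constructor
    · intro hs
      rw [← h1, Set.mem_smul_set] at hs
      obtain ⟨t, ht, hts⟩ := hs
      have := smul_left_cancel g hts
      rwa [← this]
    · intro hs
      rw [← h1]
      exact Set.smul_mem_smul_set hs
  · intro h
    show g • B = B
    ext s
    rw [Set.mem_smul_set_iff_inv_smul_mem, ← h (g⁻¹ • s), smul_inv_smul]

theorem smul_eq_map (g : Equiv.Perm α) (s : Finset α) : g • s = s.map g.toEmbedding := by
  rw [Finset.map_eq_image]
  rfl

/-- conjugation by a bijection -/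
def conj (E : α ≃ β) : Equiv.Perm α ≃* Equiv.Perm β where
  toFun g := (E.symm.trans g).trans E
  invFun g := (E.trans g).trans E.symm
  left_inv g := by ext x; simp
  right_inv g := by ext x; simp
  map_mul' g h := by ext x; simp

theorem conj_apply (E : α ≃ β) (g : Equiv.Perm α) (x : β) : conj E g x = E (g (E.symm x)) := rfl
theorem conj_symm_apply (E : α ≃ β) (g : Equiv.Perm β) (x : α) :
    (conj E).symm g x = E.symm (g (E x)) := rfl

theorem conj_smul (E : α ≃ β) (g : Equiv.Perm α) (s : Finset α) :
    conj E g • (s.map E.toEmbedding) = (g • s).map E.toEmbedding := by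
  rw [smul_eq_map, smul_eq_map]
  ext x
  simp only [Finset.mem_map_equiv]
  rw [show ((conj E g).symm x) = E (g.symm (E.symm x)) from rfl, Equiv.symm_apply_apply]

theorem conj_mem {B : Set (Finset α)} {B' : Set (Finset β)} (E : α ≃ β)
    (h : ∀ s, s ∈ B ↔ s.map E.toEmbedding ∈ B') (g : Equiv.Perm α) :
    conj E g ∈ setSystemAut B' ↔ g ∈ setSystemAut B := by
  have hs : ∀ t : Finset β, ∃ s : Finset α, s.map E.toEmbedding = t := fun t =>
    ⟨t.map E.symm.toEmbedding, by ext x; simp⟩
  rw [mem_aut, mem_aut]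
  constructor
  · intro h1 s
    rw [h, h, ← conj_smul]
    exact h1 _
  · intro h1 t
    obtain ⟨s, rfl⟩ := hs t
    rw [conj_smul, ← h, ← h]
    exact h1 s

/-- isomorphic systems have isomorphic automorphism groups -/
def autEquiv {B : Set (Finset α)} {B' : Set (Finset β)} (E : α ≃ β)
    (h : ∀ s, s ∈ B ↔ s.map E.toEmbedding ∈ B') : setSystemAut B ≃* setSystemAut B' where
  toFun g := ⟨conj E g.1, (conj_mem E h g.1).2 g.2⟩
  invFun g := ⟨(conj E).symm g.1, by
    rw [← conj_mem E h, MulEquiv.apply_symm_apply]; exact g.2⟩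
  left_inv g := Subtype.ext ((conj E).symm_apply_apply _)
  right_inv g := Subtype.ext ((conj E).apply_symm_apply _)
  map_mul' g g' := Subtype.ext (map_mul _ _ _)

theorem trans_transfer {B : Set (Finset α)} {B' : Set (Finset β)} (E : α ≃ β)
    (h : ∀ s, s ∈ B ↔ s.map E.toEmbedding ∈ B') (n : ℕ)
    (ht : MulAction.IsMultiplyPretransitive (setSystemAut B') β n) :
    MulAction.IsMultiplyPretransitive (setSystemAut B) α n := by
  refine ⟨fun x y => ?_⟩
  obtain ⟨g, hg⟩ := ht.exists_smul_eq (x.trans E.toEmbedding) (y.trans E.toEmbedding)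
  refine ⟨(autEquiv E h).symm g, ?_⟩
  ext i
  have := DFunLike.congr_fun hg i
  have h2 : g.1 (E (x i)) = E (y i) := this
  show (conj E).symm g.1 (x i) = y i
  rw [conj_symm_apply, h2, Equiv.symm_apply_apply]

theorem stab_transfer {B : Set (Finset α)} {B' : Set (Finset β)} (E : α ≃ β)
    (h : ∀ s, s ∈ B ↔ s.map E.toEmbedding ∈ B') (n : ℕ)
    (ht : ∀ x : Fin n ↪ β, MulAction.stabilizer (setSystemAut B') x = ⊥) :
    ∀ x : Fin n ↪ α, MulAction.stabilizer (setSystemAut B) x = ⊥ := by
  intro x
  rw [eq_bot_iff]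
  intro g hg
  have h1 := ht (x.trans E.toEmbedding)
  have h2 : autEquiv E h g ∈ MulAction.stabilizer (setSystemAut B') (x.trans E.toEmbedding) := by
    rw [MulAction.mem_stabilizer_iff]
    ext i
    have h3 : g • x = x := hg
    have h4 : g.1 (x i) = x i := DFunLike.congr_fun h3 i
    show conj E g.1 (E (x i)) = E (x i)
    rw [conj_apply, Equiv.symm_apply_apply, h4]
  rw [h1, Subgroup.mem_bot] at h2
  rw [Subgroup.mem_bot]
  exact (map_eq_one_iff _ (autEquiv E h).injective).1 h2

theorem simple_of_equiv {G H : Type*} [Group G] [Group H] (e : G ≃* H) (h : IsSimpleGroup H) :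
    IsSimpleGroup G := by
  have := h
  have : Nontrivial G := e.toEquiv.nontrivial
  exact IsSimpleGroup.isSimpleGroup_of_surjective e.symm.toMonoidHom e.symm.surjective

end CfsgL.SS
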