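import Cfsg.Agent.L.Steiner
/-!
Intersection numbers of an arbitrary set with the blocks of a Steiner system.
-/
set_option autoImplicit false
namespace CfsgL.Steiner
open Cfsg Finset

variable {α : Type*} [Fintype α] [DecidableEq α]

/-- number of blocks meeting `Y` in exactly `i` points -/
noncomputable def zi (B : Set (Finset α)) (Y : Finset α) (i : ℕ) : ℕ :=
  ((bl B).filter (fun c => (Y ∩ c).card = i)).card

theorem zi_eq (B : Set (Finset α)) (Y : Finset α) (i : ℕ) :
    {b : Finset α | b ∈ B ∧ (b ∩ Y).card = i}.ncard = zi B Y i := by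
  unfold zi
  rw [← Set.ncard_coe_finset]
  congr 1
  ext b
  simp [mem_bl, Finset.inter_comm]

theorem sum_zi {B : Set (Finset α)} (Y : Finset α) (j l : ℕ)
    (hl : ∀ s : Finset α, s.card = j → (thr B s).card = l) :
    ∑ i ∈ range (Y.card + 1), zi B Y i * i.choose j = Y.card.choose j * l := by
  have h1 := sum_choose_inter (bl B) Y j
  have h2 : ∑ s ∈ powersetCard j Y, ((bl B).filter (fun c => s ⊆ c)).card =
      Y.card.choose j * l := by
    rw [sum_congr rfl (g := fun _ => l), sum_const, card_powersetCard, smul_eq_mul]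
    intro s hs
    rw [mem_powersetCard] at hs
    exact hl s hs.2
  rw [← h2, ← h1]
  have h3 : ∀ c ∈ bl B, (Y ∩ c).card ∈ range (Y.card + 1) := by
    intro c _
    rw [mem_range]
    have := card_le_card (inter_subset_left (s₁ := Y) (s₂ := c))
    omega
  rw [← sum_fiberwise_of_maps_to h3]
  apply sum_congr rfl
  intro i _
  have : ∀ c ∈ (bl B).filter (fun c => (Y ∩ c).card = i),
      (Y ∩ c).card.choose j = i.choose j := by
    intro c hc
    rw [mem_filter] at hc
    rw [hc.2]
  rw [sum_congr rfl this, sum_const, smul_eq_mul]; rfl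

end CfsgL.Steiner
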