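import Cfsg.Agent.L.GolayUniq3
import Cfsg.Agent.L.SetSys
import Cfsg.Agent.L.Steiner2
import Cfsg.Agent.L.Golay.Simple3
/-!
The Steiner system `S(4,7,23)`.
-/
set_option autoImplicit false
namespace CfsgL.S23
open Finset Pointwise Cfsg CfsgL.GU CfsgL.SS CfsgL.Steiner

variable {α β : Type*} [Fintype α] [DecidableEq α] [Fintype β] [DecidableEq β]

/-- prescribed points -/
theorem uniqueN {C : Finset (Finset α)} {C' : Finset (Finset β)} (h : IsGolay C)
    (h' : IsGolay C') {n : ℕ} (hn : n ≤ 5) (x : Fin n ↪ α) (y : Fin n ↪ β) :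
    ∃ E : α ≃ β, (∀ s, s ∈ C ↔ s.map E.toEmbedding ∈ C') ∧ ∀ i, E (x i) = y i := by
  obtain ⟨E1, h1⟩ := h.unique G0_golay
  obtain ⟨E2, h2⟩ := h'.unique G0_golay
  have h5 : MulAction.IsMultiplyPretransitive M24 GolayPt 5 := CfsgL.Golay.five_transitive
  have hT : MulAction.IsMultiplyPretransitive M24 GolayPt n := by
    refine MulAction.isMultiplyPretransitive_of_le hn ?_
    rw [Nat.card_eq_fintype_card, Fintype.card_congr CfsgL.Golay.ptEquiv, Fintype.card_fin]
    norm_num
  obtain ⟨⟨g, hg⟩, hgx⟩ := hT.exists_smul_eq (x.trans E1.toEmbedding) (y.trans E2.toEmbedding)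
  refine ⟨(E1.trans g).trans E2.symm, ?_, ?_⟩
  · intro s
    rw [h1, h2, mem_G0, mem_G0, ← CfsgL.Golay.smul_mem_supports hg]
    have : Finset.map E2.toEmbedding (Finset.map ((E1.trans g).trans E2.symm).toEmbedding s) =
        g • Finset.map E1.toEmbedding s := by
      ext p
      simp only [Finset.mem_map_equiv, Equiv.symm_trans_apply, Equiv.symm_symm,
        Equiv.symm_apply_apply, Equiv.apply_symm_apply]
      rw [← Finset.inv_smul_mem_iff, Finset.mem_map_equiv]
      rfl
    rw [this]
  · intro i
    have h3 : g (E1 (x i)) = E2 (y i) := DFunLike.congr_fun hgx i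
    simp only [Equiv.trans_apply, h3, Equiv.symm_apply_apply]

theorem unique1 {C : Finset (Finset α)} {C' : Finset (Finset β)} (h : IsGolay C)
    (h' : IsGolay C') (x : α) (y : β) :
    ∃ E : α ≃ β, (∀ s, s ∈ C ↔ s.map E.toEmbedding ∈ C') ∧ E x = y := by
  obtain ⟨E, h1, h2⟩ := uniqueN h h' (n := 1) (by norm_num) ⟨fun _ => x, fun a b _ => Subsingleton.elim a b⟩
    ⟨fun _ => y, fun a b _ => Subsingleton.elim a b⟩
  exact ⟨E, h1, h2 0⟩

/-- the blocks with the point at infinity added -/
def binf (B : Set (Finset α)) : Set (Finset (Option α)) := {s | ∃ b ∈ B, s = insertNone b}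

theorem card_insertNone' (b : Finset α) : (insertNone b).card = b.card + 1 :=
  Finset.card_insertNone b

theorem insertNone_inter (b c : Finset α) : insertNone b ∩ insertNone c = insertNone (b ∩ c) := by
  ext x
  cases x <;> simp

theorem inter_card (b : Finset α) (t : Finset (Option α)) :
    (insertNone b ∩ t).card = (eraseNone t ∩ b).card + (if none ∈ t then 1 else 0) := by
  split_ifs with h
  · have : insertNone b ∩ t = insertNone (eraseNone t ∩ b) := by
      ext x
      cases x with
      | none => simp [h]
      | some x => simp [and_comm]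
    rw [this, card_insertNone']
  · have : insertNone b ∩ t = (eraseNone t ∩ b).map Function.Embedding.some := by
      ext x
      cases x with
      | none => simp [h]
      | some x => simp [and_comm]
    rw [this, card_map, add_zero]

theorem card_opt (t : Finset (Option α)) :
    t.card = (eraseNone t).card + (if none ∈ t then 1 else 0) := by
  have := inter_card (univ : Finset α) t
  have e : insertNone (univ : Finset α) ∩ t = t := by
    ext x
    cases x <;> simp
  rw [e, Finset.inter_univ] at this
  exact this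

theorem zi_zero {B : Set (Finset α)} {Y : Finset α} {ε : ℕ} (h : ∀ b ∈ B, (Y ∩ b).card % 2 = ε)
    (i : ℕ) (hi : i % 2 ≠ ε) : zi B Y i = 0 := by
  unfold zi
  rw [Finset.card_eq_zero, Finset.filter_eq_empty_iff]
  intro b hb h'
  rw [mem_bl] at hb
  have := h b hb
  rw [h'] at this
  exact hi this

section
variable {B : Set (Finset α)} (hα : Fintype.card α = 23) (hB : IsSteinerSystem 4 7 B)
include hα hB

theorem l23_4 (s : Finset α) (hs : s.card = 4) : (thr B s).card = 1 :=
  thr_of_choose hB hα (by norm_num) (by decide +kernel) (by decide +kernel) s hs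

theorem parity_small {Y : Finset α} {ε : ℕ} (hε : ε < 2) (hY : Y.card + ε ≤ 7) (hY0 : Y.card + ε ≠ 0)
    (h : ∀ b ∈ B, (Y ∩ b).card % 2 = ε) : False := by
  have e0 := sum_zi (B := B) Y 0 253 (fun s hs => l23_0 hα hB s hs)
  have e1 := sum_zi (B := B) Y 1 77 (fun s hs => l23_1 hα hB s hs)
  have e2 := sum_zi (B := B) Y 2 21 (fun s hs => l23_2 hα hB s hs)
  have e3 := sum_zi (B := B) Y 3 5 (fun s hs => l23_3 hα hB s hs)
  have e4 := sum_zi (B := B) Y 4 1 (fun s hs => l23_4 hα hB s hs)
  have z := zi_zero h
  have z0 := z 0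
  have z1 := z 1
  have z2 := z 2
  have z3 := z 3
  have z4 := z 4
  have z5 := z 5
  have z6 := z 6
  have z7 := z 7
  have hm : Y.card ≤ 7 := by omega
  have hc : ∀ n k : ℕ, Nat.choose n k = Nat.choose n k := fun _ _ => rfl
  interval_cases hYc : Y.card <;>
  simp only [Finset.sum_range_succ, Finset.sum_range_zero, Nat.zero_add] at e0 e1 e2 e3 e4 <;>
  norm_num [Nat.choose] at e0 e1 e2 e3 e4 <;>
  interval_cases ε <;> (try norm_num at z0 z1 z2 z3 z4 z5 z6 z7 hY hY0) <;> (try omega)

theorem binf_golay : IsGolay (dualF (binf B)) := by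
  refine golay_of_blocks (by rw [Fintype.card_option, hα]) ?_ ?_ ?_
  · rintro _ ⟨b, hb, rfl⟩
    rw [card_insertNone', hB.1 b hb]
    norm_num
  · rintro _ ⟨b, hb, rfl⟩ _ ⟨c, hc, rfl⟩
    rw [insertNone_inter, card_insertNone']
    by_cases hbc : b = c
    · rw [hbc, inter_self, hB.1 c hc]
      decide
    · rcases inter23 hα hB hb hc hbc with h | h <;> rw [h] <;> decide
  · intro t hne hev
    by_contra hlt
    push Not at hlt
    have h1 := card_opt t
    have h2 : t.card ≠ 0 := by rwa [ne_eq, card_eq_zero]
    have h3 : ∀ b ∈ B, (eraseNone t ∩ b).card % 2 = if none ∈ t then 1 else 0 := by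
      intro b hb
      have := hev _ ⟨b, hb, rfl⟩
      rw [inter_card, Nat.even_iff] at this
      split_ifs at this ⊢ <;> omega
    refine parity_small hα hB (ε := if none ∈ t then 1 else 0) ?_ ?_ ?_ h3
    · split_ifs <;> norm_num
    · omega
    · omega

theorem binf_sub {s : Finset α} (hs : s ∈ B) : insertNone s ∈ dualF (binf B) := by
  rw [mem_dualF]
  rintro _ ⟨b, hb, rfl⟩
  rw [insertNone_inter, card_insertNone']
  by_cases hbc : b = s
  · rw [hbc, inter_self, hB.1 s hs]
    decide
  · rcases inter23 hα hB hb hs hbc with h | h <;> rw [h] <;> decide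

/-- blocks are the octads through infinity -/
theorem mem_iff {s : Finset α} : s ∈ B ↔ insertNone s ∈ dualF (binf B) ∧ s.card = 7 := by
  constructor
  · intro hs
    exact ⟨binf_sub hα hB hs, hB.1 s hs⟩
  · rintro ⟨hs, h7⟩
    obtain ⟨F, hF, hF4⟩ := Finset.exists_subset_card_eq (s := s) (n := 4) (by omega)
    obtain ⟨b, ⟨hb, hFb⟩, _⟩ := hB.2 F hF4
    have h6 := Finset.card_le_card (Finset.subset_inter hFb hF)
    have hG := binf_golay hα hB
    by_contra hne
    have hbs : insertNone b ≠ insertNone s := by
      intro h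
      apply hne
      have : b = s := by
        have := congrArg eraseNone h
        simpa using this
      rwa [← this]
    have h8 := hG.eight_le (binf_sub hα hB hb) hs hbs
    have h9 := card_sd (insertNone b) (insertNone s)
    rw [insertNone_inter, card_insertNone', card_insertNone', card_insertNone', hB.1 b hb] at h9
    omega

end

/-- an isomorphism fixing infinity comes from the points -/
theorem exists_remove (E : Option α ≃ Option β) (h : E none = none) :
    ∃ e : α ≃ β, ∀ a, E (some a) = some (e a) := by
  have h1 : ∀ a : α, ∃ b : β, E (some a) = some b := by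
    intro a
    have : E (some a) ≠ none := by
      rw [← h]
      intro h'
      have := E.injective h'
      simp at this
    exact Option.ne_none_iff_exists'.1 this
  have h2 : ∀ b : β, ∃ a : α, E.symm (some b) = some a := by
    intro b
    have : E.symm (some b) ≠ none := by
      intro h'
      rw [Equiv.symm_apply_eq, h] at h'
      simp at h'
    exact Option.ne_none_iff_exists'.1 this
  choose f hf using h1
  choose g hg using h2
  refine ⟨⟨f, g, ?_, ?_⟩, hf⟩
  · intro a
    have h3 := hg (f a)
    rw [← hf a, Equiv.symm_apply_apply] at h3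
    exact (Option.some_injective _ h3).symm
  · intro b
    have h3 := hf (g b)
    rw [← hg b, Equiv.apply_symm_apply] at h3
    exact (Option.some_injective _ h3).symm

theorem map_insertNone (E : Option α ≃ Option β) (e : α ≃ β) (h0 : E none = none)
    (h : ∀ a, E (some a) = some (e a)) (s : Finset α) :
    (insertNone s).map E.toEmbedding = insertNone (s.map e.toEmbedding) := by
  ext x
  rw [Finset.mem_map_equiv]
  cases x with
  | none =>
    have : E.symm none = none := by rw [Equiv.symm_apply_eq, h0]
    rw [this]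
    simp
  | some x =>
    have : E.symm (some x) = some (e.symm x) := by rw [Equiv.symm_apply_eq, h, Equiv.apply_symm_apply]
    rw [this]
    simp [Finset.mem_map_equiv]

theorem exists_iso {B : Set (Finset α)} {B' : Set (Finset β)} (hα : Fintype.card α = 23)
    (hB : IsSteinerSystem 4 7 B) (hβ : Fintype.card β = 23) (hB' : IsSteinerSystem 4 7 B') :
    ∃ e : α ≃ β, ∀ s, s ∈ B ↔ s.map e.toEmbedding ∈ B' := by
  obtain ⟨E, hE, h0⟩ := unique1 (binf_golay hα hB) (binf_golay hβ hB') none none
  obtain ⟨e, he⟩ := exists_remove E h0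
  refine ⟨e, fun s => ?_⟩
  rw [mem_iff hα hB, mem_iff hβ hB', hE, map_insertNone E e h0 he, card_map]

/-- the standard `S(4,7,23)` -/
def B23 : Set (Finset (ZMod 23)) := {b | (insertNone b : Finset GolayPt) ∈ octads}

theorem B23_steiner : IsSteinerSystem 4 7 B23 := by
  have hst := CfsgL.Golay.steiner
  refine ⟨?_, ?_⟩
  · intro b hb
    have := hst.1 _ hb
    rw [card_insertNone'] at this
    omega
  · intro F hF
    obtain ⟨o, ⟨ho, hFo⟩, hu⟩ := hst.2 (insertNone F) (by rw [card_insertNone', hF])
    have hn : none ∈ o := hFo (by simp)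
    have e : insertNone (eraseNone o) = o := by
      rw [insertNone_eraseNone]
      exact Finset.insert_eq_of_mem hn
    refine ⟨eraseNone o, ⟨?_, ?_⟩, ?_⟩
    · show insertNone (eraseNone o) ∈ octads
      rw [e]; exact ho
    · intro x hx
      rw [mem_eraseNone]
      exact hFo (by simp [hx])
    · rintro c ⟨hc, hFc⟩
      have := hu (insertNone c) ⟨hc, by
        intro x hx
        cases x with
        | none => simp
        | some x => simp at hx ⊢; exact hFc hx⟩
      rw [← this]
      simp

theorem G0_eq : dualF (binf B23) = G0 := by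
  have h := binf_golay (by simp) B23_steiner
  symm
  apply Finset.eq_of_subset_of_card_le
  · intro t ht
    rw [mem_dualF]
    rintro _ ⟨b, hb, rfl⟩
    exact G0_golay.even_inter (octads_eq.1 hb).1 ht
  · rw [h.size, G0_golay.size]

/-- extension of a permutation -/
theorem opt_mem {g : Equiv.Perm (ZMod 23)} :
    (Equiv.optionCongr g : Equiv.Perm GolayPt) ∈ M24 ↔ g ∈ setSystemAut B23 := by
  have hmap : ∀ (g : Equiv.Perm (ZMod 23)) (s : Finset (ZMod 23)),
      (Equiv.optionCongr g : Equiv.Perm GolayPt) • (insertNone s : Finset GolayPt) =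
        insertNone (g • s) := by
    intro g s
    rw [smul_eq_map, smul_eq_map]
    exact map_insertNone _ g rfl (fun _ => rfl) s
  rw [mem_aut (B := B23)]
  constructor
  · intro h s
    show insertNone (g • s) ∈ octads ↔ insertNone s ∈ octads
    rw [← hmap]
    rw [CfsgL.Golay.mem_octads', CfsgL.Golay.mem_octads', CfsgL.Golay.smul_mem_supports h,
      CfsgL.Golay.card_smul_finset']
  · intro h
    rw [CfsgL.Golay.mem_M24_iff]
    intro s hs
    rw [← mem_G0, ← G0_eq, mem_dualF] at hs ⊢
    rintro _ ⟨b, hb, rfl⟩
    have h1 : g⁻¹ • b ∈ B23 := by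
      rw [← h, smul_inv_smul]; exact hb
    have h2 := hs _ ⟨_, h1, rfl⟩
    have h3 : (Equiv.optionCongr g : Equiv.Perm GolayPt) • (insertNone (g⁻¹ • b) ∩ s) =
        insertNone b ∩ (Equiv.optionCongr g : Equiv.Perm GolayPt) • s := by
      rw [Finset.smul_finset_inter, hmap, smul_inv_smul]
    rw [← h3, CfsgL.Golay.card_smul_finset']
    exact h2

/-- the automorphism group of the standard system is the point stabiliser of `M24` -/
noncomputable def autEquiv23 : setSystemAut B23 ≃* CfsgL.Golay.fx [none] where
  toFun g := ⟨Equiv.optionCongr g.1, opt_mem.2 g.2, by simp⟩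
  invFun g := ⟨Classical.choose (exists_remove g.1 (g.2.2 none (by simp))), by
    have h := Classical.choose_spec (exists_remove g.1 (g.2.2 none (by simp)))
    rw [← opt_mem]
    have : (Equiv.optionCongr (Classical.choose (exists_remove g.1 (g.2.2 none (by simp)))) :
        Equiv.Perm GolayPt) = g.1 := by
      ext1 x
      cases x with
      | none => exact (g.2.2 none (by simp)).symm
      | some x => exact (h x).symm
    rw [this]
    exact g.2.1⟩
  left_inv g := by
    apply Subtype.ext
    have h := Classical.choose_spec (exists_remove (Equiv.optionCongr g.1 : Equiv.Perm GolayPt) rfl)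
    ext1 x
    exact (Option.some_injective _ (h x)).symm
  right_inv g := by
    apply Subtype.ext
    have h := Classical.choose_spec (exists_remove g.1 (g.2.2 none (by simp)))
    ext1 x
    cases x with
    | none => exact (g.2.2 none (by simp)).symm
    | some x => exact (h x).symm
  map_mul' g h := by
    apply Subtype.ext
    ext1 x
    cases x <;> rfl

theorem four_trans23 : MulAction.IsMultiplyPretransitive (setSystemAut B23) (ZMod 23) 4 := by
  refine ⟨fun x y => ?_⟩
  have hcons : ∀ x : Fin 4 ↪ ZMod 23, ∃ x' : Fin 5 ↪ GolayPt, x' 0 = none ∧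
      ∀ i : Fin 4, x' i.succ = some (x i) := by
    intro x
    refine ⟨⟨Fin.cons none (fun i => some (x i)), ?_⟩, rfl, fun i => rfl⟩
    intro i j
    refine Fin.cases ?_ (fun i => ?_) i <;> refine Fin.cases ?_ (fun j => ?_) j
    · simp
    · simp
    · simp
    · simp
  obtain ⟨x', hx0, hx⟩ := hcons x
  obtain ⟨y', hy0, hy⟩ := hcons y
  obtain ⟨g, hg, hgx⟩ := CfsgL.Golay.five_trans_emb x' y'
  have h0 : g none = none := by
    have := hgx 0
    rwa [hx0, hy0] at this
  obtain ⟨e, he⟩ := exists_remove g h0
  have h1 : (Equiv.optionCongr e : Equiv.Perm GolayPt) = g := by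
    ext1 x
    cases x with
    | none => exact h0.symm
    | some x => exact (he x).symm
  refine ⟨⟨e, opt_mem.1 (h1 ▸ hg)⟩, ?_⟩
  ext1 i
  have := hgx i.succ
  rw [hx, hy, he] at this
  exact Option.some_injective _ this

end CfsgL.S23
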