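import Cfsg.Agent.L.Steiner2
import Cfsg.Agent.L.Golay.Octads
/-!
The Leech triangle: numbers of octads with a prescribed intersection with at most five points.
-/
set_option autoImplicit false
namespace CfsgL.Steiner
open Cfsg Finset

variable {α : Type*} [Fintype α] [DecidableEq α]

/-- blocks containing `A` and disjoint from `R` -/
noncomputable def ex (B : Set (Finset α)) (A R : Finset α) : Finset (Finset α) :=
  (bl B).filter (fun c => A ⊆ c ∧ Disjoint R c)

theorem mem_ex {B : Set (Finset α)} {A R c : Finset α} :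
    c ∈ ex B A R ↔ c ∈ B ∧ A ⊆ c ∧ Disjoint R c := by
  unfold ex; rw [mem_filter, mem_bl]

/-- the triangle -/
def tri (t : ℕ → ℕ) : ℕ → ℕ → ℕ
  | a, 0 => t a
  | a, r + 1 => tri t a r - tri t (a + 1) r

theorem card_ex {B : Set (Finset α)} (t : ℕ → ℕ) (n : ℕ)
    (ht : ∀ s : Finset α, s.card ≤ n → (thr B s).card = t s.card) :
    ∀ (R A : Finset α), Disjoint A R → A.card + R.card ≤ n → (ex B A R).card = tri t A.card R.card := by
  intro R
  induction R using Finset.induction_on with
  | empty =>
    intro A _ hn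
    rw [card_empty]
    show _ = t A.card
    rw [← ht A (by simpa using hn)]
    congr 1
    ext c
    rw [mem_ex, mem_thr]
    simp
  | insert x R hx ih =>
    intro A hd hn
    rw [disjoint_insert_right] at hd
    rw [card_insert_of_notMem hx] at hn ⊢
    show _ = tri t A.card R.card - tri t (A.card + 1) R.card
    have h1 := ih A hd.2 (by omega)
    have h2 := ih (insert x A) (by
      rw [disjoint_insert_left]; exact ⟨hx, hd.2⟩) (by
      rw [card_insert_of_notMem hd.1]; omega)
    rw [card_insert_of_notMem hd.1] at h2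
    have h3 : ex B A R = ex B A (insert x R) ∪ ex B (insert x A) R := by
      ext c
      rw [mem_union, mem_ex, mem_ex, mem_ex, insert_subset_iff, disjoint_insert_left]
      tauto
    have h4 : Disjoint (ex B A (insert x R)) (ex B (insert x A) R) := by
      rw [disjoint_left]
      intro c hc hc'
      rw [mem_ex, disjoint_insert_left] at hc
      rw [mem_ex, insert_subset_iff] at hc'
      exact hc.2.2.1 hc'.2.1.1
    have h5 := card_union_of_disjoint h4
    rw [← h3] at h5
    omega

/-- first column for `S(5,8,24)` -/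
def t24 : ℕ → ℕ
  | 0 => 759
  | 1 => 253
  | 2 => 77
  | 3 => 21
  | 4 => 5
  | _ => 1

theorem thr24 {B : Set (Finset α)} (hα : Fintype.card α = 24) (hB : IsSteinerSystem 5 8 B)
    (s : Finset α) (hs : s.card ≤ 5) : (thr B s).card = t24 s.card := by
  rcases (show s.card = 0 ∨ s.card = 1 ∨ s.card = 2 ∨ s.card = 3 ∨ s.card = 4 ∨ s.card = 5 by omega)
    with h | h | h | h | h | h
  · rw [l24_0 hα hB s h, h]; rfl
  · rw [l24_1 hα hB s h, h]; rfl
  · rw [l24_2 hα hB s h, h]; rfl
  · rw [l24_3 hα hB s h, h]; rfl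
  · rw [l24_4 hα hB s h, h]; rfl
  · rw [h]
    show _ = 1
    obtain ⟨b, hb, hu⟩ := hB.2 s h
    rw [card_eq_one]
    refine ⟨b, ?_⟩
    ext c
    rw [mem_thr, mem_singleton]
    constructor
    · rintro ⟨h1, h2⟩
      exact hu c ⟨h1, h2⟩
    · rintro rfl
      exact hb

theorem card_ex24 {B : Set (Finset α)} (hα : Fintype.card α = 24) (hB : IsSteinerSystem 5 8 B)
    {A R : Finset α} (hd : Disjoint A R) (hn : A.card + R.card ≤ 5) :
    (ex B A R).card = tri t24 A.card R.card :=
  card_ex t24 5 (thr24 hα hB) R A hd hn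

theorem tri24_pos : ∀ a < 6, ∀ r < 6, a + r ≤ 5 → 0 < tri t24 a r := by decide +kernel

end CfsgL.Steiner

namespace CfsgL.Golay
open Cfsg Finset CfsgL.Steiner

/-- octads with prescribed intersection with at most five points -/
theorem exists_octad (A R : Finset GolayPt) (hd : Disjoint A R) (hn : A.card + R.card ≤ 5) :
    ∃ O ∈ octads, A ⊆ O ∧ Disjoint R O := by
  have hpt : Fintype.card GolayPt = 24 := by decide
  have h1 := card_ex24 hpt steiner hd hn
  have h2 := tri24_pos A.card (by omega) R.card (by omega) hn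
  rw [← h1, card_pos] at h2
  obtain ⟨O, hO⟩ := h2
  rw [mem_ex] at hO
  exact ⟨O, hO⟩

end CfsgL.Golay
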