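import Cfsg.Agent.L.Steiner2
/-!
Arcs in projective planes of order 4.
-/
set_option autoImplicit false
namespace CfsgL.Plane
open Cfsg Finset CfsgL.Steiner

variable {α : Type*} [Fintype α] [DecidableEq α] {L : Set (Finset α)}

/-- arcs -/
def Arc (L : Set (Finset α)) (S : Finset α) : Prop := ∀ l ∈ L, (l ∩ S).card ≤ 2

theorem Arc.mono {S T : Finset α} (h : Arc L T) (hST : S ⊆ T) : Arc L S :=
  fun l hl => le_trans (card_le_card (inter_subset_inter_left hST)) (h l hl)

/-- one point extensions of an arc -/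
noncomputable def unc (L : Set (Finset α)) (Z : Finset α) : Finset α :=
  @Finset.filter _ (fun x => x ∉ Z ∧ Arc L (insert x Z)) (Classical.decPred _) univ

theorem mem_unc {Z : Finset α} {x : α} : x ∈ unc L Z ↔ x ∉ Z ∧ Arc L (insert x Z) := by
  simp [unc]

/-- secants -/
noncomputable def sec (L : Set (Finset α)) (Z : Finset α) : Finset (Finset α) :=
  (bl L).filter (fun l => (Z ∩ l).card = 2)

theorem mem_sec {Z l : Finset α} : l ∈ sec L Z ↔ l ∈ L ∧ (Z ∩ l).card = 2 := by
  simp [sec]

section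
variable (hα : Fintype.card α = 21) (hL : IsSteinerSystem 2 5 L)
include hα hL

theorem l21_0 (s : Finset α) (hs : s.card = 0) : (thr L s).card = 21 :=
  thr_of_choose hL hα (by norm_num) (by decide +kernel) (by decide +kernel) s hs

theorem l21_1 (s : Finset α) (hs : s.card = 1) : (thr L s).card = 5 :=
  thr_of_choose hL hα (by norm_num) (by decide +kernel) (by decide +kernel) s hs

omit hα in
theorem l21_2 (s : Finset α) (hs : s.card = 2) : (thr L s).card = 1 := by
  obtain ⟨b, ⟨hb, hsb⟩, hu⟩ := hL.2 s hs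
  rw [card_eq_one]
  refine ⟨b, ?_⟩
  ext c
  rw [mem_thr, mem_singleton]
  constructor
  · exact fun h => hu c h
  · rintro rfl
    exact ⟨hb, hsb⟩

theorem meet {l l' : Finset α} (hl : l ∈ L) (hl' : l' ∈ L) (hne : l ≠ l') : (l ∩ l').card = 1 := by
  have h0 := sum_xi hL hl 0 21 (by norm_num) (fun s hs => l21_0 hα hL s hs)
  have h1 := sum_xi hL hl 1 5 (by norm_num) (fun s hs => l21_1 hα hL s hs)
  simp only [sum_range_succ, sum_range_zero, Nat.choose_zero_right, Nat.choose_one_right,
    Nat.zero_add] at h0 h1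
  have h2 : xi L l 0 = 0 := by
    have : Nat.choose 0 1 = 0 := rfl
    omega
  have h3 := xi_zero h2 hl' hne
  have h4 := inter_lt hL hl hl' hne
  omega

omit hα in
theorem line_unique {l l' : Finset α} (hl : l ∈ L) (hl' : l' ∈ L) {p q : α} (hpq : p ≠ q)
    (hp : p ∈ l) (hq : q ∈ l) (hp' : p ∈ l') (hq' : q ∈ l') : l = l' := by
  by_contra hne
  have h1 := inter_lt hL hl hl' hne
  have h2 : ({p, q} : Finset α) ⊆ l ∩ l' := by
    intro x hx
    rw [mem_insert, mem_singleton] at hx
    rw [mem_inter]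
    rcases hx with rfl | rfl
    · exact ⟨hp, hp'⟩
    · exact ⟨hq, hq'⟩
  have h3 := card_le_card h2
  rw [card_pair hpq] at h3
  omega

omit hα in
theorem ex_line {p q : α} (hpq : p ≠ q) : ∃ l ∈ L, p ∈ l ∧ q ∈ l := by
  obtain ⟨b, ⟨hb, hsb⟩, _⟩ := hL.2 {p, q} (card_pair hpq)
  exact ⟨b, hb, hsb (by simp), hsb (by simp)⟩

omit hα in
/-- lines through a point outside `Y` partition `Y` -/
theorem star {x : α} {Y : Finset α} (hx : x ∉ Y) :
    ∑ l ∈ thr L {x}, (Y ∩ l).card = Y.card := by
  have h1 : ∀ l ∈ thr L {x}, (Y ∩ l).card = ∑ y ∈ Y, if y ∈ l then 1 else 0 := by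
    intro l _
    rw [← card_filter]
    congr 1
  rw [sum_congr rfl h1, sum_comm]
  have h2 : ∀ y ∈ Y, ∑ l ∈ thr L {x}, (if y ∈ l then 1 else 0) = 1 := by
    intro y hy
    have hne : x ≠ y := fun h => hx (h ▸ hy)
    rw [← card_filter, ← l21_2 hL {x, y} (card_pair hne)]
    congr 1
    ext l
    rw [mem_filter, mem_thr, mem_thr, insert_subset_iff, singleton_subset_iff, singleton_subset_iff]
    tauto
  rw [sum_congr rfl h2, sum_const, smul_eq_mul, mul_one]

omit hα in
theorem card_sec {Z : Finset α} (hZ : Arc L Z) : (sec L Z).card = Z.card.choose 2 := by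
  have h1 := sum_zi (B := L) Z 2 1 (fun s hs => l21_2 hL s hs)
  rw [mul_one] at h1
  rw [← h1]
  have h2 : ∀ i, 3 ≤ i → zi L Z i = 0 := by
    intro i hi
    unfold zi
    rw [card_eq_zero, filter_eq_empty_iff]
    intro l hl h
    have := hZ l (mem_bl.1 hl)
    rw [inter_comm] at this
    omega
  by_cases hc : 2 ≤ Z.card
  · rw [sum_eq_single_of_mem 2 (by rw [mem_range]; omega)]
    · simp [sec, zi]
    · intro i _ hi
      by_cases h3 : 3 ≤ i
      · rw [h2 i h3, zero_mul]
      · have : i.choose 2 = 0 := Nat.choose_eq_zero_of_lt (by omega)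
        rw [this, mul_zero]
  · rw [sum_eq_zero]
    · rw [card_eq_zero, eq_empty_iff_forall_notMem]
      intro l hl
      rw [mem_sec] at hl
      have := card_le_card (inter_subset_left (s₁ := Z) (s₂ := l))
      omega
    · intro i hi
      rw [mem_range] at hi
      rw [Nat.choose_eq_zero_of_lt (by omega), mul_zero]

/-- number of secants through a point -/
noncomputable def sx (L : Set (Finset α)) (Z : Finset α) (x : α) : ℕ :=
  ((sec L Z).filter (fun l => x ∈ l)).card

omit hα in
theorem sum_sx {Z : Finset α} (hZ : Arc L Z) : ∑ x : α, sx L Z x = 5 * Z.card.choose 2 := by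
  unfold sx
  have : ∀ x, ((sec L Z).filter (fun l => x ∈ l)).card = ∑ l ∈ sec L Z, if x ∈ l then 1 else 0 :=
    fun x => card_filter _ _
  simp_rw [this]
  rw [sum_comm]
  have h2 : ∀ l ∈ sec L Z, ∑ x : α, (if x ∈ l then 1 else 0) = 5 := by
    intro l hl
    rw [← card_filter]
    have := hL.1 l (mem_sec.1 hl).1
    rw [← this]
    congr 1
    ext x; simp
  rw [sum_congr rfl h2, sum_const, smul_eq_mul, card_sec hL hZ, mul_comm]

theorem sum_sx2 {Z : Finset α} (hZ : Arc L Z) :
    ∑ x : α, (sx L Z x).choose 2 = (Z.card.choose 2).choose 2 := by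
  unfold sx
  have h1 : ∀ x, ((sec L Z).filter (fun l => x ∈ l)).card.choose 2 =
      ∑ P ∈ powersetCard 2 (sec L Z), if ∀ l ∈ P, x ∈ l then 1 else 0 := by
    intro x
    rw [← card_filter, ← card_powersetCard]
    congr 1
    ext P
    rw [mem_powersetCard, mem_filter, mem_powersetCard]
    constructor
    · rintro ⟨h, h'⟩
      exact ⟨⟨fun l hl => (mem_filter.1 (h hl)).1, h'⟩, fun l hl => (mem_filter.1 (h hl)).2⟩
    · rintro ⟨⟨h, h'⟩, h''⟩
      exact ⟨fun l hl => mem_filter.2 ⟨h hl, h'' l hl⟩, h'⟩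
  simp_rw [h1]
  rw [sum_comm]
  have h2 : ∀ P ∈ powersetCard 2 (sec L Z), ∑ x : α, (if ∀ l ∈ P, x ∈ l then 1 else 0) = 1 := by
    intro P hP
    rw [mem_powersetCard, card_eq_two] at hP
    obtain ⟨hP, l, l', hne, rfl⟩ := hP
    have hl := (mem_sec.1 (hP (mem_insert_self _ _))).1
    have hl' := (mem_sec.1 (hP (mem_insert_of_mem (mem_singleton_self _)))).1
    rw [← card_filter, ← meet hα hL hl hl' hne]
    congr 1
    ext x
    simp
  rw [sum_congr rfl h2, sum_const, smul_eq_mul, mul_one, card_powersetCard, card_sec hL hZ]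

omit hα in
theorem sx_in {Z : Finset α} (hZ : Arc L Z) {x : α} (hx : x ∈ Z) : sx L Z x = Z.card - 1 := by
  have h1 := star hL (x := x) (Y := Z.erase x) (notMem_erase x Z)
  rw [card_erase_of_mem hx] at h1
  rw [← h1]
  unfold sx
  have h2 : (sec L Z).filter (fun l => x ∈ l) = (thr L {x}).filter (fun l => (Z ∩ l).card = 2) := by
    ext l
    rw [mem_filter, mem_filter, mem_sec, mem_thr, singleton_subset_iff]
    tauto
  rw [h2, card_filter]
  apply sum_congr rfl
  intro l hl
  rw [mem_thr, singleton_subset_iff] at hl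
  have h3 : Z.erase x ∩ l = (Z ∩ l).erase x := by
    ext y; simp only [mem_inter, mem_erase]; tauto
  have h4 : x ∈ Z ∩ l := mem_inter.2 ⟨hx, hl.2⟩
  rw [h3, card_erase_of_mem h4]
  have h5 := hZ l hl.1
  rw [inter_comm] at h5
  have h6 : 0 < (Z ∩ l).card := card_pos.2 ⟨x, h4⟩
  split_ifs with h7
  · omega
  · omega

omit hα in
theorem sx_out {Z : Finset α} {x : α} (hx : x ∉ Z) : 2 * sx L Z x ≤ Z.card := by
  have h1 := star hL (x := x) (Y := Z) hx
  rw [← h1]
  unfold sx
  have h2 : (sec L Z).filter (fun l => x ∈ l) = (thr L {x}).filter (fun l => (Z ∩ l).card = 2) := by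
    ext l
    rw [mem_filter, mem_filter, mem_sec, mem_thr, singleton_subset_iff]
    tauto
  rw [h2, card_filter, mul_sum]
  apply sum_le_sum
  intro l _
  split_ifs with h
  · omega
  · omega

omit hα in
theorem mem_unc_iff {Z : Finset α} (hZ : Arc L Z) {x : α} :
    x ∈ unc L Z ↔ x ∉ Z ∧ sx L Z x = 0 := by
  rw [mem_unc]
  constructor
  · rintro ⟨h1, h2⟩
    refine ⟨h1, ?_⟩
    unfold sx
    rw [card_eq_zero, filter_eq_empty_iff]
    intro l hl hxl
    rw [mem_sec] at hl
    have h3 := h2 l hl.1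
    have h4 : insert x (Z ∩ l) ⊆ l ∩ insert x Z := by
      intro y hy
      rw [mem_insert, mem_inter] at hy
      rw [mem_inter, mem_insert]
      rcases hy with rfl | hy
      · exact ⟨hxl, Or.inl rfl⟩
      · exact ⟨hy.2, Or.inr hy.1⟩
    have h5 := card_le_card h4
    rw [card_insert_of_notMem (fun h => h1 (mem_inter.1 h).1)] at h5
    omega
  · rintro ⟨h1, h2⟩
    refine ⟨h1, fun l hl => ?_⟩
    by_cases hxl : x ∈ l
    · have h3 : l ∩ insert x Z = insert x (Z ∩ l) := by
        ext y
        simp only [mem_inter, mem_insert]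
        constructor
        · rintro ⟨h4, rfl | h5⟩
          · exact Or.inl rfl
          · exact Or.inr ⟨h5, h4⟩
        · rintro (rfl | h5)
          · exact ⟨hxl, Or.inl rfl⟩
          · exact ⟨h5.2, Or.inr h5.1⟩
      rw [h3, card_insert_of_notMem (fun h => h1 (mem_inter.1 h).1)]
      unfold sx at h2
      rw [card_eq_zero, filter_eq_empty_iff] at h2
      have h4 := hZ l hl
      rw [inter_comm] at h4
      have h5 : (Z ∩ l).card ≠ 2 := fun h => h2 (mem_sec.2 ⟨hl, h⟩) hxl
      omega
    · have h3 : l ∩ insert x Z = l ∩ Z := by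
        ext y
        simp only [mem_inter, mem_insert]
        constructor
        · rintro ⟨h4, rfl | h5⟩
          · exact absurd h4 hxl
          · exact ⟨h4, h5⟩
        · tauto
      rw [h3]
      exact hZ l hl

/-- number of one-point extensions -/
theorem card_unc_eq {Z : Finset α} (hZ : Arc L Z) (h5 : Z.card ≤ 5) :
    (unc L Z).card + 5 * Z.card.choose 2 + Z.card * (Z.card - 1).choose 2 + Z.card =
      21 + (Z.card.choose 2).choose 2 + Z.card * (Z.card - 1) := by
  have h1 := sum_sx hL hZ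
  have h2 := sum_sx2 hα hL hZ
  rw [← sum_add_sum_compl Z] at h1 h2
  rw [sum_congr rfl (fun x hx => sx_in hL hZ hx), sum_const, smul_eq_mul] at h1
  rw [sum_congr rfl (fun x hx => by rw [sx_in hL hZ hx]), sum_const, smul_eq_mul] at h2
  have h3 : (unc L Z).card = ∑ x ∈ Zᶜ, if sx L Z x = 0 then 1 else 0 := by
    rw [← card_filter]
    congr 1
    ext x
    rw [mem_unc_iff hL hZ, mem_filter, mem_compl]
  have h4 : ∑ x ∈ Zᶜ, ((if sx L Z x = 0 then 1 else 0) + sx L Z x) =
      ∑ x ∈ Zᶜ, (1 + (sx L Z x).choose 2) := by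
    apply sum_congr rfl
    intro x hx
    rw [mem_compl] at hx
    have h6 := sx_out hL (Z := Z) hx
    have h7 : sx L Z x ≤ 2 := by omega
    interval_cases (sx L Z x) <;> simp
  rw [sum_add_distrib, sum_add_distrib, ← h3, sum_const, smul_eq_mul, mul_one] at h4
  have h8 : Zᶜ.card = 21 - Z.card := by rw [card_compl, hα]
  rw [h8] at h4
  omega

theorem card_unc0 {Z : Finset α} (hZ : Arc L Z) (h : Z.card = 0) : (unc L Z).card = 21 := by
  have := card_unc_eq hα hL hZ (by omega)
  rw [h] at this; norm_num [Nat.choose] at this; omega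
theorem card_unc1 {Z : Finset α} (hZ : Arc L Z) (h : Z.card = 1) : (unc L Z).card = 20 := by
  have := card_unc_eq hα hL hZ (by omega)
  rw [h] at this; norm_num [Nat.choose] at this; omega
theorem card_unc2 {Z : Finset α} (hZ : Arc L Z) (h : Z.card = 2) : (unc L Z).card = 16 := by
  have := card_unc_eq hα hL hZ (by omega)
  rw [h] at this; norm_num [Nat.choose] at this; omega
theorem card_unc3 {Z : Finset α} (hZ : Arc L Z) (h : Z.card = 3) : (unc L Z).card = 9 := by
  have := card_unc_eq hα hL hZ (by omega)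
  rw [h] at this; norm_num [Nat.choose] at this; omega
theorem card_unc4 {Z : Finset α} (hZ : Arc L Z) (h : Z.card = 4) : (unc L Z).card = 2 := by
  have := card_unc_eq hα hL hZ (by omega)
  rw [h] at this; norm_num [Nat.choose] at this; omega
theorem card_unc5 {Z : Finset α} (hZ : Arc L Z) (h : Z.card = 5) : (unc L Z).card = 1 := by
  have := card_unc_eq hα hL hZ (by omega)
  rw [h] at this; norm_num [Nat.choose] at this; omega

end

/-- arcs of size `k` containing `Y` -/
noncomputable def arcs (L : Set (Finset α)) (k : ℕ) (Y : Finset α) : Finset (Finset α) :=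
  @Finset.filter _ (fun Z => Z.card = k ∧ Arc L Z ∧ Y ⊆ Z) (Classical.decPred _) univ

theorem mem_arcs {k : ℕ} {Y Z : Finset α} : Z ∈ arcs L k Y ↔ Z.card = k ∧ Arc L Z ∧ Y ⊆ Z := by
  simp [arcs]

/-- double counting of extensions -/
theorem arcs_step {k c : ℕ} {Y : Finset α} (hY : Y.card ≤ k)
    (hc : ∀ Z, Arc L Z → Z.card = k → (unc L Z).card = c) :
    (arcs L (k + 1) Y).card * (k + 1 - Y.card) = (arcs L k Y).card * c := by
  have h1 : ∑ Z ∈ arcs L k Y, ((arcs L (k + 1) Y).filter (fun W => Z ⊆ W)).card =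
      ∑ W ∈ arcs L (k + 1) Y, ((arcs L k Y).filter (fun Z => Z ⊆ W)).card :=
    sum_card_bipartiteAbove_eq_sum_card_bipartiteBelow (fun (Z W : Finset α) => Z ⊆ W)
  have h2 : ∀ Z ∈ arcs L k Y, ((arcs L (k + 1) Y).filter (fun W => Z ⊆ W)).card = c := by
    intro Z hZ
    rw [mem_arcs] at hZ
    rw [← hc Z hZ.2.1 hZ.1]
    symm
    refine card_nbij (fun x => insert x Z) ?_ ?_ ?_
    · intro x hx
      simp only [mem_coe, mem_unc] at hx
      simp only [mem_coe, mem_filter, mem_arcs]
      exact ⟨⟨by rw [card_insert_of_notMem hx.1, hZ.1], hx.2, hZ.2.2.trans (subset_insert _ _)⟩,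
        subset_insert _ _⟩
    · intro x hx y hy h
      simp only [mem_coe, mem_unc] at hx hy
      have h3 : x ∈ insert y Z := by
        rw [← show insert x Z = insert y Z from h]
        exact mem_insert_self _ _
      rcases mem_insert.1 h3 with h4 | h4
      · exact h4
      · exact absurd h4 hx.1
    · intro W hW
      simp only [mem_coe, mem_filter, mem_arcs] at hW
      obtain ⟨⟨hW1, hW2, hW3⟩, hW4⟩ := hW
      have h4 : (W \ Z).card = 1 := by rw [card_sdiff_of_subset hW4, hW1, hZ.1]; omega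
      obtain ⟨x, hx⟩ := card_eq_one.1 h4
      have hxW : x ∈ W \ Z := by rw [hx]; exact mem_singleton_self _
      rw [mem_sdiff] at hxW
      have h5 : insert x Z = W := by
        apply eq_of_subset_of_card_le
        · exact insert_subset hxW.1 hW4
        · rw [card_insert_of_notMem hxW.2, hZ.1, hW1]
      refine ⟨x, ?_, h5⟩
      simp only [mem_coe, mem_unc]
      exact ⟨hxW.2, by rw [h5]; exact hW2⟩
  have h3 : ∀ W ∈ arcs L (k + 1) Y, ((arcs L k Y).filter (fun Z => Z ⊆ W)).card =
      k + 1 - Y.card := by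
    intro W hW
    rw [mem_arcs] at hW
    have h4 : (W \ Y).card = k + 1 - Y.card := by rw [card_sdiff_of_subset hW.2.2, hW.1]
    rw [← h4]
    symm
    refine card_nbij (fun x => W.erase x) ?_ ?_ ?_
    · intro x hx
      simp only [mem_coe, mem_sdiff] at hx
      simp only [mem_coe, mem_filter, mem_arcs]
      refine ⟨⟨?_, hW.2.1.mono (erase_subset _ _), ?_⟩, erase_subset _ _⟩
      · rw [card_erase_of_mem hx.1, hW.1]; rfl
      · intro y hy
        rw [mem_erase]
        exact ⟨fun h => hx.2 (h ▸ hy), hW.2.2 hy⟩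
    · intro x hx y hy h
      simp only [mem_coe, mem_sdiff] at hx hy
      by_contra hne
      have : x ∈ W.erase y := mem_erase.2 ⟨hne, hx.1⟩
      rw [← show W.erase x = W.erase y from h] at this
      exact absurd rfl (mem_erase.1 this).1
    · intro Z hZ
      simp only [mem_coe, mem_filter, mem_arcs] at hZ
      obtain ⟨⟨hZ1, hZ2, hZ3⟩, hZ4⟩ := hZ
      have h5 : (W \ Z).card = 1 := by rw [card_sdiff_of_subset hZ4, hW.1, hZ1]; omega
      obtain ⟨x, hx⟩ := card_eq_one.1 h5
      have hxW : x ∈ W \ Z := by rw [hx]; exact mem_singleton_self _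
      rw [mem_sdiff] at hxW
      refine ⟨x, ?_, ?_⟩
      · simp only [mem_coe, mem_sdiff]
        exact ⟨hxW.1, fun h => hxW.2 (hZ3 h)⟩
      · symm
        apply eq_of_subset_of_card_le
        · intro y hy
          rw [mem_erase]
          exact ⟨fun h => hxW.2 (h ▸ hy), hZ4 hy⟩
        · rw [card_erase_of_mem hxW.1, hW.1, hZ1]; rfl
  rw [sum_congr rfl h2, sum_const, smul_eq_mul, sum_congr rfl h3, sum_const, smul_eq_mul] at h1
  exact h1.symm

theorem arcs_self {Y : Finset α} (hY : Arc L Y) : (arcs L Y.card Y).card = 1 := by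
  rw [card_eq_one]
  refine ⟨Y, ?_⟩
  ext Z
  rw [mem_arcs, mem_singleton]
  constructor
  · rintro ⟨h1, _, h2⟩
    exact (eq_of_subset_of_card_le h2 (by omega)).symm
  · rintro rfl
    exact ⟨rfl, hY, subset_refl _⟩

section
variable (hα : Fintype.card α = 21) (hL : IsSteinerSystem 2 5 L)
include hα hL

omit hα in
theorem arc_small {Y : Finset α} (h : Y.card ≤ 2) : Arc L Y := by
  intro l _
  exact le_trans (card_le_card inter_subset_right) h

/-- number of hyperovals through small sets -/
theorem hyp0 : (arcs L 4 (∅ : Finset α)).card = 2520 ∧ (arcs L 6 (∅ : Finset α)).card = 168 := by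
  have h0 := arcs_self (L := L) (Y := (∅ : Finset α)) (arc_small hL (by simp))
  rw [card_empty] at h0
  have s0 := arcs_step (L := L) (Y := (∅ : Finset α)) (k := 0) (by simp) (fun Z h h' => card_unc0 hα hL h h')
  have s1 := arcs_step (L := L) (Y := (∅ : Finset α)) (k := 1) (by simp) (fun Z h h' => card_unc1 hα hL h h')
  have s2 := arcs_step (L := L) (Y := (∅ : Finset α)) (k := 2) (by simp) (fun Z h h' => card_unc2 hα hL h h')
  have s3 := arcs_step (L := L) (Y := (∅ : Finset α)) (k := 3) (by simp) (fun Z h h' => card_unc3 hα hL h h')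
  have s4 := arcs_step (L := L) (Y := (∅ : Finset α)) (k := 4) (by simp) (fun Z h h' => card_unc4 hα hL h h')
  have s5 := arcs_step (L := L) (Y := (∅ : Finset α)) (k := 5) (by simp) (fun Z h h' => card_unc5 hα hL h h')
  simp only [card_empty, Nat.sub_zero, Nat.reduceAdd] at s0 s1 s2 s3 s4 s5
  omega

theorem hyp1 {Y : Finset α} (hY : Y.card = 1) : (arcs L 6 Y).card = 48 := by
  have h0 := arcs_self (L := L) (Y := Y) (arc_small hL (by omega))
  rw [hY] at h0
  have s1 := arcs_step (L := L) (Y := Y) (k := 1) (by omega) (fun Z h h' => card_unc1 hα hL h h')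
  have s2 := arcs_step (L := L) (Y := Y) (k := 2) (by omega) (fun Z h h' => card_unc2 hα hL h h')
  have s3 := arcs_step (L := L) (Y := Y) (k := 3) (by omega) (fun Z h h' => card_unc3 hα hL h h')
  have s4 := arcs_step (L := L) (Y := Y) (k := 4) (by omega) (fun Z h h' => card_unc4 hα hL h h')
  have s5 := arcs_step (L := L) (Y := Y) (k := 5) (by omega) (fun Z h h' => card_unc5 hα hL h h')
  simp only [hY, Nat.reduceAdd, Nat.reduceSub] at s1 s2 s3 s4 s5
  omega

theorem hyp2 {Y : Finset α} (hY : Y.card = 2) : (arcs L 6 Y).card = 12 := by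
  have h0 := arcs_self (L := L) (Y := Y) (arc_small hL (by omega))
  rw [hY] at h0
  have s2 := arcs_step (L := L) (Y := Y) (k := 2) (by omega) (fun Z h h' => card_unc2 hα hL h h')
  have s3 := arcs_step (L := L) (Y := Y) (k := 3) (by omega) (fun Z h h' => card_unc3 hα hL h h')
  have s4 := arcs_step (L := L) (Y := Y) (k := 4) (by omega) (fun Z h h' => card_unc4 hα hL h h')
  have s5 := arcs_step (L := L) (Y := Y) (k := 5) (by omega) (fun Z h h' => card_unc5 hα hL h h')
  simp only [hY, Nat.reduceAdd, Nat.reduceSub] at s2 s3 s4 s5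
  omega

theorem hyp3 {Y : Finset α} (hY : Y.card = 3) (hA : Arc L Y) : (arcs L 6 Y).card = 3 := by
  have h0 := arcs_self (L := L) (Y := Y) hA
  rw [hY] at h0
  have s3 := arcs_step (L := L) (Y := Y) (k := 3) (by omega) (fun Z h h' => card_unc3 hα hL h h')
  have s4 := arcs_step (L := L) (Y := Y) (k := 4) (by omega) (fun Z h h' => card_unc4 hα hL h h')
  have s5 := arcs_step (L := L) (Y := Y) (k := 5) (by omega) (fun Z h h' => card_unc5 hα hL h h')
  simp only [hY, Nat.reduceAdd, Nat.reduceSub] at s3 s4 s5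
  omega

theorem hyp4 {Y : Finset α} (hY : Y.card = 4) (hA : Arc L Y) : (arcs L 6 Y).card = 1 := by
  have h0 := arcs_self (L := L) (Y := Y) hA
  rw [hY] at h0
  have s4 := arcs_step (L := L) (Y := Y) (k := 4) (by omega) (fun Z h h' => card_unc4 hα hL h h')
  have s5 := arcs_step (L := L) (Y := Y) (k := 5) (by omega) (fun Z h h' => card_unc5 hα hL h h')
  simp only [hY, Nat.reduceAdd, Nat.reduceSub] at s4 s5
  omega

end
end CfsgL.Plane
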