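import Cfsg.Agent.L.Plane4
import Cfsg.Agent.L.SetSys
/-!
A projective plane of order 4 is determined by a labelled hyperoval.
-/
set_option autoImplicit false
namespace CfsgL.Plane
open Cfsg Finset CfsgL.Steiner Pointwise

/-- labelled hyperoval -/
structure LH {α : Type*} [Fintype α] [DecidableEq α] (L : Set (Finset α)) (h : Fin 6 → α) : Prop where
  pts : Fintype.card α = 21
  st : IsSteinerSystem 2 5 L
  inj : Function.Injective h
  arc : Arc L (univ.image h)

namespace LH
variable {α : Type*} [Fintype α] [DecidableEq α] {L : Set (Finset α)} {h : Fin 6 → α}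

theorem cardH (H : LH L h) : (univ.image h).card = 6 := by
  rw [card_image_of_injective _ H.inj, card_univ, Fintype.card_fin]

theorem memH (i : Fin 6) : h i ∈ univ.image h := mem_image_of_mem _ (mem_univ i)

theorem notan (H : LH L h) {l : Finset α} (hl : l ∈ L) : (univ.image h ∩ l).card ≠ 1 := by
  have e1 := sum_zi (B := L) (univ.image h) 1 5 (fun s hs => l21_1 H.pts H.st s hs)
  have e2 := sum_zi (B := L) (univ.image h) 2 1 (fun s hs => l21_2 H.st s hs)
  have hz : ∀ i, 3 ≤ i → zi L (univ.image h) i = 0 := by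
    intro i hi
    unfold zi
    rw [card_eq_zero, filter_eq_empty_iff]
    intro l hl h'
    have := H.arc l (mem_bl.1 hl)
    rw [inter_comm] at this
    omega
  have z3 := hz 3 le_rfl
  have z4 := hz 4 (by norm_num)
  have z5 := hz 5 (by norm_num)
  have z6 := hz 6 (by norm_num)
  rw [H.cardH] at e1 e2
  simp only [sum_range_succ, sum_range_zero, Nat.zero_add, z3, z4, z5, z6] at e1 e2
  norm_num [Nat.choose] at e1 e2
  have z1 : zi L (univ.image h) 1 = 0 := by omega
  unfold zi at z1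
  rw [card_eq_zero, filter_eq_empty_iff] at z1
  exact z1 (mem_bl.2 hl)

/-- three labelled points are not collinear -/
theorem three (H : LH L h) {l : Finset α} (hl : l ∈ L) {i j k : Fin 6} (hi : h i ∈ l) (hj : h j ∈ l)
    (hk : h k ∈ l) (hij : i ≠ j) (hik : i ≠ k) (hjk : j ≠ k) : False := by
  have h1 := H.arc l hl
  have h2 : ({h i, h j, h k} : Finset α) ⊆ l ∩ univ.image h := by
    intro x hx
    simp only [mem_insert, mem_singleton] at hx
    rw [mem_inter]
    rcases hx with rfl | rfl | rfl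
    · exact ⟨hi, memH i⟩
    · exact ⟨hj, memH j⟩
    · exact ⟨hk, memH k⟩
  have h3 := card_le_card h2
  rw [card_eq_three.2 ⟨h i, h j, h k, H.inj.ne hij, H.inj.ne hik, H.inj.ne hjk, rfl⟩] at h3
  omega

/-- secant relation -/
def R (L : Set (Finset α)) (h : Fin 6 → α) (x : α) (i j : Fin 6) : Prop :=
  ∃ l ∈ L, x ∈ l ∧ h i ∈ l ∧ h j ∈ l

theorem R_symm {x : α} {i j : Fin 6} (hR : R L h x i j) : R L h x j i := by
  obtain ⟨l, hl, h1, h2, h3⟩ := hR
  exact ⟨l, hl, h1, h3, h2⟩

theorem ne_of_notMem {x : α} (hx : x ∉ univ.image h) (i : Fin 6) : x ≠ h i :=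
  fun e => hx (e ▸ memH i)

theorem partner (H : LH L h) {x : α} (hx : x ∉ univ.image h) (i : Fin 6) :
    ∃ j, j ≠ i ∧ R L h x i j := by
  obtain ⟨l, hl, hxl, hil⟩ := ex_line H.st (ne_of_notMem hx i)
  have h1 := H.notan hl
  have h2 := H.arc l hl
  rw [inter_comm] at h2
  have h3 : 0 < (univ.image h ∩ l).card := card_pos.2 ⟨h i, mem_inter.2 ⟨memH i, hil⟩⟩
  have h4 : 1 < (univ.image h ∩ l).card := by omega
  obtain ⟨y, hy, hne⟩ := exists_mem_ne h4 (h i)
  rw [mem_inter, mem_image] at hy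
  obtain ⟨⟨j, _, rfl⟩, hyl⟩ := hy
  exact ⟨j, fun e => hne (by rw [e]), l, hl, hxl, hil, hyl⟩

theorem partner_unique (H : LH L h) {x : α} (hx : x ∉ univ.image h) {i j j' : Fin 6}
    (hj : j ≠ i) (hj' : j' ≠ i) (hR : R L h x i j) (hR' : R L h x i j') : j = j' := by
  obtain ⟨l, hl, h1, h2, h3⟩ := hR
  obtain ⟨l', hl', h1', h2', h3'⟩ := hR'
  have e := line_unique H.st hl hl' (ne_of_notMem hx i) h1 h2 h1' h2'
  rw [← e] at h3'
  by_contra hne
  exact H.three hl h2 h3 h3' (Ne.symm hj) (Ne.symm hj') hne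

/-- the involution attached to an outside point -/
noncomputable def m (H : LH L h) (x : α) (i : Fin 6) : Fin 6 :=
  @dite _ (x ∉ univ.image h) (Classical.dec _) (fun hx => Classical.choose (H.partner hx i)) (fun _ => i)

theorem m_spec (H : LH L h) {x : α} (hx : x ∉ univ.image h) (i : Fin 6) :
    H.m x i ≠ i ∧ R L h x i (H.m x i) := by
  have := Classical.choose_spec (H.partner hx i)
  unfold m
  rw [dif_pos hx]
  exact this

theorem m_eq (H : LH L h) {x : α} (hx : x ∉ univ.image h) {i j : Fin 6} (hj : j ≠ i)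
    (hR : R L h x i j) : H.m x i = j :=
  H.partner_unique hx (H.m_spec hx i).1 hj (H.m_spec hx i).2 hR

theorem m_m (H : LH L h) {x : α} (hx : x ∉ univ.image h) (i : Fin 6) : H.m x (H.m x i) = i :=
  H.m_eq hx (Ne.symm (H.m_spec hx i).1) (R_symm (H.m_spec hx i).2)

/-- two outside points on two common secants coincide -/
theorem eq_of_two (H : LH L h) {x y : α} {i j k l : Fin 6} (hij : i ≠ j) (hkl : k ≠ l)
    (hik : i ≠ k) (hjk : j ≠ k) (h1 : R L h x i j) (h2 : R L h y i j) (h3 : R L h x k l)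
    (h4 : R L h y k l) : x = y := by
  obtain ⟨a, ha, xa, ia, ja⟩ := h1
  obtain ⟨a', ha', ya, ia', ja'⟩ := h2
  obtain ⟨b, hb, xb, kb, lb⟩ := h3
  obtain ⟨b', hb', yb, kb', lb'⟩ := h4
  have e1 := line_unique H.st ha ha' (H.inj.ne hij) ia ja ia' ja'
  have e2 := line_unique H.st hb hb' (H.inj.ne hkl) kb lb kb' lb'
  rw [← e1] at ya
  rw [← e2] at yb
  by_contra hne
  have e3 := line_unique H.st ha hb hne xa ya xb yb
  rw [← e3] at kb
  exact H.three ha ia ja kb hij hik hjk

theorem exists_other (a b : Fin 6) : ∃ k : Fin 6, a ≠ k ∧ b ≠ k := by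
  revert a b; decide

theorem m_inj (H : LH L h) {x y : α} (hx : x ∉ univ.image h) (hy : y ∉ univ.image h)
    (he : ∀ i, H.m x i = H.m y i) : x = y := by
  obtain ⟨k, hk1, hk2⟩ := exists_other 0 (H.m x 0)
  refine H.eq_of_two (i := 0) (j := H.m x 0) (k := k) (l := H.m x k) (Ne.symm (H.m_spec hx 0).1)
    (Ne.symm (H.m_spec hx k).1) hk1 hk2 (H.m_spec hx 0).2 ?_ (H.m_spec hx k).2 ?_
  · rw [he]; exact (H.m_spec hy 0).2
  · rw [he]; exact (H.m_spec hy k).2

/-- involutions agreeing on four points agree -/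
theorem invol_eq (u v : Fin 6 → Fin 6) (hu : ∀ i, u (u i) = i) (hv : ∀ i, v (v i) = i)
    (hu' : ∀ i, u i ≠ i) (hv' : ∀ i, v i ≠ i) (k : Fin 6) (hk : 0 ≠ k) (hk' : u 0 ≠ k)
    (h0 : u 0 = v 0) (h1 : u k = v k) : ∀ i, u i = v i := by
  have uinj : Function.Injective u := fun a b h => by rw [← hu a, h, hu]
  have vinj : Function.Injective v := fun a b h => by rw [← hv a, h, hv]
  have hU0 : u (u 0) = v (u 0) := by rw [hu, h0, hv]
  have hUk : u (u k) = v (u k) := by rw [hu, h1, hv]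
  intro i
  by_cases i0 : i = 0
  · rw [i0, h0]
  by_cases i1 : i = u 0
  · rw [i1, hU0]
  by_cases i2 : i = k
  · rw [i2, h1]
  by_cases i3 : i = u k
  · rw [i3, hUk]
  -- the remaining value
  have hS : ({0, u 0, k, u k, i} : Finset (Fin 6)).card = 5 := by
    have a1 : (0 : Fin 6) ≠ u 0 := Ne.symm (hu' 0)
    have a2 : (0 : Fin 6) ≠ u k := fun e => hk' (by
      have := congrArg u e
      rw [hu] at this
      exact this)
    have a3 : u 0 ≠ u k := fun e => hk (uinj e)
    have a4 : k ≠ u k := Ne.symm (hu' k)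
    rw [card_insert_of_notMem, card_insert_of_notMem, card_insert_of_notMem, card_insert_of_notMem,
      card_singleton]
    all_goals simp only [mem_insert, mem_singleton, not_or]
    · exact fun e => i3 e.symm
    · exact ⟨a4, fun e => i2 e.symm⟩
    · exact ⟨hk', a3, fun e => i1 e.symm⟩
    · exact ⟨a1, hk, a2, fun e => i0 e.symm⟩
  have hC : (({0, u 0, k, u k, i} : Finset (Fin 6))ᶜ).card = 1 := by
    rw [card_compl, hS]; rfl
  obtain ⟨w, hw⟩ := card_eq_one.1 hC
  have hu1 : u i ∈ (({0, u 0, k, u k, i} : Finset (Fin 6))ᶜ) := by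
    simp only [mem_compl, mem_insert, mem_singleton, not_or]
    refine ⟨?_, ?_, ?_, ?_, hu' i⟩
    · intro e
      apply i1
      rw [← hu i, e]
    · exact fun e => i0 (uinj e)
    · intro e
      apply i3
      rw [← hu i, e]
    · exact fun e => i2 (uinj e)
  have hv1 : v i ∈ (({0, u 0, k, u k, i} : Finset (Fin 6))ᶜ) := by
    simp only [mem_compl, mem_insert, mem_singleton, not_or]
    refine ⟨?_, ?_, ?_, ?_, hv' i⟩
    · intro e
      apply i1
      rw [← hv i, e, h0]
    · intro e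
      rw [h0] at e
      exact i0 (vinj e)
    · intro e
      apply i3
      rw [← hv i, e, h1]
    · intro e
      rw [h1] at e
      exact i2 (vinj e)
  rw [hw, mem_singleton] at hu1 hv1
  rw [hu1, hv1]

theorem m_surj (H : LH L h) (u : Fin 6 → Fin 6) (hu : ∀ i, u (u i) = i) (hu' : ∀ i, u i ≠ i) :
    ∃ x, x ∉ univ.image h ∧ ∀ i, H.m x i = u i := by
  obtain ⟨k, hk1, hk2⟩ := exists_other 0 (u 0)
  have uinj : Function.Injective u := fun a b h => by rw [← hu a, h, hu]
  obtain ⟨a, ha, a0, a1⟩ := ex_line H.st (H.inj.ne (Ne.symm (hu' 0)))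
  obtain ⟨b, hb, b0, b1⟩ := ex_line H.st (H.inj.ne (Ne.symm (hu' k)))
  have hab : a ≠ b := by
    rintro rfl
    exact H.three ha a0 a1 b0 (Ne.symm (hu' 0)) hk1 hk2
  have h1 := meet H.pts H.st ha hb hab
  obtain ⟨x, hx⟩ := card_eq_one.1 h1
  have hxab : x ∈ a ∩ b := by rw [hx]; exact mem_singleton_self _
  rw [mem_inter] at hxab
  have hxH : x ∉ univ.image h := by
    intro hxH
    rw [mem_image] at hxH
    obtain ⟨r, _, rfl⟩ := hxH
    have hr1 : r = 0 ∨ r = u 0 := by
      by_contra hc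
      push Not at hc
      exact H.three ha a0 a1 hxab.1 (Ne.symm (hu' 0)) (Ne.symm hc.1) (Ne.symm hc.2)
    have hr2 : r = k ∨ r = u k := by
      by_contra hc
      push Not at hc
      exact H.three hb b0 b1 hxab.2 (Ne.symm (hu' k)) (Ne.symm hc.1) (Ne.symm hc.2)
    rcases hr1 with h3 | h3 <;> rcases hr2 with h4 | h4
    · exact hk1 (h3 ▸ h4)
    · rw [h3] at h4
      apply hk2
      rw [h4, hu]
    · exact hk2 (h3 ▸ h4)
    · rw [h3] at h4
      exact hk1 (uinj h4)
  refine ⟨x, hxH, ?_⟩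
  have e0 : H.m x 0 = u 0 := H.m_eq hxH (hu' 0) ⟨a, ha, hxab.1, a0, a1⟩
  have ek : H.m x k = u k := H.m_eq hxH (hu' k) ⟨b, hb, hxab.2, b0, b1⟩
  exact invol_eq (H.m x) u (H.m_m hxH) hu (fun i => (H.m_spec hxH i).1) hu' k hk1
    (by rw [e0]; exact hk2) e0 ek

/-- three external lines through a point -/
theorem ext2 (H : LH L h) {y : α} (hy : y ∉ univ.image h) {a b c : Finset α} (ha : a ∈ L)
    (hb : b ∈ L) (hc : c ∈ L) (ya : y ∈ a) (yb : y ∈ b) (yc : y ∈ c)
    (ea : univ.image h ∩ a = ∅) (eb : univ.image h ∩ b = ∅) (ec : univ.image h ∩ c = ∅)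
    (hab : a ≠ b) (hac : a ≠ c) (hbc : b ≠ c) : False := by
  have h1 := star H.st (x := y) (Y := univ.image h) hy
  rw [H.cardH] at h1
  have h2 := l21_1 H.pts H.st {y} (card_singleton y)
  have hsub : ({a, b, c} : Finset (Finset α)) ⊆ thr L {y} := by
    intro l hl
    simp only [mem_insert, mem_singleton] at hl
    rw [mem_thr, singleton_subset_iff]
    rcases hl with rfl | rfl | rfl
    · exact ⟨ha, ya⟩
    · exact ⟨hb, yb⟩
    · exact ⟨hc, yc⟩
  have hcard : ({a, b, c} : Finset (Finset α)).card = 3 :=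
    card_eq_three.2 ⟨a, b, c, hab, hac, hbc, rfl⟩
  have h3 : (thr L {y} \ {a, b, c}).card = 2 := by
    rw [card_sdiff_of_subset hsub, h2, hcard]
  rw [← sum_sdiff hsub] at h1
  have h4 : ∑ l ∈ ({a, b, c} : Finset (Finset α)), (univ.image h ∩ l).card = 0 := by
    apply sum_eq_zero
    intro l hl
    simp only [mem_insert, mem_singleton] at hl
    rcases hl with rfl | rfl | rfl
    · rw [ea]; rfl
    · rw [eb]; rfl
    · rw [ec]; rfl
  have h5 : ∑ l ∈ thr L {y} \ {a, b, c}, (univ.image h ∩ l).card ≤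
      ∑ l ∈ thr L {y} \ {a, b, c}, 2 := by
    apply sum_le_sum
    intro l hl
    rw [mem_sdiff, mem_thr] at hl
    have := H.arc l hl.1.1
    rwa [inter_comm] at this
  rw [sum_const, h3, smul_eq_mul] at h5
  omega

/-- points pairwise joined by external lines are collinear, if there are at least four -/
theorem collinear (H : LH L h) {Z : Finset α} (hZ : 4 ≤ Z.card) (hout : ∀ x ∈ Z, x ∉ univ.image h)
    (hd : ∀ x ∈ Z, ∀ y ∈ Z, x ≠ y → ∀ l ∈ L, x ∈ l → y ∈ l → univ.image h ∩ l = ∅) :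
    ∃ l ∈ L, Z ⊆ l := by
  obtain ⟨y1, h1, y2, h2, h12⟩ := one_lt_card.1 (show 1 < Z.card by omega)
  obtain ⟨a, ha, a1, a2⟩ := ex_line H.st h12
  refine ⟨a, ha, fun y3 h3 => ?_⟩
  by_contra hy3
  have h13 : y1 ≠ y3 := fun e => hy3 (e ▸ a1)
  have h23 : y2 ≠ y3 := fun e => hy3 (e ▸ a2)
  have hcard : ({y1, y2, y3} : Finset α).card = 3 := card_eq_three.2 ⟨_, _, _, h12, h13, h23, rfl⟩
  obtain ⟨y4, h4⟩ : (Z \ {y1, y2, y3}).Nonempty := by
    rw [← card_pos]
    have := le_card_sdiff {y1, y2, y3} Z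
    omega
  simp only [mem_sdiff, mem_insert, mem_singleton, not_or] at h4
  obtain ⟨h4, h41, h42, h43⟩ := h4
  obtain ⟨b, hb, b1, b3⟩ := ex_line H.st h13
  obtain ⟨c, hc, c2, c3⟩ := ex_line H.st h23
  have hab : a ≠ b := fun e => hy3 (e ▸ b3)
  have hac : a ≠ c := fun e => hy3 (e ▸ c3)
  have hbc : b ≠ c := by
    rintro rfl
    exact hab (line_unique H.st ha hb h12 a1 a2 b1 c2)
  have ea := hd y1 h1 y2 h2 h12 a ha a1 a2
  have eb := hd y1 h1 y3 h3 h13 b hb b1 b3
  have ec := hd y2 h2 y3 h3 h23 c hc c2 c3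
  -- y4 lies on a or b
  have k1 : y4 ∈ a ∨ y4 ∈ b := by
    obtain ⟨d, hd', d1, d4⟩ := ex_line H.st (Ne.symm h41)
    have ed := hd y1 h1 y4 h4 (Ne.symm h41) d hd' d1 d4
    by_contra hcon
    push Not at hcon
    exact H.ext2 (hout y1 h1) ha hb hd' a1 b1 d1 ea eb ed hab (fun e => hcon.1 (e ▸ d4))
      (fun e => hcon.2 (e ▸ d4))
  have k2 : y4 ∈ a ∨ y4 ∈ c := by
    obtain ⟨d, hd', d1, d4⟩ := ex_line H.st (Ne.symm h42)
    have ed := hd y2 h2 y4 h4 (Ne.symm h42) d hd' d1 d4
    by_contra hcon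
    push Not at hcon
    exact H.ext2 (hout y2 h2) ha hc hd' a2 c2 d1 ea ec ed hac (fun e => hcon.1 (e ▸ d4))
      (fun e => hcon.2 (e ▸ d4))
  have k3 : y4 ∈ b ∨ y4 ∈ c := by
    obtain ⟨d, hd', d1, d4⟩ := ex_line H.st (Ne.symm h43)
    have ed := hd y3 h3 y4 h4 (Ne.symm h43) d hd' d1 d4
    by_contra hcon
    push Not at hcon
    exact H.ext2 (hout y3 h3) hb hc hd' b3 c3 d1 eb ec ed hbc (fun e => hcon.1 (e ▸ d4))
      (fun e => hcon.2 (e ▸ d4))
  have hAB : ¬ (y4 ∈ a ∧ y4 ∈ b) := fun hh =>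
    hab (line_unique H.st ha hb h41 hh.1 a1 hh.2 b1)
  have hAC : ¬ (y4 ∈ a ∧ y4 ∈ c) := fun hh =>
    hac (line_unique H.st ha hc h42 hh.1 a2 hh.2 c2)
  have hBC : ¬ (y4 ∈ b ∧ y4 ∈ c) := fun hh =>
    hbc (line_unique H.st hb hc h43 hh.1 b3 hh.2 c3)
  tauto

end LH

section iso
variable {α β : Type*} [Fintype α] [DecidableEq α] [Fintype β] [DecidableEq β]
  {L : Set (Finset α)} {h : Fin 6 → α} {L' : Set (Finset β)} {h' : Fin 6 → β}

theorem LH.map_lines (H : LH L h) (H' : LH L' h') (e : α ≃ β) (e0 : ∀ i, e (h i) = h' i)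
    (e1 : ∀ x, x ∉ univ.image h → ∀ i, H'.m (e x) i = H.m x i) (s : Finset α) (hs : s ∈ L) :
    s.map e.toEmbedding ∈ L' := by
  have eout : ∀ x, x ∉ univ.image h → e x ∉ univ.image h' := by
    intro x hx hx'
    rw [mem_image] at hx'
    obtain ⟨i, _, hi⟩ := hx'
    rw [← e0] at hi
    exact hx (e.injective hi ▸ LH.memH i)
  suffices hsub : ∃ l ∈ L', s.map e.toEmbedding ⊆ l by
    obtain ⟨l, hl, hsl⟩ := hsub
    have : s.map e.toEmbedding = l := by
      apply eq_of_subset_of_card_le hsl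
      rw [card_map, H.st.1 s hs, H'.st.1 l hl]
    rw [this]; exact hl
  by_cases hE : univ.image h ∩ s = ∅
  · apply H'.collinear
    · rw [card_map, H.st.1 s hs]; norm_num
    · intro y hy
      rw [mem_map_equiv] at hy
      have : e.symm y ∉ univ.image h := by
        intro hh
        have : e.symm y ∈ univ.image h ∩ s := mem_inter.2 ⟨hh, hy⟩
        rw [hE] at this
        exact absurd this (notMem_empty _)
      have h2 := eout _ this
      rwa [Equiv.apply_symm_apply] at h2
    · intro y hy z hz hyz l hl hyl hzl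
      rw [mem_map_equiv] at hy hz
      have hy' : e.symm y ∉ univ.image h := by
        intro hh
        have : e.symm y ∈ univ.image h ∩ s := mem_inter.2 ⟨hh, hy⟩
        rw [hE] at this
        exact absurd this (notMem_empty _)
      have hz' : e.symm z ∉ univ.image h := by
        intro hh
        have : e.symm z ∈ univ.image h ∩ s := mem_inter.2 ⟨hh, hz⟩
        rw [hE] at this
        exact absurd this (notMem_empty _)
      have hyo := eout _ hy'
      have hzo := eout _ hz'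
      rw [Equiv.apply_symm_apply] at hyo hzo
      rw [eq_empty_iff_forall_notMem]
      intro w hw
      rw [mem_inter, mem_image] at hw
      obtain ⟨⟨i, _, rfl⟩, hwl⟩ := hw
      -- the partner of i on l
      have h1 := H'.notan hl
      have h3 : 0 < (univ.image h' ∩ l).card := card_pos.2 ⟨h' i, mem_inter.2 ⟨LH.memH i, hwl⟩⟩
      have h4 : 1 < (univ.image h' ∩ l).card := by omega
      obtain ⟨v, hv, hne⟩ := exists_mem_ne h4 (h' i)
      rw [mem_inter, mem_image] at hv
      obtain ⟨⟨j, _, rfl⟩, hvl⟩ := hv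
      have hji : j ≠ i := fun e => hne (by rw [e])
      have my := H'.m_eq hyo hji ⟨l, hl, hyl, hwl, hvl⟩
      have mz := H'.m_eq hzo hji ⟨l, hl, hzl, hwl, hvl⟩
      have my' := e1 _ hy' i
      have mz' := e1 _ hz' i
      rw [Equiv.apply_symm_apply, my] at my'
      rw [Equiv.apply_symm_apply, mz] at mz'
      obtain ⟨_, a, ha, a1, a2, a3⟩ := H.m_spec hy' i
      obtain ⟨_, b, hb, b1, b2, b3⟩ := H.m_spec hz' i
      rw [← my'] at a3
      rw [← mz'] at b3
      have e3 := line_unique H.st ha hb (H.inj.ne (Ne.symm hji)) a2 a3 b2 b3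
      rw [← e3] at b1
      have hne2 : e.symm y ≠ e.symm z := fun hh => hyz (e.symm.injective hh)
      have e4 := line_unique H.st ha hs hne2 a1 b1 hy hz
      rw [e4] at a2
      have : h i ∈ univ.image h ∩ s := mem_inter.2 ⟨LH.memH i, a2⟩
      rw [hE] at this
      exact absurd this (notMem_empty _)
  · obtain ⟨w, hw⟩ := nonempty_iff_ne_empty.2 hE
    have hw' := hw
    rw [mem_inter, mem_image] at hw
    obtain ⟨⟨i, _, rfl⟩, his⟩ := hw
    have h1 := H.notan hs
    have h3 : 0 < (univ.image h ∩ s).card := card_pos.2 ⟨h i, hw'⟩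
    have h4 : 1 < (univ.image h ∩ s).card := by omega
    obtain ⟨v, hv, hne⟩ := exists_mem_ne h4 (h i)
    rw [mem_inter, mem_image] at hv
    obtain ⟨⟨j, _, rfl⟩, hjs⟩ := hv
    have hji : j ≠ i := fun e => hne (by rw [e])
    obtain ⟨l, hl, il, jl⟩ := ex_line H'.st (H'.inj.ne (Ne.symm hji))
    refine ⟨l, hl, fun y hy => ?_⟩
    rw [mem_map_equiv] at hy
    by_cases hyH : e.symm y ∈ univ.image h
    · rw [mem_image] at hyH
      obtain ⟨k, _, hk⟩ := hyH
      have hy2 : y = h' k := by rw [← e0, hk, Equiv.apply_symm_apply]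
      have : k = i ∨ k = j := by
        by_contra hc
        push Not at hc
        rw [← hk] at hy
        exact H.three hs his hjs hy (Ne.symm hji) (Ne.symm hc.1) (Ne.symm hc.2)
      rcases this with rfl | rfl
      · rw [hy2]; exact il
      · rw [hy2]; exact jl
    · have h5 := H.m_eq hyH hji ⟨s, hs, hy, his, hjs⟩
      have h6 := e1 _ hyH i
      rw [Equiv.apply_symm_apply, h5] at h6
      have hyo := eout _ hyH
      rw [Equiv.apply_symm_apply] at hyo
      obtain ⟨_, a, ha, a1, a2, a3⟩ := H'.m_spec hyo i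
      rw [h6] at a3
      have := line_unique H'.st hl ha (H'.inj.ne (Ne.symm hji)) il jl a2 a3
      rw [this]; exact a1

/-- planes with labelled hyperovals are uniquely isomorphic -/
theorem hyp_iso (H : LH L h) (H' : LH L' h') :
    ∃ e : α ≃ β, (∀ s, s ∈ L ↔ s.map e.toEmbedding ∈ L') ∧ ∀ i, e (h i) = h' i := by
  classical
  have ex : ∀ x : α, ∃ y : β, (∀ i, x = h i → y = h' i) ∧
      (x ∉ univ.image h → y ∉ univ.image h' ∧ ∀ i, H'.m y i = H.m x i) := by
    intro x
    by_cases hx : x ∈ univ.image h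
    · rw [mem_image] at hx
      obtain ⟨i, _, rfl⟩ := hx
      refine ⟨h' i, fun j hj => by rw [H.inj hj], fun hc => absurd (LH.memH i) hc⟩
    · obtain ⟨y, hy, hy'⟩ := H'.m_surj (H.m x) (H.m_m hx) (fun i => (H.m_spec hx i).1)
      exact ⟨y, fun i hi => absurd (hi ▸ LH.memH i) hx, fun _ => ⟨hy, hy'⟩⟩
  choose f hf hf' using ex
  have finj : Function.Injective f := by
    intro x y hxy
    by_cases hx : x ∈ univ.image h
    · rw [mem_image] at hx
      obtain ⟨i, _, rfl⟩ := hx
      by_cases hy : y ∈ univ.image h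
      · rw [mem_image] at hy
        obtain ⟨j, _, rfl⟩ := hy
        rw [hf _ i rfl, hf _ j rfl] at hxy
        rw [H'.inj hxy]
      · exfalso
        apply (hf' y hy).1
        rw [← hxy, hf _ i rfl]
        exact LH.memH i
    · by_cases hy : y ∈ univ.image h
      · rw [mem_image] at hy
        obtain ⟨j, _, rfl⟩ := hy
        exfalso
        apply (hf' x hx).1
        rw [hxy, hf _ j rfl]
        exact LH.memH j
      · apply H.m_inj hx hy
        intro i
        rw [← (hf' x hx).2, ← (hf' y hy).2, hxy]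
  have fbij : Function.Bijective f := by
    rw [Fintype.bijective_iff_injective_and_card]
    exact ⟨finj, H.pts.trans H'.pts.symm⟩
  set e := Equiv.ofBijective f fbij with he
  have e0 : ∀ i, e (h i) = h' i := fun i => hf _ i rfl
  have hmap := H.map_lines H' e e0 (fun x hx i => (hf' x hx).2 i)
  have hcard : (bl L).card = (bl L').card := by
    have h1 := l21_0 H.pts H.st ∅ rfl
    have h2 := l21_0 H'.pts H'.st ∅ rfl
    have e1 : thr L ∅ = bl L := by ext; simp [mem_thr]
    have e2 : thr L' ∅ = bl L' := by ext; simp [mem_thr]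
    rw [← e1, ← e2, h1, h2]
  have himg : (bl L).image (fun s => s.map e.toEmbedding) = bl L' := by
    apply eq_of_subset_of_card_le
    · intro t ht
      rw [mem_image] at ht
      obtain ⟨s, hs, rfl⟩ := ht
      exact mem_bl.2 (hmap s (mem_bl.1 hs))
    · rw [card_image_of_injective _ (map_injective _), hcard]
  refine ⟨e, fun s => ⟨hmap s, fun hs => ?_⟩, e0⟩
  rw [← mem_bl, ← himg, mem_image] at hs
  obtain ⟨t, ht, hts⟩ := hs
  rw [← map_injective _ hts]
  exact mem_bl.1 ht

/-- an automorphism fixing a hyperoval pointwise is trivial -/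
theorem LH.rigid (H : LH L h) {g : Equiv.Perm α} (hg : g ∈ setSystemAut L) (hfix : ∀ i, g (h i) = h i) :
    g = 1 := by
  rw [CfsgL.SS.mem_aut] at hg
  ext1 x
  by_cases hx : x ∈ univ.image h
  · rw [mem_image] at hx
    obtain ⟨i, _, rfl⟩ := hx
    exact hfix i
  · have hgx : g x ∉ univ.image h := by
      intro hc
      rw [mem_image] at hc
      obtain ⟨i, _, hi⟩ := hc
      rw [← hfix i] at hi
      exact hx (g.injective hi ▸ LH.memH i)
    apply H.m_inj hgx hx
    intro i
    obtain ⟨h1, l, hl, h2, h3, h4⟩ := H.m_spec hx i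
    apply H.m_eq hgx h1
    refine ⟨g • l, (hg l).2 hl, smul_mem_smul_finset h2, ?_, ?_⟩
    · have := smul_mem_smul_finset (a := g) h3
      rwa [Equiv.Perm.smul_def, hfix] at this
    · have := smul_mem_smul_finset (a := g) h4
      rwa [Equiv.Perm.smul_def, hfix] at this

/-- labellings of a hyperoval -/
theorem exists_label (hα : Fintype.card α = 21) (hL : IsSteinerSystem 2 5 L) {S : Finset α}
    (hS : S.card = 6) (hA : Arc L S) : ∃ h : Fin 6 → α, LH L h ∧ univ.image h = S := by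
  have e : Fin 6 ≃ S := (Fintype.equivFinOfCardEq (by rw [Fintype.card_coe, hS])).symm
  have h1 : univ.image (fun i => (e i).1) = S := by
    ext x
    rw [mem_image]
    constructor
    · rintro ⟨i, _, rfl⟩
      exact (e i).2
    · intro hx
      exact ⟨e.symm ⟨x, hx⟩, mem_univ _, by simp⟩
  refine ⟨fun i => (e i).1, ⟨hα, hL, ?_, by rw [h1]; exact hA⟩, h1⟩
  intro i j hij
  exact e.injective (Subtype.ext hij)

theorem exists_hyp (hα : Fintype.card α = 21) (hL : IsSteinerSystem 2 5 L) :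
    ∃ h : Fin 6 → α, LH L h := by
  have h1 := (hyp0 hα hL).2
  have h2 : (arcs L 6 (∅ : Finset α)).Nonempty := by rw [← card_pos, h1]; norm_num
  obtain ⟨S, hS⟩ := h2
  rw [mem_arcs] at hS
  obtain ⟨h, hh, _⟩ := exists_label hα hL hS.1 hS.2.1
  exact ⟨h, hh⟩

end iso
end CfsgL.Plane
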