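import Cfsg.Agent.L.Plane4b
/-!
The Steiner system `S(3,6,22)`.
-/
set_option autoImplicit false
namespace CfsgL.S22
open Cfsg Finset CfsgL.Steiner Pointwise CfsgL.Plane CfsgL.SS

section even
variable {α : Type*} [Fintype α] [DecidableEq α] {L : Set (Finset α)}

/-- hyperovals meeting a given one evenly -/
theorem even56 (hα : Fintype.card α = 21) (hL : IsSteinerSystem 2 5 L) {H : Finset α}
    (hH : H.card = 6) (hA : Arc L H) :
    ((arcs L 6 ∅).filter (fun K => Even (H ∩ K).card)).card = 56 := by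
  set n : ℕ → ℕ := fun i => ((arcs L 6 (∅ : Finset α)).filter (fun K => (H ∩ K).card = i)).card with hn
  have key : ∀ j l, (∀ Y, Y ⊆ H → Y.card = j → (arcs L 6 Y).card = l) →
      ∑ i ∈ range 7, n i * i.choose j = Nat.choose 6 j * l := by
    intro j l hl
    have h1 := sum_choose_inter (arcs L 6 (∅ : Finset α)) H j
    have h2 : ∑ s ∈ powersetCard j H, ((arcs L 6 (∅ : Finset α)).filter (fun c => s ⊆ c)).card =
        Nat.choose 6 j * l := by
      rw [sum_congr rfl (g := fun _ => l), sum_const, card_powersetCard, smul_eq_mul, hH]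
      intro s hs
      rw [mem_powersetCard] at hs
      rw [← hl s hs.1 hs.2]
      congr 1
      ext c
      simp only [mem_filter, mem_arcs, empty_subset, and_true]
      tauto
    rw [← h2, ← h1]
    have h3 : ∀ c ∈ arcs L 6 (∅ : Finset α), (H ∩ c).card ∈ range 7 := by
      intro c _
      rw [mem_range]
      have := card_le_card (inter_subset_left (s₁ := H) (s₂ := c))
      omega
    rw [← sum_fiberwise_of_maps_to h3]
    apply sum_congr rfl
    intro i _
    have : ∀ c ∈ (arcs L 6 (∅ : Finset α)).filter (fun c => (H ∩ c).card = i),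
        (H ∩ c).card.choose j = i.choose j := by
      intro c hc
      rw [mem_filter] at hc
      rw [hc.2]
    rw [sum_congr rfl this, sum_const, smul_eq_mul]
  have e0 := key 0 168 (fun Y _ hY => by rw [card_eq_zero.1 hY]; exact (hyp0 hα hL).2)
  have e1 := key 1 48 (fun Y _ hY => hyp1 hα hL hY)
  have e2 := key 2 12 (fun Y _ hY => hyp2 hα hL hY)
  have e3 := key 3 3 (fun Y hY' hY => hyp3 hα hL hY (hA.mono hY'))
  have e4 := key 4 1 (fun Y hY' hY => hyp4 hα hL hY (hA.mono hY'))
  have e5 := key 5 1 (fun Y hY' hY => by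
    have h0 := arcs_self (L := L) (Y := Y) (hA.mono hY')
    rw [hY] at h0
    have s5 := arcs_step (L := L) (Y := Y) (k := 5) (by omega) (fun Z h h' => card_unc5 hα hL h h')
    simp only [hY, Nat.reduceAdd, Nat.reduceSub] at s5
    omega)
  have e6 := key 6 1 (fun Y hY' hY => by
    have h0 := arcs_self (L := L) (Y := Y) (hA.mono hY')
    rw [hY] at h0
    exact h0)
  simp only [sum_range_succ, sum_range_zero, Nat.zero_add] at e0 e1 e2 e3 e4 e5 e6
  norm_num [Nat.choose] at e0 e1 e2 e3 e4 e5 e6
  have h7 : (arcs L 6 (∅ : Finset α)).filter (fun K => Even (H ∩ K).card) =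
      ((((arcs L 6 (∅ : Finset α)).filter (fun K => (H ∩ K).card = 0)) ∪
      ((arcs L 6 (∅ : Finset α)).filter (fun K => (H ∩ K).card = 2))) ∪
      ((arcs L 6 (∅ : Finset α)).filter (fun K => (H ∩ K).card = 4))) ∪
      ((arcs L 6 (∅ : Finset α)).filter (fun K => (H ∩ K).card = 6)) := by
    ext K
    simp only [mem_filter, mem_union]
    have : (H ∩ K).card ≤ 6 := by rw [← hH]; exact card_le_card inter_subset_left
    constructor
    · rintro ⟨h1, h2⟩
      rw [Nat.even_iff] at h2
      have : (H ∩ K).card = 0 ∨ (H ∩ K).card = 2 ∨ (H ∩ K).card = 4 ∨ (H ∩ K).card = 6 := by omega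
      tauto
    · rintro (((⟨h1, h2⟩ | ⟨h1, h2⟩) | ⟨h1, h2⟩) | ⟨h1, h2⟩) <;>
      exact ⟨h1, by rw [h2]; decide⟩
  rw [h7, card_union_of_disjoint, card_union_of_disjoint, card_union_of_disjoint]
  · change n 0 + n 2 + n 4 + n 6 = 56
    omega
  all_goals
    rw [disjoint_left]
    intro K hK hK'
    simp only [mem_filter, mem_union] at hK hK'
    omega

end even

variable {α β : Type*} [Fintype α] [DecidableEq α] [Fintype β] [DecidableEq β]

/-- derived lines -/
def dl (B : Set (Finset α)) (p : α) : Set (Finset {a : α // a ≠ p}) :=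
  {b' | ∃ b ∈ B, p ∈ b ∧ b' = Finset.subtype (fun a => a ≠ p) b}

theorem card_ne (hα : Fintype.card α = 22) (p : α) : Fintype.card {a : α // a ≠ p} = 21 := by
  rw [Fintype.card_subtype_compl, Fintype.card_subtype_eq, hα]

theorem card_sub_inter (p : α) (b c : Finset α) :
    (Finset.subtype (fun a => a ≠ p) b ∩ Finset.subtype (fun a => a ≠ p) c).card =
      ((b ∩ c).erase p).card := by
  rw [← card_map (Function.Embedding.subtype _)]
  congr 1
  ext x
  rw [mem_map, mem_erase, mem_inter]
  constructor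
  · rintro ⟨⟨y, hy⟩, h1, rfl⟩
    rw [mem_inter, mem_subtype, mem_subtype] at h1
    exact ⟨hy, h1⟩
  · rintro ⟨h1, h2⟩
    refine ⟨⟨x, h1⟩, ?_, rfl⟩
    rw [mem_inter, mem_subtype, mem_subtype]
    exact h2

theorem card_sub_eq (p : α) (b : Finset α) :
    (Finset.subtype (fun a => a ≠ p) b).card = (b.erase p).card := by
  have := card_sub_inter p b b
  rwa [inter_self, inter_self] at this

theorem sub_inj {p : α} {b c : Finset α} (h : p ∈ b ↔ p ∈ c)
    (he : Finset.subtype (fun a => a ≠ p) b = Finset.subtype (fun a => a ≠ p) c) : b = c := by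
  ext x
  by_cases hx : x = p
  · rw [hx]; exact h
  · have := Finset.ext_iff.1 he ⟨x, hx⟩
    simpa using this

section
variable {B : Set (Finset α)} (hα : Fintype.card α = 22) (hB : IsSteinerSystem 3 6 B)
include hα hB

theorem hyp_of_block {p : α} {b : Finset α} (hb : b ∈ B) (hp : p ∉ b) :
    (Finset.subtype (fun a => a ≠ p) b).card = 6 ∧ Arc (dl B p) (Finset.subtype (fun a => a ≠ p) b) := by
  refine ⟨by rw [card_sub_eq, erase_eq_of_notMem hp, hB.1 b hb], ?_⟩
  rintro _ ⟨c, hc, hpc, rfl⟩
  rw [card_sub_inter]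
  have hne : c ≠ b := fun e => hp (e ▸ hpc)
  have h1 := inter22 hα hB hc hb hne
  have h2 := card_erase_le (s := c ∩ b) (a := p)
  omega

/-- the hyperovals of the derived plane coming from blocks -/
noncomputable def hyps (B : Set (Finset α)) (p : α) : Finset (Finset {a : α // a ≠ p}) :=
  ((bl B).filter (fun b => p ∉ b)).image (Finset.subtype (fun a => a ≠ p))

omit hα hB in
theorem mem_hyps {p : α} {s : Finset {a : α // a ≠ p}} :
    s ∈ hyps B p ↔ ∃ b ∈ B, p ∉ b ∧ Finset.subtype (fun a => a ≠ p) b = s := by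
  unfold hyps
  simp only [mem_image, mem_filter, mem_bl]
  constructor
  · rintro ⟨b, ⟨h1, h2⟩, h3⟩
    exact ⟨b, h1, h2, h3⟩
  · rintro ⟨b, h1, h2, h3⟩
    exact ⟨b, ⟨h1, h2⟩, h3⟩

theorem card_off (p : α) : ((bl B).filter (fun b => p ∉ b)).card = 56 := by
  have h0 := l22_0 hα hB ∅ rfl
  have h1 := l22_1 hα hB {p} (card_singleton p)
  have e0 : thr B ∅ = bl B := by ext; simp [mem_thr]
  have e1 : thr B {p} = (bl B).filter (fun b => p ∈ b) := by
    ext b; rw [mem_thr, mem_filter, mem_bl, singleton_subset_iff]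
  rw [e0] at h0
  rw [e1] at h1
  have h2 := card_filter_add_card_filter_not (s := bl B) (fun b => p ∈ b)
  omega

theorem card_hyps (p : α) : (hyps B p).card = 56 := by
  unfold hyps
  rw [card_image_of_injOn, card_off hα hB]
  intro b hb c hc he
  simp only [coe_filter, Set.mem_ofPred_eq, mem_bl] at hb hc
  exact sub_inj (by tauto) he

/-- the blocks off `p` are the hyperovals meeting a given one evenly -/
theorem hyps_eq {p : α} {b : Finset α} (hb : b ∈ B) (hp : p ∉ b) :
    hyps B p = (arcs (dl B p) 6 ∅).filter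
      (fun K => Even (Finset.subtype (fun a => a ≠ p) b ∩ K).card) := by
  have hd : IsSteinerSystem 2 5 (dl B p) := derived hB p
  have h1 := hyp_of_block hα hB hb hp
  apply eq_of_subset_of_card_le
  · intro s hs
    rw [mem_hyps] at hs
    obtain ⟨c, hc, hpc, rfl⟩ := hs
    rw [mem_filter, mem_arcs]
    have h2 := hyp_of_block hα hB hc hpc
    refine ⟨⟨h2.1, h2.2, empty_subset _⟩, ?_⟩
    rw [card_sub_inter, erase_eq_of_notMem (fun h => hp (mem_inter.1 h).1)]
    by_cases hbc : b = c
    · rw [hbc, inter_self, hB.1 c hc]; decide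
    · rcases inter22 hα hB hb hc hbc with h | h <;> rw [h] <;> decide
  · rw [card_hyps hα hB, even56 (card_ne hα p) hd h1.1 h1.2]

end

/-- extension of a bijection of complements -/
theorem exists_extend {p : α} {q : β} (e : {a : α // a ≠ p} ≃ {b : β // b ≠ q}) :
    ∃ E : α ≃ β, E p = q ∧ ∀ a : {a : α // a ≠ p}, E a.1 = (e a).1 := by
  refine ⟨⟨fun x => if h : x = p then q else (e ⟨x, h⟩).1,
    fun y => if h : y = q then p else (e.symm ⟨y, h⟩).1, ?_, ?_⟩, ?_, ?_⟩
  · intro x
    by_cases h : x = p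
    · simp [h]
    · simp only [dif_neg h, dif_neg (e ⟨x, h⟩).2]
      simp
  · intro y
    by_cases h : y = q
    · simp [h]
    · simp only [dif_neg h, dif_neg (e.symm ⟨y, h⟩).2]
      simp
  · simp
  · intro a
    simp [a.2]

theorem map_sub {p : α} {q : β} (E : α ≃ β) (e : {a : α // a ≠ p} ≃ {b : β // b ≠ q})
    (he : ∀ a : {a : α // a ≠ p}, E a.1 = (e a).1) (s : Finset α) :
    (Finset.subtype (fun a => a ≠ p) s).map e.toEmbedding =
      Finset.subtype (fun a => a ≠ q) (s.map E.toEmbedding) := by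
  ext y
  rw [mem_map_equiv, mem_subtype, mem_subtype, mem_map_equiv]
  have : E.symm y.1 = (e.symm y).1 := by
    rw [Equiv.symm_apply_eq, he, Equiv.apply_symm_apply]
  rw [this]

/-- full uniqueness: point, block off the point and labelling prescribed -/
theorem exists_iso {B : Set (Finset α)} {B' : Set (Finset β)} (hα : Fintype.card α = 22)
    (hB : IsSteinerSystem 3 6 B) (hβ : Fintype.card β = 22) (hB' : IsSteinerSystem 3 6 B')
    {p : α} {q : β} {h : Fin 6 → α} {h' : Fin 6 → β} (hi : Function.Injective h)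
    (hi' : Function.Injective h') (hb : univ.image h ∈ B) (hb' : univ.image h' ∈ B')
    (hp : p ∉ univ.image h) (hq : q ∉ univ.image h') :
    ∃ E : α ≃ β, (∀ s, s ∈ B ↔ s.map E.toEmbedding ∈ B') ∧ E p = q ∧ ∀ i, E (h i) = h' i := by
  have np : ∀ i, h i ≠ p := fun i e => hp (e ▸ mem_image_of_mem _ (mem_univ i))
  have nq : ∀ i, h' i ≠ q := fun i e => hq (e ▸ mem_image_of_mem _ (mem_univ i))
  have e1 : univ.image (fun i => (⟨h i, np i⟩ : {a : α // a ≠ p})) =
      Finset.subtype (fun a => a ≠ p) (univ.image h) := by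
    ext x
    simp only [mem_image, mem_univ, true_and, mem_subtype, Subtype.ext_iff]
  have e2 : univ.image (fun i => (⟨h' i, nq i⟩ : {a : β // a ≠ q})) =
      Finset.subtype (fun a => a ≠ q) (univ.image h') := by
    ext x
    simp only [mem_image, mem_univ, true_and, mem_subtype, Subtype.ext_iff]
  have H : LH (dl B p) (fun i => (⟨h i, np i⟩ : {a : α // a ≠ p})) :=
    ⟨card_ne hα p, derived hB p, fun i j hij => hi (congrArg Subtype.val hij), by
      rw [e1]; exact (hyp_of_block hα hB hb hp).2⟩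
  have H' : LH (dl B' q) (fun i => (⟨h' i, nq i⟩ : {a : β // a ≠ q})) :=
    ⟨card_ne hβ q, derived hB' q, fun i j hij => hi' (congrArg Subtype.val hij), by
      rw [e2]; exact (hyp_of_block hβ hB' hb' hq).2⟩
  obtain ⟨e, he, hei⟩ := hyp_iso H H'
  obtain ⟨E, Ep, Ee⟩ := exists_extend e
  have hEh : ∀ i, E (h i) = h' i := by
    intro i
    have h1 := Ee ⟨h i, np i⟩
    rw [hei] at h1
    exact h1
  have himg : (univ.image h).map E.toEmbedding = univ.image h' := by
    ext y
    simp only [mem_map, mem_image, mem_univ, true_and, Equiv.coe_toEmbedding]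
    constructor
    · rintro ⟨_, ⟨i, rfl⟩, rfl⟩
      exact ⟨i, (hEh i).symm⟩
    · rintro ⟨i, rfl⟩
      exact ⟨h i, ⟨i, rfl⟩, hEh i⟩
  have memE : ∀ s : Finset α, q ∈ s.map E.toEmbedding ↔ p ∈ s := by
    intro s
    rw [mem_map_equiv, ← Ep, Equiv.symm_apply_apply]
  have key : ∀ s : Finset α, s ∈ B → s.map E.toEmbedding ∈ B' := by
    intro s hs
    by_cases hps : p ∈ s
    · have h1 : Finset.subtype (fun a => a ≠ p) s ∈ dl B p := ⟨s, hs, hps, rfl⟩
      rw [he, map_sub E e Ee] at h1
      obtain ⟨t, ht, hqt, h2⟩ := h1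
      rw [sub_inj (by rw [memE]; tauto) h2]
      exact ht
    · have h1 : Finset.subtype (fun a => a ≠ p) s ∈ hyps B p := mem_hyps.2 ⟨s, hs, hps, rfl⟩
      rw [hyps_eq hα hB hb hp, mem_filter, mem_arcs] at h1
      obtain ⟨⟨h2, h3, _⟩, h4⟩ := h1
      have h5 : Finset.subtype (fun a => a ≠ q) (s.map E.toEmbedding) ∈ hyps B' q := by
        rw [hyps_eq hβ hB' hb' hq, mem_filter, mem_arcs, ← map_sub E e Ee]
        refine ⟨⟨by rw [card_map, h2], ?_, empty_subset _⟩, ?_⟩
        · intro l hl
          have hl' : l.map e.symm.toEmbedding ∈ dl B p := by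
            rw [he]
            have : (l.map e.symm.toEmbedding).map e.toEmbedding = l := by ext x; simp
            rwa [this]
          have := h3 _ hl'
          have e3 : l ∩ (Finset.subtype (fun a => a ≠ p) s).map e.toEmbedding =
              (l.map e.symm.toEmbedding ∩ Finset.subtype (fun a => a ≠ p) s).map e.toEmbedding := by
            ext x
            simp only [mem_inter, mem_map_equiv, Equiv.symm_symm, Equiv.apply_symm_apply]
          rw [e3, card_map]
          exact this
        · rw [← himg, ← map_sub E e Ee, ← map_inter, card_map]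
          exact h4
      rw [mem_hyps] at h5
      obtain ⟨t, ht, hqt, h6⟩ := h5
      rw [← sub_inj (by rw [memE]; tauto) h6]
      exact ht
  have hcard : (bl B).image (fun s => s.map E.toEmbedding) = bl B' := by
    apply eq_of_subset_of_card_le
    · intro t ht
      rw [mem_image] at ht
      obtain ⟨s, hs, rfl⟩ := ht
      exact mem_bl.2 (key s (mem_bl.1 hs))
    · rw [card_image_of_injective _ (map_injective _)]
      have h1 := l22_0 hα hB ∅ rfl
      have h2 := l22_0 hβ hB' ∅ rfl
      have e1 : thr B ∅ = bl B := by ext; simp [mem_thr]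
      have e2 : thr B' ∅ = bl B' := by ext; simp [mem_thr]
      rw [← e1, ← e2, h1, h2]
  refine ⟨E, fun s => ⟨key s, fun hs => ?_⟩, Ep, hEh⟩
  rw [← mem_bl, ← hcard, mem_image] at hs
  obtain ⟨t, ht, hts⟩ := hs
  rw [← map_injective _ hts]
  exact mem_bl.1 ht

/-- labelled antiflags exist -/
theorem exists_flag {B : Set (Finset α)} (hα : Fintype.card α = 22) (hB : IsSteinerSystem 3 6 B) :
    ∃ (p : α) (h : Fin 6 → α), Function.Injective h ∧ univ.image h ∈ B ∧ p ∉ univ.image h := by
  have hne : Nonempty α := by rw [← Fintype.card_pos_iff, hα]; norm_num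
  obtain ⟨p⟩ := hne
  have h1 := card_off hα hB p
  have h2 : ((bl B).filter (fun b => p ∉ b)).Nonempty := by rw [← card_pos, h1]; norm_num
  obtain ⟨b, hb⟩ := h2
  rw [mem_filter, mem_bl] at hb
  have e : Fin 6 ≃ b := (Fintype.equivFinOfCardEq (by rw [Fintype.card_coe, hB.1 b hb.1])).symm
  have h3 : univ.image (fun i => (e i).1) = b := by
    ext x
    rw [mem_image]
    constructor
    · rintro ⟨i, _, rfl⟩
      exact (e i).2
    · intro hx
      exact ⟨e.symm ⟨x, hx⟩, mem_univ _, by simp⟩
  exact ⟨p, fun i => (e i).1, fun i j hij => e.injective (Subtype.ext hij), by rw [h3]; exact hb.1,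
    by rw [h3]; exact hb.2⟩

end CfsgL.S22
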